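import Cfsg.Agent.OD.Pre
import Cfsg.Agent.H6.TCTop
import Cfsg.Agent.H6.LT12.D0
import Cfsg.Agent.H6.LT12.D1
set_option autoImplicit false
set_option maxRecDepth 100000
set_option Elab.async false
set_option linter.all false
namespace CfH6.LT12
open CfH6
noncomputable def u32 : Tr := (Tr.n (Tr.n (Tr.n (Tr.n (Tr.n t0 t1) (Tr.n t2 t3)) (Tr.n (Tr.n t4 t5) (Tr.n t6 t7))) (Tr.n (Tr.n (Tr.n t8 t9) (Tr.n t10 t11)) (Tr.n (Tr.n t12 t13) (Tr.n t14 t15)))) (Tr.n (Tr.n (Tr.n (Tr.n t16 t17) (Tr.n t18 t19)) (Tr.n (Tr.n t20 t21) (Tr.n t22 t23))) (Tr.n (Tr.n (Tr.n t24 t25) (Tr.n t26 t27)) (Tr.n (Tr.n t28 t29) (Tr.n t30 t31)))))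
noncomputable def tab0 : Tr := u32
noncomputable def u65 : Tr := (Tr.n (Tr.n (Tr.n (Tr.n (Tr.n t33 t34) (Tr.n t35 t36)) (Tr.n (Tr.n t37 t38) (Tr.n t39 t40))) (Tr.n (Tr.n (Tr.n t41 t42) (Tr.n t43 t44)) (Tr.n (Tr.n t45 t46) (Tr.n t47 t48)))) (Tr.n (Tr.n (Tr.n (Tr.n t49 t50) (Tr.n t51 t52)) (Tr.n (Tr.n t53 t54) (Tr.n t55 t56))) (Tr.n (Tr.n (Tr.n t57 t58) (Tr.n t59 t60)) (Tr.n (Tr.n t61 t62) (Tr.n t63 t64)))))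
noncomputable def tab1 : Tr := u65
noncomputable def u98 : Tr := (Tr.n (Tr.n (Tr.n (Tr.n (Tr.n t66 t67) (Tr.n t68 t69)) (Tr.n (Tr.n t70 t71) (Tr.n t72 t73))) (Tr.n (Tr.n (Tr.n t74 t75) (Tr.n t76 t77)) (Tr.n (Tr.n t78 t79) (Tr.n t80 t81)))) (Tr.n (Tr.n (Tr.n (Tr.n t82 t83) (Tr.n t84 t85)) (Tr.n (Tr.n t86 t87) (Tr.n t88 t89))) (Tr.n (Tr.n (Tr.n t90 t91) (Tr.n t92 t93)) (Tr.n (Tr.n t94 t95) (Tr.n t96 t97)))))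
noncomputable def tab2 : Tr := u98
noncomputable def u131 : Tr := (Tr.n (Tr.n (Tr.n (Tr.n (Tr.n t99 t100) (Tr.n t101 t102)) (Tr.n (Tr.n t103 t104) (Tr.n t105 t106))) (Tr.n (Tr.n (Tr.n t107 t108) (Tr.n t109 t110)) (Tr.n (Tr.n t111 t112) (Tr.n t113 t114)))) (Tr.n (Tr.n (Tr.n (Tr.n t115 t116) (Tr.n t117 t118)) (Tr.n (Tr.n t119 t120) (Tr.n t121 t122))) (Tr.n (Tr.n (Tr.n t123 t124) (Tr.n t125 t126)) (Tr.n (Tr.n t127 t128) (Tr.n t129 t130)))))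
noncomputable def tab3 : Tr := u131
noncomputable def u164 : Tr := (Tr.n (Tr.n (Tr.n (Tr.n (Tr.n t132 t133) (Tr.n t134 t135)) (Tr.n (Tr.n t136 t137) (Tr.n t138 t139))) (Tr.n (Tr.n (Tr.n t140 t141) (Tr.n t142 t143)) (Tr.n (Tr.n t144 t145) (Tr.n t146 t147)))) (Tr.n (Tr.n (Tr.n (Tr.n t148 t149) (Tr.n t150 t151)) (Tr.n (Tr.n t152 t153) (Tr.n t154 t155))) (Tr.n (Tr.n (Tr.n t156 t157) (Tr.n t158 t159)) (Tr.n (Tr.n t160 t161) (Tr.n t162 t163)))))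
noncomputable def tab4 : Tr := u164
noncomputable def u197 : Tr := (Tr.n (Tr.n (Tr.n (Tr.n (Tr.n t165 t166) (Tr.n t167 t168)) (Tr.n (Tr.n t169 t170) (Tr.n t171 t172))) (Tr.n (Tr.n (Tr.n t173 t174) (Tr.n t175 t176)) (Tr.n (Tr.n t177 t178) (Tr.n t179 t180)))) (Tr.n (Tr.n (Tr.n (Tr.n t181 t182) (Tr.n t183 t184)) (Tr.n (Tr.n t185 t186) (Tr.n t187 t188))) (Tr.n (Tr.n (Tr.n t189 t190) (Tr.n t191 t192)) (Tr.n (Tr.n t193 t194) (Tr.n t195 t196)))))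
noncomputable def tab5 : Tr := u197
noncomputable def u230 : Tr := (Tr.n (Tr.n (Tr.n (Tr.n (Tr.n t198 t199) (Tr.n t200 t201)) (Tr.n (Tr.n t202 t203) (Tr.n t204 t205))) (Tr.n (Tr.n (Tr.n t206 t207) (Tr.n t208 t209)) (Tr.n (Tr.n t210 t211) (Tr.n t212 t213)))) (Tr.n (Tr.n (Tr.n (Tr.n t214 t215) (Tr.n t216 t217)) (Tr.n (Tr.n t218 t219) (Tr.n t220 t221))) (Tr.n (Tr.n (Tr.n t222 t223) (Tr.n t224 t225)) (Tr.n (Tr.n t226 t227) (Tr.n t228 t229)))))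
noncomputable def tab6 : Tr := u230
noncomputable def u263 : Tr := (Tr.n (Tr.n (Tr.n (Tr.n (Tr.n t231 t232) (Tr.n t233 t234)) (Tr.n (Tr.n t235 t236) (Tr.n t237 t238))) (Tr.n (Tr.n (Tr.n t239 t240) (Tr.n t241 t242)) (Tr.n (Tr.n t243 t244) (Tr.n t245 t246)))) (Tr.n (Tr.n (Tr.n (Tr.n t247 t248) (Tr.n t249 t250)) (Tr.n (Tr.n t251 t252) (Tr.n t253 t254))) (Tr.n (Tr.n (Tr.n t255 t256) (Tr.n t257 t258)) (Tr.n (Tr.n t259 t260) (Tr.n t261 t262)))))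
noncomputable def tab7 : Tr := u263
noncomputable def u296 : Tr := (Tr.n (Tr.n (Tr.n (Tr.n (Tr.n t264 t265) (Tr.n t266 t267)) (Tr.n (Tr.n t268 t269) (Tr.n t270 t271))) (Tr.n (Tr.n (Tr.n t272 t273) (Tr.n t274 t275)) (Tr.n (Tr.n t276 t277) (Tr.n t278 t279)))) (Tr.n (Tr.n (Tr.n (Tr.n t280 t281) (Tr.n t282 t283)) (Tr.n (Tr.n t284 t285) (Tr.n t286 t287))) (Tr.n (Tr.n (Tr.n t288 t289) (Tr.n t290 t291)) (Tr.n (Tr.n t292 t293) (Tr.n t294 t295)))))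
noncomputable def tab8 : Tr := u296
noncomputable def u324 : Tr := (Tr.n (Tr.n (Tr.n (Tr.n (Tr.n t297 t298) (Tr.n t299 t300)) (Tr.n (Tr.n t301 t302) (Tr.n t303 (Tr.l (nat_lit 0))))) (Tr.n (Tr.n (Tr.n t304 t305) (Tr.n t306 (Tr.l (nat_lit 0)))) (Tr.n (Tr.n t307 t308) (Tr.n t309 (Tr.l (nat_lit 0)))))) (Tr.n (Tr.n (Tr.n (Tr.n t310 t311) (Tr.n t312 t313)) (Tr.n (Tr.n t314 t315) (Tr.n t316 (Tr.l (nat_lit 0))))) (Tr.n (Tr.n (Tr.n t317 t318) (Tr.n t319 (Tr.l (nat_lit 0)))) (Tr.n (Tr.n t320 t321) (Tr.n t322 t323)))))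
noncomputable def tab9 : Tr := u324
noncomputable def u357 : Tr := (Tr.n (Tr.n (Tr.n (Tr.n (Tr.n t325 t326) (Tr.n t327 t328)) (Tr.n (Tr.n t329 t330) (Tr.n t331 t332))) (Tr.n (Tr.n (Tr.n t333 t334) (Tr.n t335 t336)) (Tr.n (Tr.n t337 t338) (Tr.n t339 t340)))) (Tr.n (Tr.n (Tr.n (Tr.n t341 t342) (Tr.n t343 t344)) (Tr.n (Tr.n t345 t346) (Tr.n t347 t348))) (Tr.n (Tr.n (Tr.n t349 t350) (Tr.n t351 t352)) (Tr.n (Tr.n t353 t354) (Tr.n t355 t356)))))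
noncomputable def tab10 : Tr := u357
noncomputable def u390 : Tr := (Tr.n (Tr.n (Tr.n (Tr.n (Tr.n t358 t359) (Tr.n t360 t361)) (Tr.n (Tr.n t362 t363) (Tr.n t364 t365))) (Tr.n (Tr.n (Tr.n t366 t367) (Tr.n t368 t369)) (Tr.n (Tr.n t370 t371) (Tr.n t372 t373)))) (Tr.n (Tr.n (Tr.n (Tr.n t374 t375) (Tr.n t376 t377)) (Tr.n (Tr.n t378 t379) (Tr.n t380 t381))) (Tr.n (Tr.n (Tr.n t382 t383) (Tr.n t384 t385)) (Tr.n (Tr.n t386 t387) (Tr.n t388 t389)))))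
noncomputable def tab11 : Tr := u390
noncomputable def u423 : Tr := (Tr.n (Tr.n (Tr.n (Tr.n (Tr.n t391 t392) (Tr.n t393 t394)) (Tr.n (Tr.n t395 t396) (Tr.n t397 t398))) (Tr.n (Tr.n (Tr.n t399 t400) (Tr.n t401 t402)) (Tr.n (Tr.n t403 t404) (Tr.n t405 t406)))) (Tr.n (Tr.n (Tr.n (Tr.n t407 t408) (Tr.n t409 t410)) (Tr.n (Tr.n t411 t412) (Tr.n t413 t414))) (Tr.n (Tr.n (Tr.n t415 t416) (Tr.n t417 t418)) (Tr.n (Tr.n t419 t420) (Tr.n t421 t422)))))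
noncomputable def tab12 : Tr := u423
noncomputable def u456 : Tr := (Tr.n (Tr.n (Tr.n (Tr.n (Tr.n t424 t425) (Tr.n t426 t427)) (Tr.n (Tr.n t428 t429) (Tr.n t430 t431))) (Tr.n (Tr.n (Tr.n t432 t433) (Tr.n t434 t435)) (Tr.n (Tr.n t436 t437) (Tr.n t438 t439)))) (Tr.n (Tr.n (Tr.n (Tr.n t440 t441) (Tr.n t442 t443)) (Tr.n (Tr.n t444 t445) (Tr.n t446 t447))) (Tr.n (Tr.n (Tr.n t448 t449) (Tr.n t450 t451)) (Tr.n (Tr.n t452 t453) (Tr.n t454 t455)))))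
noncomputable def tab13 : Tr := u456
noncomputable def u489 : Tr := (Tr.n (Tr.n (Tr.n (Tr.n (Tr.n t457 t458) (Tr.n t459 t460)) (Tr.n (Tr.n t461 t462) (Tr.n t463 t464))) (Tr.n (Tr.n (Tr.n t465 t466) (Tr.n t467 t468)) (Tr.n (Tr.n t469 t470) (Tr.n t471 t472)))) (Tr.n (Tr.n (Tr.n (Tr.n t473 t474) (Tr.n t475 t476)) (Tr.n (Tr.n t477 t478) (Tr.n t479 t480))) (Tr.n (Tr.n (Tr.n t481 t482) (Tr.n t483 t484)) (Tr.n (Tr.n t485 t486) (Tr.n t487 t488)))))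
noncomputable def tab14 : Tr := u489
noncomputable def u522 : Tr := (Tr.n (Tr.n (Tr.n (Tr.n (Tr.n t490 t491) (Tr.n t492 t493)) (Tr.n (Tr.n t494 t495) (Tr.n t496 t497))) (Tr.n (Tr.n (Tr.n t498 t499) (Tr.n t500 t501)) (Tr.n (Tr.n t502 t503) (Tr.n t504 t505)))) (Tr.n (Tr.n (Tr.n (Tr.n t506 t507) (Tr.n t508 t509)) (Tr.n (Tr.n t510 t511) (Tr.n t512 t513))) (Tr.n (Tr.n (Tr.n t514 t515) (Tr.n t516 t517)) (Tr.n (Tr.n t518 t519) (Tr.n t520 t521)))))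
noncomputable def tab15 : Tr := u522
noncomputable def u555 : Tr := (Tr.n (Tr.n (Tr.n (Tr.n (Tr.n t523 t524) (Tr.n t525 t526)) (Tr.n (Tr.n t527 t528) (Tr.n t529 t530))) (Tr.n (Tr.n (Tr.n t531 t532) (Tr.n t533 t534)) (Tr.n (Tr.n t535 t536) (Tr.n t537 t538)))) (Tr.n (Tr.n (Tr.n (Tr.n t539 t540) (Tr.n t541 t542)) (Tr.n (Tr.n t543 t544) (Tr.n t545 t546))) (Tr.n (Tr.n (Tr.n t547 t548) (Tr.n t549 t550)) (Tr.n (Tr.n t551 t552) (Tr.n t553 t554)))))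
noncomputable def tab16 : Tr := u555
noncomputable def u588 : Tr := (Tr.n (Tr.n (Tr.n (Tr.n (Tr.n t556 t557) (Tr.n t558 t559)) (Tr.n (Tr.n t560 t561) (Tr.n t562 t563))) (Tr.n (Tr.n (Tr.n t564 t565) (Tr.n t566 t567)) (Tr.n (Tr.n t568 t569) (Tr.n t570 t571)))) (Tr.n (Tr.n (Tr.n (Tr.n t572 t573) (Tr.n t574 t575)) (Tr.n (Tr.n t576 t577) (Tr.n t578 t579))) (Tr.n (Tr.n (Tr.n t580 t581) (Tr.n t582 t583)) (Tr.n (Tr.n t584 t585) (Tr.n t586 t587)))))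
noncomputable def tab17 : Tr := u588
noncomputable def u620 : Tr := (Tr.n (Tr.n (Tr.n (Tr.n (Tr.n t589 t590) (Tr.n t591 t592)) (Tr.n (Tr.n t593 t594) (Tr.n t595 t596))) (Tr.n (Tr.n (Tr.n t597 t598) (Tr.n t599 t600)) (Tr.n (Tr.n t601 t602) (Tr.n t603 t604)))) (Tr.n (Tr.n (Tr.n (Tr.n t605 t606) (Tr.n t607 t608)) (Tr.n (Tr.n t609 t610) (Tr.n t611 t612))) (Tr.n (Tr.n (Tr.n t613 t614) (Tr.n t615 (Tr.l (nat_lit 0)))) (Tr.n (Tr.n t616 t617) (Tr.n t618 t619)))))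
noncomputable def tab18 : Tr := u620
noncomputable def u653 : Tr := (Tr.n (Tr.n (Tr.n (Tr.n (Tr.n t621 t622) (Tr.n t623 t624)) (Tr.n (Tr.n t625 t626) (Tr.n t627 t628))) (Tr.n (Tr.n (Tr.n t629 t630) (Tr.n t631 t632)) (Tr.n (Tr.n t633 t634) (Tr.n t635 t636)))) (Tr.n (Tr.n (Tr.n (Tr.n t637 t638) (Tr.n t639 t640)) (Tr.n (Tr.n t641 t642) (Tr.n t643 t644))) (Tr.n (Tr.n (Tr.n t645 t646) (Tr.n t647 t648)) (Tr.n (Tr.n t649 t650) (Tr.n t651 t652)))))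
noncomputable def tab19 : Tr := u653
noncomputable def u681 : Tr := (Tr.n (Tr.n (Tr.n (Tr.n (Tr.n t654 t655) (Tr.n t656 t657)) (Tr.n (Tr.n t658 t659) (Tr.n t660 (Tr.l (nat_lit 0))))) (Tr.n (Tr.n (Tr.n t661 t662) (Tr.n t663 (Tr.l (nat_lit 0)))) (Tr.n (Tr.n t664 t665) (Tr.n t666 (Tr.l (nat_lit 0)))))) (Tr.n (Tr.n (Tr.n (Tr.n t667 t668) (Tr.n t669 t670)) (Tr.n (Tr.n t671 t672) (Tr.n t673 (Tr.l (nat_lit 0))))) (Tr.n (Tr.n (Tr.n t674 t675) (Tr.n t676 (Tr.l (nat_lit 0)))) (Tr.n (Tr.n t677 t678) (Tr.n t679 t680)))))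
noncomputable def tab20 : Tr := u681
noncomputable def ty0 : TT := (TT.n (TT.n (TT.n (TT.n (TT.n (TT.n (TT.n (TT.l (Ty.ssub [] []))
 (TT.l (Ty.srel [nat_lit 1, nat_lit 2, nat_lit 3, nat_lit 2, nat_lit 1, nat_lit 0, nat_lit 2, nat_lit 3, nat_lit 2, nat_lit 1, nat_lit 0, nat_lit 2, nat_lit 3, nat_lit 2, nat_lit 0, nat_lit 1, nat_lit 2, nat_lit 3, nat_lit 2, nat_lit 0, nat_lit 1, nat_lit 2, nat_lit 3, nat_lit 2])))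
 (TT.l (Ty.srel [nat_lit 3, nat_lit 7, nat_lit 3, nat_lit 1, nat_lit 3, nat_lit 7, nat_lit 6, nat_lit 3, nat_lit 1])))
 (TT.n (TT.n (TT.l (Ty.srel [nat_lit 5, nat_lit 0, nat_lit 5, nat_lit 0, nat_lit 5]))
 (TT.l (Ty.relL (nat_lit 1) [nat_lit 3, nat_lit 1, nat_lit 2, nat_lit 0, nat_lit 1, nat_lit 3, nat_lit 1, nat_lit 2, nat_lit 1, nat_lit 3, nat_lit 1, nat_lit 0, nat_lit 2, nat_lit 1, nat_lit 3, nat_lit 1, nat_lit 0, nat_lit 2, nat_lit 1, nat_lit 0, nat_lit 3, nat_lit 1, nat_lit 2])))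
 (TT.l (Ty.srel [nat_lit 3, nat_lit 1, nat_lit 2, nat_lit 3, nat_lit 2, nat_lit 1, nat_lit 3, nat_lit 1, nat_lit 0, nat_lit 5, nat_lit 2, nat_lit 3, nat_lit 1, nat_lit 3, nat_lit 0, nat_lit 2, nat_lit 1, nat_lit 0, nat_lit 3, nat_lit 1, nat_lit 3, nat_lit 2, nat_lit 5]))))
 (TT.n (TT.n (TT.n (TT.l (Ty.rel3 (nat_lit 7) (nat_lit 0) (nat_lit 7)))
 (TT.l (Ty.relL (nat_lit 2) [nat_lit 6, nat_lit 5, nat_lit 8, nat_lit 7, nat_lit 0, nat_lit 5, nat_lit 6, nat_lit 2, nat_lit 0, nat_lit 8, nat_lit 2, nat_lit 6, nat_lit 5, nat_lit 0, nat_lit 8, nat_lit 5, nat_lit 6, nat_lit 2, nat_lit 8])))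
 (TT.l (Ty.srel [nat_lit 8, nat_lit 5, nat_lit 6, nat_lit 2, nat_lit 8, nat_lit 0, nat_lit 2, nat_lit 6, nat_lit 5, nat_lit 8, nat_lit 7, nat_lit 0, nat_lit 5, nat_lit 6, nat_lit 2, nat_lit 0, nat_lit 8, nat_lit 2, nat_lit 6, nat_lit 5])))
 (TT.n (TT.n (TT.l (Ty.srel [nat_lit 4, nat_lit 0, nat_lit 4]))
 (TT.l (Ty.relL (nat_lit 1) [nat_lit 2, nat_lit 3, nat_lit 2, nat_lit 1, nat_lit 0, nat_lit 2, nat_lit 3, nat_lit 2, nat_lit 1, nat_lit 0, nat_lit 2, nat_lit 3, nat_lit 2, nat_lit 0, nat_lit 1, nat_lit 2, nat_lit 3, nat_lit 2, nat_lit 0, nat_lit 1, nat_lit 2, nat_lit 3, nat_lit 2])))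
 (TT.l (Ty.srel [nat_lit 2, nat_lit 6, nat_lit 5, nat_lit 8, nat_lit 7, nat_lit 0, nat_lit 5, nat_lit 6, nat_lit 2, nat_lit 0, nat_lit 8, nat_lit 2, nat_lit 6, nat_lit 5, nat_lit 0, nat_lit 8, nat_lit 5, nat_lit 6, nat_lit 2, nat_lit 8])))))
 (TT.n (TT.n (TT.n (TT.n (TT.l (Ty.dfn))
 (TT.l (Ty.relL (nat_lit 1) [nat_lit 2, nat_lit 3, nat_lit 2, nat_lit 0, nat_lit 1, nat_lit 2, nat_lit 3, nat_lit 2, nat_lit 1, nat_lit 0, nat_lit 2, nat_lit 3, nat_lit 2, nat_lit 1, nat_lit 0, nat_lit 2, nat_lit 3, nat_lit 2, nat_lit 0, nat_lit 1, nat_lit 2, nat_lit 3, nat_lit 2])))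
 (TT.l (Ty.srel [nat_lit 7, nat_lit 3, nat_lit 7, nat_lit 5, nat_lit 3, nat_lit 7, nat_lit 6, nat_lit 5, nat_lit 0, nat_lit 3, nat_lit 5, nat_lit 6, nat_lit 7, nat_lit 3, nat_lit 5])))
 (TT.n (TT.n (TT.l (Ty.srel [nat_lit 1, nat_lit 2, nat_lit 3, nat_lit 2, nat_lit 0, nat_lit 1, nat_lit 2, nat_lit 3, nat_lit 2, nat_lit 0, nat_lit 1, nat_lit 2, nat_lit 3, nat_lit 2, nat_lit 1, nat_lit 0, nat_lit 2, nat_lit 3, nat_lit 2, nat_lit 1, nat_lit 0, nat_lit 2, nat_lit 3, nat_lit 2]))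
 (TT.l (Ty.relL (nat_lit 1) [nat_lit 2, nat_lit 0, nat_lit 3, nat_lit 1, nat_lit 3, nat_lit 2, nat_lit 5, nat_lit 0, nat_lit 1, nat_lit 3, nat_lit 1, nat_lit 2, nat_lit 3, nat_lit 2, nat_lit 1, nat_lit 3, nat_lit 0, nat_lit 5, nat_lit 2, nat_lit 3, nat_lit 1, nat_lit 3])))
 (TT.l (Ty.srel [nat_lit 1, nat_lit 2, nat_lit 3, nat_lit 2, nat_lit 0, nat_lit 1, nat_lit 2, nat_lit 3, nat_lit 2, nat_lit 1, nat_lit 0, nat_lit 2, nat_lit 3, nat_lit 2, nat_lit 1, nat_lit 0, nat_lit 2, nat_lit 3, nat_lit 2, nat_lit 0, nat_lit 1, nat_lit 2, nat_lit 3, nat_lit 2]))))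
 (TT.n (TT.n (TT.n (TT.l (Ty.rel5 (nat_lit 5) (nat_lit 0) (nat_lit 5) (nat_lit 0) (nat_lit 5)))
 (TT.l (Ty.srel [nat_lit 6, nat_lit 2, nat_lit 6, nat_lit 3, nat_lit 2, nat_lit 6, nat_lit 0, nat_lit 2, nat_lit 6, nat_lit 3, nat_lit 2, nat_lit 0, nat_lit 6, nat_lit 2, nat_lit 3, nat_lit 6, nat_lit 2])))
 (TT.l (Ty.srel [nat_lit 2, nat_lit 6, nat_lit 3, nat_lit 2, nat_lit 6, nat_lit 0, nat_lit 2, nat_lit 3, nat_lit 6, nat_lit 2, nat_lit 0, nat_lit 6, nat_lit 2, nat_lit 3, nat_lit 6, nat_lit 2, nat_lit 6])))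
 (TT.n (TT.l (Ty.srel [nat_lit 5, nat_lit 3, nat_lit 7, nat_lit 6, nat_lit 5, nat_lit 3, nat_lit 0, nat_lit 5, nat_lit 6, nat_lit 7, nat_lit 3, nat_lit 5, nat_lit 7, nat_lit 3, nat_lit 7]))
 (TT.l (Ty.relL (nat_lit 8) [nat_lit 5, nat_lit 6, nat_lit 2, nat_lit 8, nat_lit 0, nat_lit 2, nat_lit 6, nat_lit 5, nat_lit 8, nat_lit 7, nat_lit 0, nat_lit 5, nat_lit 6, nat_lit 2, nat_lit 0, nat_lit 8, nat_lit 2, nat_lit 6, nat_lit 5]))))))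
 (TT.n (TT.n (TT.n (TT.n (TT.n (TT.l (Ty.rel1 (nat_lit 0)))
 (TT.l (Ty.relL (nat_lit 2) [nat_lit 3, nat_lit 6, nat_lit 2, nat_lit 0, nat_lit 6, nat_lit 2, nat_lit 3, nat_lit 6, nat_lit 2, nat_lit 6, nat_lit 0, nat_lit 2, nat_lit 6, nat_lit 3, nat_lit 2, nat_lit 6])))
 (TT.l (Ty.srel [nat_lit 1, nat_lit 3, nat_lit 1, nat_lit 2, nat_lit 0, nat_lit 1, nat_lit 3, nat_lit 1, nat_lit 2, nat_lit 1, nat_lit 3, nat_lit 1, nat_lit 0, nat_lit 2, nat_lit 1, nat_lit 3, nat_lit 1, nat_lit 0, nat_lit 2, nat_lit 1, nat_lit 3, nat_lit 0, nat_lit 1, nat_lit 2])))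
 (TT.n (TT.n (TT.l (Ty.relL (nat_lit 6) [nat_lit 2, nat_lit 3, nat_lit 6, nat_lit 2, nat_lit 6, nat_lit 0, nat_lit 2, nat_lit 6, nat_lit 3, nat_lit 2, nat_lit 6, nat_lit 0, nat_lit 2, nat_lit 3, nat_lit 6, nat_lit 2]))
 (TT.l (Ty.relL (nat_lit 2) [nat_lit 1, nat_lit 0, nat_lit 3, nat_lit 1, nat_lit 3, nat_lit 2, nat_lit 5, nat_lit 0, nat_lit 3, nat_lit 1, nat_lit 2, nat_lit 3, nat_lit 2, nat_lit 1, nat_lit 3, nat_lit 1, nat_lit 0, nat_lit 5, nat_lit 2, nat_lit 3, nat_lit 1, nat_lit 3])))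
 (TT.l (Ty.srel [nat_lit 5, nat_lit 2, nat_lit 3, nat_lit 1, nat_lit 3, nat_lit 0, nat_lit 2, nat_lit 1, nat_lit 0, nat_lit 3, nat_lit 1, nat_lit 3, nat_lit 2, nat_lit 5, nat_lit 0, nat_lit 3, nat_lit 1, nat_lit 2, nat_lit 3, nat_lit 2, nat_lit 1, nat_lit 3, nat_lit 1]))))
 (TT.n (TT.n (TT.n (TT.l (Ty.rel5 (nat_lit 2) (nat_lit 0) (nat_lit 2) (nat_lit 0) (nat_lit 2)))
 (TT.l (Ty.relL (nat_lit 3) [nat_lit 1, nat_lit 2, nat_lit 0, nat_lit 1, nat_lit 3, nat_lit 1, nat_lit 2, nat_lit 0, nat_lit 1, nat_lit 3, nat_lit 1, nat_lit 2, nat_lit 1, nat_lit 3, nat_lit 1, nat_lit 0, nat_lit 2, nat_lit 1, nat_lit 3, nat_lit 1, nat_lit 0, nat_lit 2, nat_lit 1])))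
 (TT.l (Ty.relL (nat_lit 5) [nat_lit 6, nat_lit 7, nat_lit 3, nat_lit 5, nat_lit 7, nat_lit 3, nat_lit 7, nat_lit 0, nat_lit 5, nat_lit 3, nat_lit 7, nat_lit 6, nat_lit 5, nat_lit 3])))
 (TT.n (TT.l (Ty.srel [nat_lit 2, nat_lit 0, nat_lit 2, nat_lit 0, nat_lit 2]))
 (TT.l (Ty.srel [nat_lit 8, nat_lit 2, nat_lit 6, nat_lit 5, nat_lit 0, nat_lit 8, nat_lit 5, nat_lit 6, nat_lit 2, nat_lit 8, nat_lit 0, nat_lit 2, nat_lit 6, nat_lit 5, nat_lit 8, nat_lit 7, nat_lit 0, nat_lit 5, nat_lit 6, nat_lit 2])))))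
 (TT.n (TT.n (TT.n (TT.n (TT.l (Ty.rel3 (nat_lit 4) (nat_lit 0) (nat_lit 4)))
 (TT.l (Ty.relL (nat_lit 1) [nat_lit 3, nat_lit 1, nat_lit 2, nat_lit 3, nat_lit 2, nat_lit 1, nat_lit 3, nat_lit 0, nat_lit 5, nat_lit 2, nat_lit 3, nat_lit 1, nat_lit 3, nat_lit 0, nat_lit 1, nat_lit 2, nat_lit 0, nat_lit 3, nat_lit 1, nat_lit 3, nat_lit 2, nat_lit 5])))
 (TT.l (Ty.srel [nat_lit 5, nat_lit 6, nat_lit 2, nat_lit 0, nat_lit 8, nat_lit 2, nat_lit 6, nat_lit 5, nat_lit 0, nat_lit 8, nat_lit 5, nat_lit 6, nat_lit 2, nat_lit 8, nat_lit 0, nat_lit 2, nat_lit 6, nat_lit 5, nat_lit 8, nat_lit 7])))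
 (TT.n (TT.n (TT.l (Ty.srel [nat_lit 8, nat_lit 0, nat_lit 8]))
 (TT.l (Ty.relL (nat_lit 5) [nat_lit 2, nat_lit 3, nat_lit 1, nat_lit 3, nat_lit 0, nat_lit 1, nat_lit 2, nat_lit 0, nat_lit 3, nat_lit 1, nat_lit 3, nat_lit 2, nat_lit 5, nat_lit 0, nat_lit 1, nat_lit 3, nat_lit 1, nat_lit 2, nat_lit 3, nat_lit 2, nat_lit 1, nat_lit 3])))
 (TT.l (Ty.relL (nat_lit 3) [nat_lit 1, nat_lit 2, nat_lit 3, nat_lit 2, nat_lit 1, nat_lit 3, nat_lit 1, nat_lit 0, nat_lit 5, nat_lit 2, nat_lit 3, nat_lit 1, nat_lit 3, nat_lit 0, nat_lit 2, nat_lit 1, nat_lit 0, nat_lit 3, nat_lit 1, nat_lit 3, nat_lit 2, nat_lit 5]))))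
 (TT.n (TT.n (TT.n (TT.l (Ty.relL (nat_lit 2) [nat_lit 6, nat_lit 3, nat_lit 2, nat_lit 6, nat_lit 0, nat_lit 2, nat_lit 3, nat_lit 6, nat_lit 2, nat_lit 0, nat_lit 6, nat_lit 2, nat_lit 3, nat_lit 6, nat_lit 2, nat_lit 6]))
 (TT.l (Ty.relL (nat_lit 2) [nat_lit 3, nat_lit 2, nat_lit 0, nat_lit 1, nat_lit 2, nat_lit 3, nat_lit 2, nat_lit 0, nat_lit 1, nat_lit 2, nat_lit 3, nat_lit 2, nat_lit 0, nat_lit 1, nat_lit 2, nat_lit 3, nat_lit 2, nat_lit 1, nat_lit 0, nat_lit 2, nat_lit 3, nat_lit 2, nat_lit 1])))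
 (TT.l (Ty.relL (nat_lit 2) [nat_lit 6, nat_lit 5, nat_lit 0, nat_lit 7, nat_lit 8, nat_lit 5, nat_lit 6, nat_lit 2, nat_lit 0, nat_lit 8, nat_lit 2, nat_lit 6, nat_lit 5, nat_lit 8, nat_lit 0, nat_lit 5, nat_lit 6, nat_lit 2, nat_lit 8])))
 (TT.n (TT.l (Ty.relL (nat_lit 2) [nat_lit 3, nat_lit 2, nat_lit 1, nat_lit 0, nat_lit 2, nat_lit 3, nat_lit 2, nat_lit 0, nat_lit 1, nat_lit 2, nat_lit 3, nat_lit 2, nat_lit 0, nat_lit 1, nat_lit 2, nat_lit 3, nat_lit 2, nat_lit 0, nat_lit 1, nat_lit 2, nat_lit 3, nat_lit 2, nat_lit 1]))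
 (TT.l (Ty.srel [nat_lit 6, nat_lit 2, nat_lit 3, nat_lit 6, nat_lit 2, nat_lit 0, nat_lit 6, nat_lit 2, nat_lit 6, nat_lit 3, nat_lit 2, nat_lit 6, nat_lit 0, nat_lit 2, nat_lit 6, nat_lit 3, nat_lit 2])))))))
 (TT.n (TT.n (TT.n (TT.n (TT.n (TT.n (TT.l (Ty.rel3 (nat_lit 8) (nat_lit 0) (nat_lit 8)))
 (TT.l (Ty.srel [nat_lit 1, nat_lit 3, nat_lit 1, nat_lit 2, nat_lit 3, nat_lit 2, nat_lit 1, nat_lit 3, nat_lit 0, nat_lit 5, nat_lit 2, nat_lit 3, nat_lit 1, nat_lit 3, nat_lit 0, nat_lit 1, nat_lit 2, nat_lit 0, nat_lit 3, nat_lit 1, nat_lit 3, nat_lit 2, nat_lit 5])))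
 (TT.l (Ty.srel [nat_lit 3, nat_lit 1, nat_lit 2, nat_lit 0, nat_lit 1, nat_lit 3, nat_lit 1, nat_lit 2, nat_lit 0, nat_lit 1, nat_lit 3, nat_lit 1, nat_lit 2, nat_lit 1, nat_lit 3, nat_lit 1, nat_lit 0, nat_lit 2, nat_lit 1, nat_lit 3, nat_lit 1, nat_lit 0, nat_lit 2, nat_lit 1])))
 (TT.n (TT.n (TT.l (Ty.srel [nat_lit 1, nat_lit 3, nat_lit 6, nat_lit 7, nat_lit 3, nat_lit 1, nat_lit 3, nat_lit 7, nat_lit 3]))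
 (TT.l (Ty.srel [nat_lit 1, nat_lit 3, nat_lit 1, nat_lit 2, nat_lit 1, nat_lit 3, nat_lit 1, nat_lit 0, nat_lit 2, nat_lit 1, nat_lit 3, nat_lit 1, nat_lit 0, nat_lit 2, nat_lit 1, nat_lit 3, nat_lit 0, nat_lit 1, nat_lit 2, nat_lit 0, nat_lit 1, nat_lit 3, nat_lit 1, nat_lit 2])))
 (TT.l (Ty.srel [nat_lit 5, nat_lit 2, nat_lit 3, nat_lit 1, nat_lit 3, nat_lit 0, nat_lit 1, nat_lit 2, nat_lit 0, nat_lit 3, nat_lit 1, nat_lit 3, nat_lit 2, nat_lit 5, nat_lit 0, nat_lit 1, nat_lit 3, nat_lit 1, nat_lit 2, nat_lit 3, nat_lit 2, nat_lit 1, nat_lit 3]))))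
 (TT.n (TT.n (TT.n (TT.l (Ty.rel3 (nat_lit 6) (nat_lit 0) (nat_lit 6)))
 (TT.l (Ty.relL (nat_lit 6) [nat_lit 2, nat_lit 6, nat_lit 3, nat_lit 2, nat_lit 6, nat_lit 0, nat_lit 2, nat_lit 6, nat_lit 3, nat_lit 2, nat_lit 0, nat_lit 6, nat_lit 2, nat_lit 3, nat_lit 6, nat_lit 2])))
 (TT.l (Ty.srel [nat_lit 2, nat_lit 3, nat_lit 6, nat_lit 2, nat_lit 0, nat_lit 6, nat_lit 2, nat_lit 3, nat_lit 6, nat_lit 2, nat_lit 6, nat_lit 0, nat_lit 2, nat_lit 6, nat_lit 3, nat_lit 2, nat_lit 6])))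
 (TT.n (TT.n (TT.l (Ty.srel [nat_lit 3, nat_lit 1, nat_lit 3, nat_lit 2, nat_lit 5, nat_lit 0, nat_lit 3, nat_lit 1, nat_lit 2, nat_lit 3, nat_lit 2, nat_lit 1, nat_lit 3, nat_lit 1, nat_lit 0, nat_lit 5, nat_lit 2, nat_lit 3, nat_lit 1, nat_lit 3, nat_lit 0, nat_lit 2, nat_lit 1]))
 (TT.l (Ty.skip)))
 (TT.l (Ty.srel [nat_lit 2, nat_lit 1, nat_lit 0, nat_lit 3, nat_lit 1, nat_lit 3, nat_lit 2, nat_lit 5, nat_lit 0, nat_lit 3, nat_lit 1, nat_lit 2, nat_lit 3, nat_lit 2, nat_lit 1, nat_lit 3, nat_lit 1, nat_lit 0, nat_lit 5, nat_lit 2, nat_lit 3, nat_lit 1, nat_lit 3])))))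
 (TT.n (TT.n (TT.n (TT.n (TT.l (Ty.srel [nat_lit 0]))
 (TT.l (Ty.relL (nat_lit 1) [nat_lit 3, nat_lit 1, nat_lit 2, nat_lit 0, nat_lit 1, nat_lit 3, nat_lit 1, nat_lit 2, nat_lit 1, nat_lit 3, nat_lit 1, nat_lit 0, nat_lit 2, nat_lit 1, nat_lit 3, nat_lit 1, nat_lit 0, nat_lit 2, nat_lit 1, nat_lit 3, nat_lit 0, nat_lit 1, nat_lit 2])))
 (TT.l (Ty.relL (nat_lit 7) [nat_lit 3, nat_lit 7, nat_lit 5, nat_lit 3, nat_lit 7, nat_lit 6, nat_lit 5, nat_lit 0, nat_lit 3, nat_lit 5, nat_lit 6, nat_lit 7, nat_lit 3, nat_lit 5])))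
 (TT.n (TT.n (TT.l (Ty.srel [nat_lit 3, nat_lit 0, nat_lit 3]))
 (TT.l (Ty.relL (nat_lit 8) [nat_lit 2, nat_lit 6, nat_lit 5, nat_lit 0, nat_lit 8, nat_lit 5, nat_lit 6, nat_lit 2, nat_lit 8, nat_lit 0, nat_lit 2, nat_lit 6, nat_lit 5, nat_lit 8, nat_lit 7, nat_lit 0, nat_lit 5, nat_lit 6, nat_lit 2])))
 (TT.l (Ty.relL (nat_lit 6) [nat_lit 2, nat_lit 3, nat_lit 6, nat_lit 2, nat_lit 0, nat_lit 6, nat_lit 2, nat_lit 6, nat_lit 3, nat_lit 2, nat_lit 6, nat_lit 0, nat_lit 2, nat_lit 6, nat_lit 3, nat_lit 2]))))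
 (TT.n (TT.n (TT.n (TT.l (Ty.srel [nat_lit 6, nat_lit 0, nat_lit 6]))
 (TT.l (Ty.relL (nat_lit 5) [nat_lit 6, nat_lit 2, nat_lit 0, nat_lit 8, nat_lit 2, nat_lit 6, nat_lit 5, nat_lit 0, nat_lit 8, nat_lit 5, nat_lit 6, nat_lit 2, nat_lit 8, nat_lit 0, nat_lit 2, nat_lit 6, nat_lit 5, nat_lit 8, nat_lit 7])))
 (TT.l (Ty.srel [nat_lit 5, nat_lit 6, nat_lit 7, nat_lit 3, nat_lit 5, nat_lit 7, nat_lit 3, nat_lit 7, nat_lit 0, nat_lit 5, nat_lit 3, nat_lit 7, nat_lit 6, nat_lit 5, nat_lit 3])))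
 (TT.n (TT.l (Ty.relL (nat_lit 1) [nat_lit 3, nat_lit 6, nat_lit 7, nat_lit 3, nat_lit 1, nat_lit 3, nat_lit 7, nat_lit 3]))
 (TT.l (Ty.relL (nat_lit 7) [nat_lit 8, nat_lit 5, nat_lit 6, nat_lit 2, nat_lit 0, nat_lit 8, nat_lit 2, nat_lit 6, nat_lit 5, nat_lit 8, nat_lit 0, nat_lit 5, nat_lit 6, nat_lit 2, nat_lit 8, nat_lit 0, nat_lit 2, nat_lit 6, nat_lit 5]))))))
 (TT.n (TT.n (TT.n (TT.n (TT.n (TT.l (Ty.rel3 (nat_lit 3) (nat_lit 0) (nat_lit 3)))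
 (TT.l (Ty.srel [nat_lit 5, nat_lit 6, nat_lit 2, nat_lit 8, nat_lit 0, nat_lit 2, nat_lit 6, nat_lit 5, nat_lit 0, nat_lit 7, nat_lit 8, nat_lit 5, nat_lit 6, nat_lit 2, nat_lit 0, nat_lit 8, nat_lit 2, nat_lit 6, nat_lit 5, nat_lit 8])))
 (TT.l (Ty.relL (nat_lit 3) [nat_lit 1, nat_lit 3, nat_lit 2, nat_lit 5, nat_lit 0, nat_lit 1, nat_lit 3, nat_lit 1, nat_lit 2, nat_lit 3, nat_lit 2, nat_lit 1, nat_lit 3, nat_lit 0, nat_lit 5, nat_lit 2, nat_lit 3, nat_lit 1, nat_lit 3, nat_lit 0, nat_lit 1, nat_lit 2])))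
 (TT.n (TT.n (TT.l (Ty.srel [nat_lit 6, nat_lit 2, nat_lit 3, nat_lit 6, nat_lit 2, nat_lit 6, nat_lit 0, nat_lit 2, nat_lit 6, nat_lit 3, nat_lit 2, nat_lit 6, nat_lit 0, nat_lit 2, nat_lit 3, nat_lit 6, nat_lit 2]))
 (TT.l (Ty.relL (nat_lit 2) [nat_lit 1, nat_lit 3, nat_lit 1, nat_lit 0, nat_lit 2, nat_lit 1, nat_lit 3, nat_lit 0, nat_lit 1, nat_lit 2, nat_lit 0, nat_lit 1, nat_lit 3, nat_lit 1, nat_lit 2, nat_lit 0, nat_lit 1, nat_lit 3, nat_lit 1, nat_lit 2, nat_lit 1, nat_lit 3, nat_lit 1])))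
 (TT.l (Ty.srel [nat_lit 7, nat_lit 8, nat_lit 5, nat_lit 6, nat_lit 2, nat_lit 0, nat_lit 8, nat_lit 2, nat_lit 6, nat_lit 5, nat_lit 8, nat_lit 0, nat_lit 5, nat_lit 6, nat_lit 2, nat_lit 8, nat_lit 0, nat_lit 2, nat_lit 6, nat_lit 5]))))
 (TT.n (TT.n (TT.n (TT.l (Ty.srel [nat_lit 7, nat_lit 0, nat_lit 7]))
 (TT.l (Ty.relL (nat_lit 1) [nat_lit 3, nat_lit 1, nat_lit 2, nat_lit 1, nat_lit 3, nat_lit 1, nat_lit 0, nat_lit 2, nat_lit 1, nat_lit 3, nat_lit 1, nat_lit 0, nat_lit 2, nat_lit 1, nat_lit 3, nat_lit 0, nat_lit 1, nat_lit 2, nat_lit 0, nat_lit 1, nat_lit 3, nat_lit 1, nat_lit 2])))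
 (TT.l (Ty.srel [nat_lit 8, nat_lit 2, nat_lit 6, nat_lit 5, nat_lit 8, nat_lit 0, nat_lit 5, nat_lit 6, nat_lit 2, nat_lit 8, nat_lit 0, nat_lit 2, nat_lit 6, nat_lit 5, nat_lit 0, nat_lit 7, nat_lit 8, nat_lit 5, nat_lit 6, nat_lit 2])))
 (TT.n (TT.l (Ty.relL (nat_lit 3) [nat_lit 7, nat_lit 3, nat_lit 1, nat_lit 3, nat_lit 7, nat_lit 6, nat_lit 3, nat_lit 1]))
 (TT.l (Ty.relL (nat_lit 8) [nat_lit 2, nat_lit 6, nat_lit 5, nat_lit 8, nat_lit 0, nat_lit 5, nat_lit 6, nat_lit 2, nat_lit 8, nat_lit 0, nat_lit 2, nat_lit 6, nat_lit 5, nat_lit 0, nat_lit 7, nat_lit 8, nat_lit 5, nat_lit 6, nat_lit 2])))))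
 (TT.n (TT.n (TT.n (TT.n (TT.l (Ty.rel3 (nat_lit 1) (nat_lit 0) (nat_lit 1)))
 (TT.l (Ty.relL (nat_lit 5) [nat_lit 6, nat_lit 2, nat_lit 8, nat_lit 0, nat_lit 2, nat_lit 6, nat_lit 5, nat_lit 0, nat_lit 7, nat_lit 8, nat_lit 5, nat_lit 6, nat_lit 2, nat_lit 0, nat_lit 8, nat_lit 2, nat_lit 6, nat_lit 5, nat_lit 8])))
 (TT.l (Ty.relL (nat_lit 3) [nat_lit 5, nat_lit 6, nat_lit 7, nat_lit 3, nat_lit 5, nat_lit 0, nat_lit 7, nat_lit 3, nat_lit 7, nat_lit 5, nat_lit 3, nat_lit 7, nat_lit 6, nat_lit 5])))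
 (TT.n (TT.n (TT.l (Ty.srel [nat_lit 3, nat_lit 5, nat_lit 6, nat_lit 7, nat_lit 3, nat_lit 5, nat_lit 0, nat_lit 7, nat_lit 3, nat_lit 7, nat_lit 5, nat_lit 3, nat_lit 7, nat_lit 6, nat_lit 5]))
 (TT.l (Ty.srel [nat_lit 1, nat_lit 2, nat_lit 0, nat_lit 3, nat_lit 1, nat_lit 3, nat_lit 2, nat_lit 5, nat_lit 0, nat_lit 1, nat_lit 3, nat_lit 1, nat_lit 2, nat_lit 3, nat_lit 2, nat_lit 1, nat_lit 3, nat_lit 0, nat_lit 5, nat_lit 2, nat_lit 3, nat_lit 1, nat_lit 3])))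
 (TT.l (Ty.relL (nat_lit 1) [nat_lit 2, nat_lit 3, nat_lit 2, nat_lit 0, nat_lit 1, nat_lit 2, nat_lit 3, nat_lit 2, nat_lit 0, nat_lit 1, nat_lit 2, nat_lit 3, nat_lit 2, nat_lit 1, nat_lit 0, nat_lit 2, nat_lit 3, nat_lit 2, nat_lit 1, nat_lit 0, nat_lit 2, nat_lit 3, nat_lit 2]))))
 (TT.n (TT.n (TT.n (TT.l (Ty.srel [nat_lit 1, nat_lit 0, nat_lit 1]))
 (TT.l (Ty.srel [nat_lit 2, nat_lit 6, nat_lit 5, nat_lit 0, nat_lit 7, nat_lit 8, nat_lit 5, nat_lit 6, nat_lit 2, nat_lit 0, nat_lit 8, nat_lit 2, nat_lit 6, nat_lit 5, nat_lit 8, nat_lit 0, nat_lit 5, nat_lit 6, nat_lit 2, nat_lit 8])))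
 (TT.l (Ty.srel [nat_lit 3, nat_lit 1, nat_lit 3, nat_lit 2, nat_lit 5, nat_lit 0, nat_lit 1, nat_lit 3, nat_lit 1, nat_lit 2, nat_lit 3, nat_lit 2, nat_lit 1, nat_lit 3, nat_lit 0, nat_lit 5, nat_lit 2, nat_lit 3, nat_lit 1, nat_lit 3, nat_lit 0, nat_lit 1, nat_lit 2])))
 (TT.n (TT.l (Ty.relL (nat_lit 5) [nat_lit 3, nat_lit 7, nat_lit 6, nat_lit 5, nat_lit 3, nat_lit 0, nat_lit 5, nat_lit 6, nat_lit 7, nat_lit 3, nat_lit 5, nat_lit 7, nat_lit 3, nat_lit 7]))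
 (TT.l (Ty.relL (nat_lit 3) [nat_lit 1, nat_lit 3, nat_lit 2, nat_lit 5, nat_lit 0, nat_lit 3, nat_lit 1, nat_lit 2, nat_lit 3, nat_lit 2, nat_lit 1, nat_lit 3, nat_lit 1, nat_lit 0, nat_lit 5, nat_lit 2, nat_lit 3, nat_lit 1, nat_lit 3, nat_lit 0, nat_lit 2, nat_lit 1]))))))))
noncomputable def ty1 : TT := (TT.n (TT.n (TT.n (TT.n (TT.n (TT.n (TT.n (TT.n (TT.l (Ty.ssub [] []))
 (TT.l (Ty.srel [nat_lit 3, nat_lit 7, nat_lit 6, nat_lit 3, nat_lit 1, nat_lit 0, nat_lit 3, nat_lit 7, nat_lit 3])))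
 (TT.l (Ty.relL (nat_lit 5) [nat_lit 1, nat_lit 2, nat_lit 1, nat_lit 5, nat_lit 1, nat_lit 5, nat_lit 2])))
 (TT.n (TT.l (Ty.relL (nat_lit 2) [nat_lit 5, nat_lit 1, nat_lit 5, nat_lit 1, nat_lit 2, nat_lit 1, nat_lit 5]))
 (TT.l (Ty.srel [nat_lit 6, nat_lit 5, nat_lit 3, nat_lit 2, nat_lit 6, nat_lit 2, nat_lit 3, nat_lit 5, nat_lit 6, nat_lit 1, nat_lit 2, nat_lit 3, nat_lit 1, nat_lit 3, nat_lit 1, nat_lit 2]))))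
 (TT.n (TT.n (TT.l (Ty.srel [nat_lit 3, nat_lit 1, nat_lit 3, nat_lit 1, nat_lit 3, nat_lit 1, nat_lit 3]))
 (TT.l (Ty.srel [nat_lit 3, nat_lit 8, nat_lit 3, nat_lit 1, nat_lit 3, nat_lit 1, nat_lit 8, nat_lit 3])))
 (TT.n (TT.l (Ty.srel [nat_lit 3, nat_lit 1, nat_lit 2, nat_lit 1, nat_lit 6, nat_lit 5, nat_lit 3, nat_lit 2, nat_lit 6, nat_lit 2, nat_lit 3, nat_lit 5, nat_lit 6, nat_lit 1, nat_lit 2, nat_lit 3]))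
 (TT.l (Ty.relL (nat_lit 2) [nat_lit 1, nat_lit 5, nat_lit 1, nat_lit 5, nat_lit 2, nat_lit 1, nat_lit 5])))))
 (TT.n (TT.n (TT.n (TT.n (TT.l (Ty.relL (nat_lit 3) [nat_lit 4, nat_lit 1, nat_lit 3, nat_lit 1, nat_lit 3, nat_lit 4, nat_lit 3]))
 (TT.l (Ty.srel [nat_lit 0, nat_lit 2, nat_lit 1, nat_lit 3, nat_lit 0, nat_lit 1, nat_lit 2, nat_lit 0, nat_lit 1, nat_lit 3, nat_lit 1, nat_lit 2, nat_lit 0, nat_lit 1, nat_lit 3, nat_lit 1, nat_lit 2, nat_lit 1, nat_lit 3, nat_lit 1, nat_lit 0, nat_lit 2, nat_lit 1, nat_lit 3])))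
 (TT.l (Ty.srel [nat_lit 3, nat_lit 0, nat_lit 5, nat_lit 2, nat_lit 3, nat_lit 1, nat_lit 3, nat_lit 0, nat_lit 1, nat_lit 2, nat_lit 0, nat_lit 3, nat_lit 1, nat_lit 3, nat_lit 2, nat_lit 5, nat_lit 0, nat_lit 1, nat_lit 3, nat_lit 1, nat_lit 2, nat_lit 3, nat_lit 2])))
 (TT.n (TT.l (Ty.srel [nat_lit 3, nat_lit 2, nat_lit 5, nat_lit 0, nat_lit 1, nat_lit 3, nat_lit 1, nat_lit 2, nat_lit 3, nat_lit 2, nat_lit 1, nat_lit 3, nat_lit 0, nat_lit 5, nat_lit 2, nat_lit 3, nat_lit 1, nat_lit 3, nat_lit 0, nat_lit 1, nat_lit 2, nat_lit 0, nat_lit 3]))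
 (TT.l (Ty.relL (nat_lit 0) [nat_lit 5, nat_lit 2, nat_lit 3, nat_lit 1, nat_lit 3, nat_lit 0, nat_lit 2, nat_lit 1, nat_lit 0, nat_lit 3, nat_lit 1, nat_lit 3, nat_lit 2, nat_lit 5, nat_lit 0, nat_lit 3, nat_lit 1, nat_lit 2, nat_lit 3, nat_lit 2, nat_lit 1, nat_lit 3]))))
 (TT.n (TT.n (TT.l (Ty.srel [nat_lit 0, nat_lit 1, nat_lit 0]))
 (TT.l (Ty.srel [nat_lit 3, nat_lit 1, nat_lit 3, nat_lit 2, nat_lit 1, nat_lit 6, nat_lit 5, nat_lit 3, nat_lit 2, nat_lit 6, nat_lit 2, nat_lit 3, nat_lit 5, nat_lit 6, nat_lit 1, nat_lit 2])))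
 (TT.n (TT.l (Ty.relL (nat_lit 3) [nat_lit 2, nat_lit 1, nat_lit 6, nat_lit 5, nat_lit 3, nat_lit 2, nat_lit 6, nat_lit 2, nat_lit 3, nat_lit 5, nat_lit 6, nat_lit 1, nat_lit 2, nat_lit 1, nat_lit 3]))
 (TT.l (Ty.relL (nat_lit 0) [nat_lit 3, nat_lit 1, nat_lit 3, nat_lit 2, nat_lit 5, nat_lit 0, nat_lit 3, nat_lit 1, nat_lit 2, nat_lit 3, nat_lit 2, nat_lit 1, nat_lit 3, nat_lit 1, nat_lit 0, nat_lit 5, nat_lit 2, nat_lit 3, nat_lit 1, nat_lit 3, nat_lit 0, nat_lit 2]))))))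
 (TT.n (TT.n (TT.n (TT.n (TT.n (TT.l (Ty.rel1 (nat_lit 1)))
 (TT.l (Ty.srel [nat_lit 2, nat_lit 3, nat_lit 2, nat_lit 0, nat_lit 1, nat_lit 2, nat_lit 3, nat_lit 2, nat_lit 1, nat_lit 0, nat_lit 2, nat_lit 3, nat_lit 2, nat_lit 1, nat_lit 0, nat_lit 2, nat_lit 3, nat_lit 2, nat_lit 0, nat_lit 1, nat_lit 2, nat_lit 3, nat_lit 2, nat_lit 0])))
 (TT.l (Ty.srel [nat_lit 8, nat_lit 3, nat_lit 1, nat_lit 3, nat_lit 8, nat_lit 3, nat_lit 1, nat_lit 3])))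
 (TT.n (TT.l (Ty.relL (nat_lit 3) [nat_lit 8, nat_lit 1, nat_lit 3, nat_lit 1, nat_lit 3, nat_lit 8, nat_lit 3]))
 (TT.l (Ty.relL (nat_lit 2) [nat_lit 3, nat_lit 2, nat_lit 1, nat_lit 3, nat_lit 1, nat_lit 0, nat_lit 5, nat_lit 2, nat_lit 3, nat_lit 1, nat_lit 3, nat_lit 0, nat_lit 2, nat_lit 1, nat_lit 0, nat_lit 3, nat_lit 1, nat_lit 3, nat_lit 2, nat_lit 5, nat_lit 0, nat_lit 3]))))
 (TT.n (TT.n (TT.l (Ty.relL (nat_lit 3) [nat_lit 4, nat_lit 3, nat_lit 1, nat_lit 3, nat_lit 4, nat_lit 1, nat_lit 3]))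
 (TT.l (Ty.relL (nat_lit 2) [nat_lit 3, nat_lit 2, nat_lit 1, nat_lit 0, nat_lit 2, nat_lit 3, nat_lit 2, nat_lit 1, nat_lit 0, nat_lit 2, nat_lit 3, nat_lit 2, nat_lit 0, nat_lit 1, nat_lit 2, nat_lit 3, nat_lit 2, nat_lit 0, nat_lit 1, nat_lit 2, nat_lit 3, nat_lit 2, nat_lit 0])))
 (TT.n (TT.l (Ty.srel [nat_lit 5, nat_lit 1, nat_lit 2, nat_lit 5, nat_lit 1, nat_lit 5, nat_lit 1, nat_lit 2]))
 (TT.l (Ty.relL (nat_lit 3) [nat_lit 1, nat_lit 2, nat_lit 3, nat_lit 2, nat_lit 1, nat_lit 3, nat_lit 0, nat_lit 5, nat_lit 2, nat_lit 3, nat_lit 1, nat_lit 3, nat_lit 0, nat_lit 1, nat_lit 2, nat_lit 0, nat_lit 3, nat_lit 1, nat_lit 3, nat_lit 2, nat_lit 5, nat_lit 0])))))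
 (TT.n (TT.n (TT.n (TT.n (TT.l (Ty.relL (nat_lit 3) [nat_lit 5, nat_lit 1, nat_lit 3, nat_lit 5, nat_lit 1, nat_lit 3, nat_lit 5]))
 (TT.l (Ty.skip)))
 (TT.l (Ty.srel [nat_lit 3, nat_lit 1, nat_lit 0, nat_lit 5, nat_lit 2, nat_lit 3, nat_lit 1, nat_lit 3, nat_lit 0, nat_lit 2, nat_lit 1, nat_lit 0, nat_lit 3, nat_lit 1, nat_lit 3, nat_lit 2, nat_lit 5, nat_lit 0, nat_lit 3, nat_lit 1, nat_lit 2, nat_lit 3, nat_lit 2])))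
 (TT.n (TT.l (Ty.relL (nat_lit 3) [nat_lit 4, nat_lit 3, nat_lit 1, nat_lit 3, nat_lit 1, nat_lit 4, nat_lit 3]))
 (TT.l (Ty.srel [nat_lit 2, nat_lit 0, nat_lit 1, nat_lit 3, nat_lit 1, nat_lit 2, nat_lit 0, nat_lit 1, nat_lit 3, nat_lit 1, nat_lit 2, nat_lit 1, nat_lit 3, nat_lit 1, nat_lit 0, nat_lit 2, nat_lit 1, nat_lit 3, nat_lit 1, nat_lit 0, nat_lit 2, nat_lit 1, nat_lit 0, nat_lit 3]))))
 (TT.n (TT.n (TT.l (Ty.srel [nat_lit 5, nat_lit 1, nat_lit 5, nat_lit 1, nat_lit 5, nat_lit 1, nat_lit 5]))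
 (TT.l (Ty.relL (nat_lit 3) [nat_lit 0, nat_lit 5, nat_lit 2, nat_lit 3, nat_lit 1, nat_lit 3, nat_lit 0, nat_lit 1, nat_lit 2, nat_lit 0, nat_lit 3, nat_lit 1, nat_lit 3, nat_lit 2, nat_lit 5, nat_lit 0, nat_lit 1, nat_lit 3, nat_lit 1, nat_lit 2, nat_lit 3, nat_lit 2])))
 (TT.n (TT.l (Ty.srel [nat_lit 0, nat_lit 3, nat_lit 7, nat_lit 3, nat_lit 1, nat_lit 3, nat_lit 7, nat_lit 6, nat_lit 3]))
 (TT.l (Ty.relL (nat_lit 2) [nat_lit 0, nat_lit 1, nat_lit 3, nat_lit 1, nat_lit 2, nat_lit 1, nat_lit 3, nat_lit 1, nat_lit 0, nat_lit 2, nat_lit 1, nat_lit 3, nat_lit 1, nat_lit 0, nat_lit 2, nat_lit 1, nat_lit 3, nat_lit 0, nat_lit 1, nat_lit 2, nat_lit 0, nat_lit 1, nat_lit 3])))))))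
 (TT.n (TT.n (TT.n (TT.n (TT.n (TT.n (TT.l (Ty.srel [nat_lit 1]))
 (TT.l (Ty.relL (nat_lit 2) [nat_lit 3, nat_lit 2, nat_lit 0, nat_lit 1, nat_lit 2, nat_lit 3, nat_lit 2, nat_lit 1, nat_lit 0, nat_lit 2, nat_lit 3, nat_lit 2, nat_lit 1, nat_lit 0, nat_lit 2, nat_lit 3, nat_lit 2, nat_lit 0, nat_lit 1, nat_lit 2, nat_lit 3, nat_lit 2, nat_lit 0])))
 (TT.l (Ty.srel [nat_lit 3, nat_lit 4, nat_lit 3, nat_lit 1, nat_lit 3, nat_lit 1, nat_lit 4, nat_lit 3])))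
 (TT.n (TT.l (Ty.srel [nat_lit 6, nat_lit 5, nat_lit 3, nat_lit 2, nat_lit 6, nat_lit 2, nat_lit 3, nat_lit 5, nat_lit 6, nat_lit 1, nat_lit 2, nat_lit 1, nat_lit 3, nat_lit 1, nat_lit 3, nat_lit 2]))
 (TT.l (Ty.srel [nat_lit 3, nat_lit 1, nat_lit 0, nat_lit 2, nat_lit 1, nat_lit 3, nat_lit 1, nat_lit 0, nat_lit 2, nat_lit 1, nat_lit 3, nat_lit 0, nat_lit 1, nat_lit 2, nat_lit 0, nat_lit 1, nat_lit 3, nat_lit 1, nat_lit 2, nat_lit 0, nat_lit 1, nat_lit 3, nat_lit 1, nat_lit 2]))))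
 (TT.n (TT.n (TT.l (Ty.srel [nat_lit 3, nat_lit 5, nat_lit 1, nat_lit 3, nat_lit 5, nat_lit 1, nat_lit 3, nat_lit 5]))
 (TT.l (Ty.relL (nat_lit 2) [nat_lit 3, nat_lit 1, nat_lit 2, nat_lit 3, nat_lit 1, nat_lit 2, nat_lit 3, nat_lit 1, nat_lit 2, nat_lit 3, nat_lit 1, nat_lit 2, nat_lit 3])))
 (TT.n (TT.l (Ty.relL (nat_lit 0) [nat_lit 3, nat_lit 7, nat_lit 3, nat_lit 1, nat_lit 3, nat_lit 7, nat_lit 6, nat_lit 3]))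
 (TT.l (Ty.relL (nat_lit 2) [nat_lit 1, nat_lit 6, nat_lit 5, nat_lit 3, nat_lit 2, nat_lit 6, nat_lit 2, nat_lit 3, nat_lit 5, nat_lit 6, nat_lit 1, nat_lit 2, nat_lit 3, nat_lit 1, nat_lit 3])))))
 (TT.n (TT.n (TT.n (TT.n (TT.l (Ty.relL (nat_lit 5) [nat_lit 1, nat_lit 5, nat_lit 1, nat_lit 5, nat_lit 1, nat_lit 5]))
 (TT.l (Ty.relL (nat_lit 0) [nat_lit 2, nat_lit 3, nat_lit 2, nat_lit 0, nat_lit 1, nat_lit 2, nat_lit 3, nat_lit 2, nat_lit 0, nat_lit 1, nat_lit 2, nat_lit 3, nat_lit 2, nat_lit 0, nat_lit 1, nat_lit 2, nat_lit 3, nat_lit 2, nat_lit 1, nat_lit 0, nat_lit 2, nat_lit 3, nat_lit 2])))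
 (TT.l (Ty.srel [nat_lit 0, nat_lit 2, nat_lit 1, nat_lit 3, nat_lit 1, nat_lit 0, nat_lit 2, nat_lit 1, nat_lit 3, nat_lit 0, nat_lit 1, nat_lit 2, nat_lit 0, nat_lit 1, nat_lit 3, nat_lit 1, nat_lit 2, nat_lit 0, nat_lit 1, nat_lit 3, nat_lit 1, nat_lit 2, nat_lit 1, nat_lit 3])))
 (TT.n (TT.l (Ty.relL (nat_lit 2) [nat_lit 1, nat_lit 5, nat_lit 1, nat_lit 2, nat_lit 5, nat_lit 1, nat_lit 5]))
 (TT.l (Ty.srel [nat_lit 2, nat_lit 3, nat_lit 1, nat_lit 3, nat_lit 1, nat_lit 2, nat_lit 1, nat_lit 6, nat_lit 5, nat_lit 3, nat_lit 2, nat_lit 6, nat_lit 2, nat_lit 3, nat_lit 5, nat_lit 6]))))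
 (TT.n (TT.n (TT.l (Ty.srel [nat_lit 3, nat_lit 8, nat_lit 3, nat_lit 1, nat_lit 3, nat_lit 8, nat_lit 1, nat_lit 3]))
 (TT.l (Ty.relL (nat_lit 2) [nat_lit 3, nat_lit 2, nat_lit 0, nat_lit 1, nat_lit 2, nat_lit 3, nat_lit 2, nat_lit 0, nat_lit 1, nat_lit 2, nat_lit 3, nat_lit 2, nat_lit 1, nat_lit 0, nat_lit 2, nat_lit 3, nat_lit 2, nat_lit 1, nat_lit 0, nat_lit 2, nat_lit 3, nat_lit 2, nat_lit 0])))
 (TT.n (TT.l (Ty.relL (nat_lit 8) [nat_lit 3, nat_lit 1, nat_lit 3, nat_lit 8, nat_lit 3, nat_lit 1, nat_lit 3]))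
 (TT.l (Ty.srel [nat_lit 3, nat_lit 1, nat_lit 2, nat_lit 3, nat_lit 2, nat_lit 1, nat_lit 3, nat_lit 0, nat_lit 5, nat_lit 2, nat_lit 3, nat_lit 1, nat_lit 3, nat_lit 0, nat_lit 1, nat_lit 2, nat_lit 0, nat_lit 3, nat_lit 1, nat_lit 3, nat_lit 2, nat_lit 5, nat_lit 0]))))))
 (TT.n (TT.n (TT.n (TT.n (TT.n (TT.l (Ty.dfn))
 (TT.l (Ty.relL (nat_lit 2) [nat_lit 0, nat_lit 1, nat_lit 3, nat_lit 1, nat_lit 2, nat_lit 0, nat_lit 1, nat_lit 3, nat_lit 1, nat_lit 2, nat_lit 1, nat_lit 3, nat_lit 1, nat_lit 0, nat_lit 2, nat_lit 1, nat_lit 3, nat_lit 1, nat_lit 0, nat_lit 2, nat_lit 1, nat_lit 0, nat_lit 3])))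
 (TT.l (Ty.srel [nat_lit 2, nat_lit 1, nat_lit 5, nat_lit 1, nat_lit 2, nat_lit 5, nat_lit 1, nat_lit 5])))
 (TT.n (TT.l (Ty.srel [nat_lit 3, nat_lit 4, nat_lit 3, nat_lit 1, nat_lit 3, nat_lit 4, nat_lit 1, nat_lit 3]))
 (TT.l (Ty.relL (nat_lit 3) [nat_lit 1, nat_lit 3, nat_lit 2, nat_lit 1, nat_lit 6, nat_lit 5, nat_lit 3, nat_lit 2, nat_lit 6, nat_lit 2, nat_lit 3, nat_lit 5, nat_lit 6, nat_lit 1, nat_lit 2]))))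
 (TT.n (TT.n (TT.l (Ty.srel [nat_lit 3, nat_lit 7, nat_lit 3, nat_lit 0, nat_lit 1, nat_lit 3, nat_lit 6, nat_lit 7, nat_lit 3]))
 (TT.l (Ty.srel [nat_lit 0, nat_lit 3, nat_lit 1, nat_lit 3, nat_lit 2, nat_lit 5, nat_lit 0, nat_lit 3, nat_lit 1, nat_lit 2, nat_lit 3, nat_lit 2, nat_lit 1, nat_lit 3, nat_lit 1, nat_lit 0, nat_lit 5, nat_lit 2, nat_lit 3, nat_lit 1, nat_lit 3, nat_lit 0, nat_lit 2])))
 (TT.n (TT.l (Ty.srel [nat_lit 0, nat_lit 5, nat_lit 2, nat_lit 3, nat_lit 1, nat_lit 3, nat_lit 0, nat_lit 2, nat_lit 1, nat_lit 0, nat_lit 3, nat_lit 1, nat_lit 3, nat_lit 2, nat_lit 5, nat_lit 0, nat_lit 3, nat_lit 1, nat_lit 2, nat_lit 3, nat_lit 2, nat_lit 1, nat_lit 3]))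
 (TT.l (Ty.relL (nat_lit 2) [nat_lit 0, nat_lit 1, nat_lit 3, nat_lit 1, nat_lit 2, nat_lit 0, nat_lit 1, nat_lit 3, nat_lit 1, nat_lit 2, nat_lit 1, nat_lit 3, nat_lit 1, nat_lit 0, nat_lit 2, nat_lit 1, nat_lit 3, nat_lit 1, nat_lit 0, nat_lit 2, nat_lit 1, nat_lit 3, nat_lit 0])))))
 (TT.n (TT.n (TT.n (TT.l (Ty.relL (nat_lit 5) [nat_lit 3, nat_lit 1, nat_lit 5, nat_lit 3, nat_lit 1, nat_lit 5, nat_lit 3]))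
 (TT.l (Ty.srel [nat_lit 3, nat_lit 8, nat_lit 1, nat_lit 3, nat_lit 1, nat_lit 3, nat_lit 8, nat_lit 3])))
 (TT.n (TT.l (Ty.relL (nat_lit 5) [nat_lit 1, nat_lit 2, nat_lit 1, nat_lit 5, nat_lit 1, nat_lit 2, nat_lit 5]))
 (TT.l (Ty.relL (nat_lit 3) [nat_lit 1, nat_lit 8, nat_lit 3, nat_lit 1, nat_lit 3, nat_lit 8, nat_lit 3]))))
 (TT.n (TT.n (TT.l (Ty.relL (nat_lit 5) [nat_lit 1, nat_lit 2, nat_lit 5, nat_lit 1, nat_lit 5, nat_lit 1, nat_lit 2]))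
 (TT.l (Ty.relL (nat_lit 3) [nat_lit 7, nat_lit 6, nat_lit 3, nat_lit 1, nat_lit 0, nat_lit 3, nat_lit 7, nat_lit 3])))
 (TT.n (TT.l (Ty.srel [nat_lit 2, nat_lit 1, nat_lit 3, nat_lit 1, nat_lit 3, nat_lit 2, nat_lit 1, nat_lit 6, nat_lit 5, nat_lit 3, nat_lit 2, nat_lit 6, nat_lit 2, nat_lit 3, nat_lit 5, nat_lit 6]))
 (TT.l (Ty.relL (nat_lit 2) [nat_lit 3, nat_lit 2, nat_lit 1, nat_lit 3, nat_lit 0, nat_lit 5, nat_lit 2, nat_lit 3, nat_lit 1, nat_lit 3, nat_lit 0, nat_lit 1, nat_lit 2, nat_lit 0, nat_lit 3, nat_lit 1, nat_lit 3, nat_lit 2, nat_lit 5, nat_lit 0, nat_lit 1, nat_lit 3]))))))))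
 (TT.n (TT.n (TT.n (TT.n (TT.n (TT.n (TT.n (TT.l (Ty.rel3 (nat_lit 8) (nat_lit 1) (nat_lit 8)))
 (TT.l (Ty.srel [nat_lit 3, nat_lit 1, nat_lit 2, nat_lit 0, nat_lit 1, nat_lit 3, nat_lit 1, nat_lit 2, nat_lit 1, nat_lit 3, nat_lit 1, nat_lit 0, nat_lit 2, nat_lit 1, nat_lit 3, nat_lit 1, nat_lit 0, nat_lit 2, nat_lit 1, nat_lit 3, nat_lit 0, nat_lit 1, nat_lit 2, nat_lit 0])))
 (TT.l (Ty.relL (nat_lit 3) [nat_lit 1, nat_lit 3, nat_lit 4, nat_lit 3, nat_lit 1, nat_lit 3, nat_lit 4])))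
 (TT.n (TT.l (Ty.srel [nat_lit 3, nat_lit 2, nat_lit 1, nat_lit 6, nat_lit 5, nat_lit 3, nat_lit 2, nat_lit 6, nat_lit 2, nat_lit 3, nat_lit 5, nat_lit 6, nat_lit 1, nat_lit 2, nat_lit 1, nat_lit 3]))
 (TT.l (Ty.relL (nat_lit 2) [nat_lit 1, nat_lit 3, nat_lit 1, nat_lit 3, nat_lit 2, nat_lit 1, nat_lit 6, nat_lit 5, nat_lit 3, nat_lit 2, nat_lit 6, nat_lit 2, nat_lit 3, nat_lit 5, nat_lit 6]))))
 (TT.n (TT.n (TT.l (Ty.rel3 (nat_lit 0) (nat_lit 1) (nat_lit 0)))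
 (TT.l (Ty.relL (nat_lit 3) [nat_lit 2, nat_lit 5, nat_lit 0, nat_lit 1, nat_lit 3, nat_lit 1, nat_lit 2, nat_lit 3, nat_lit 2, nat_lit 1, nat_lit 3, nat_lit 0, nat_lit 5, nat_lit 2, nat_lit 3, nat_lit 1, nat_lit 3, nat_lit 0, nat_lit 1, nat_lit 2, nat_lit 0, nat_lit 3])))
 (TT.n (TT.l (Ty.srel [nat_lit 5, nat_lit 1, nat_lit 5, nat_lit 2, nat_lit 1, nat_lit 5, nat_lit 1, nat_lit 2]))
 (TT.l (Ty.relL (nat_lit 3) [nat_lit 1, nat_lit 2, nat_lit 0, nat_lit 1, nat_lit 3, nat_lit 1, nat_lit 2, nat_lit 1, nat_lit 3, nat_lit 1, nat_lit 0, nat_lit 2, nat_lit 1, nat_lit 3, nat_lit 1, nat_lit 0, nat_lit 2, nat_lit 1, nat_lit 3, nat_lit 0, nat_lit 1, nat_lit 2, nat_lit 0])))))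
 (TT.n (TT.n (TT.n (TT.n (TT.l (Ty.rel3 (nat_lit 6) (nat_lit 1) (nat_lit 6)))
 (TT.l (Ty.relL (nat_lit 0) [nat_lit 2, nat_lit 3, nat_lit 2, nat_lit 0, nat_lit 1, nat_lit 2, nat_lit 3, nat_lit 2, nat_lit 0, nat_lit 1, nat_lit 2, nat_lit 3, nat_lit 2, nat_lit 1, nat_lit 0, nat_lit 2, nat_lit 3, nat_lit 2, nat_lit 1, nat_lit 0, nat_lit 2, nat_lit 3, nat_lit 2])))
 (TT.l (Ty.srel [nat_lit 3, nat_lit 1, nat_lit 3, nat_lit 8, nat_lit 3, nat_lit 1, nat_lit 3, nat_lit 8])))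
 (TT.n (TT.l (Ty.relL (nat_lit 3) [nat_lit 1, nat_lit 4, nat_lit 3, nat_lit 1, nat_lit 3, nat_lit 4, nat_lit 3]))
 (TT.l (Ty.relL (nat_lit 2) [nat_lit 0, nat_lit 3, nat_lit 1, nat_lit 3, nat_lit 2, nat_lit 5, nat_lit 0, nat_lit 1, nat_lit 3, nat_lit 1, nat_lit 2, nat_lit 3, nat_lit 2, nat_lit 1, nat_lit 3, nat_lit 0, nat_lit 5, nat_lit 2, nat_lit 3, nat_lit 1, nat_lit 3, nat_lit 0]))))
 (TT.n (TT.n (TT.l (Ty.srel [nat_lit 4, nat_lit 3, nat_lit 1, nat_lit 3, nat_lit 4, nat_lit 3, nat_lit 1, nat_lit 3]))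
 (TT.l (Ty.relL (nat_lit 2) [nat_lit 3, nat_lit 1, nat_lit 3, nat_lit 1, nat_lit 2, nat_lit 1, nat_lit 6, nat_lit 5, nat_lit 3, nat_lit 2, nat_lit 6, nat_lit 2, nat_lit 3, nat_lit 5, nat_lit 6])))
 (TT.n (TT.l (Ty.relL (nat_lit 3) [nat_lit 2, nat_lit 1, nat_lit 3, nat_lit 2, nat_lit 1, nat_lit 3, nat_lit 2, nat_lit 1, nat_lit 3, nat_lit 2, nat_lit 1, nat_lit 3, nat_lit 2]))
 (TT.l (Ty.srel [nat_lit 2, nat_lit 3, nat_lit 2, nat_lit 0, nat_lit 1, nat_lit 2, nat_lit 3, nat_lit 2, nat_lit 0, nat_lit 1, nat_lit 2, nat_lit 3, nat_lit 2, nat_lit 1, nat_lit 0, nat_lit 2, nat_lit 3, nat_lit 2, nat_lit 1, nat_lit 0, nat_lit 2, nat_lit 3, nat_lit 2, nat_lit 0]))))))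
 (TT.n (TT.n (TT.n (TT.n (TT.n (TT.l (Ty.rel3 (nat_lit 4) (nat_lit 1) (nat_lit 4)))
 (TT.l (Ty.relL (nat_lit 3) [nat_lit 1, nat_lit 0, nat_lit 2, nat_lit 1, nat_lit 3, nat_lit 1, nat_lit 0, nat_lit 2, nat_lit 1, nat_lit 3, nat_lit 0, nat_lit 1, nat_lit 2, nat_lit 0, nat_lit 1, nat_lit 3, nat_lit 1, nat_lit 2, nat_lit 0, nat_lit 1, nat_lit 3, nat_lit 1, nat_lit 2])))
 (TT.l (Ty.relL (nat_lit 5) [nat_lit 2, nat_lit 1, nat_lit 5, nat_lit 1, nat_lit 2, nat_lit 1, nat_lit 5])))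
 (TT.n (TT.l (Ty.srel [nat_lit 7, nat_lit 1, nat_lit 7]))
 (TT.l (Ty.srel [nat_lit 0, nat_lit 2, nat_lit 3, nat_lit 2, nat_lit 1, nat_lit 0, nat_lit 2, nat_lit 3, nat_lit 2, nat_lit 0, nat_lit 1, nat_lit 2, nat_lit 3, nat_lit 2, nat_lit 0, nat_lit 1, nat_lit 2, nat_lit 3, nat_lit 2, nat_lit 0, nat_lit 1, nat_lit 2, nat_lit 3, nat_lit 2]))))
 (TT.n (TT.n (TT.l (Ty.srel [nat_lit 6, nat_lit 1, nat_lit 6]))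
 (TT.l (Ty.relL (nat_lit 3) [nat_lit 1, nat_lit 0, nat_lit 5, nat_lit 2, nat_lit 3, nat_lit 1, nat_lit 3, nat_lit 0, nat_lit 2, nat_lit 1, nat_lit 0, nat_lit 3, nat_lit 1, nat_lit 3, nat_lit 2, nat_lit 5, nat_lit 0, nat_lit 3, nat_lit 1, nat_lit 2, nat_lit 3, nat_lit 2])))
 (TT.n (TT.l (Ty.srel [nat_lit 2, nat_lit 5, nat_lit 1, nat_lit 5, nat_lit 1, nat_lit 2, nat_lit 1, nat_lit 5]))
 (TT.l (Ty.srel [nat_lit 3, nat_lit 1, nat_lit 8, nat_lit 3, nat_lit 1, nat_lit 3, nat_lit 8, nat_lit 3])))))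
 (TT.n (TT.n (TT.n (TT.l (Ty.rel5 (nat_lit 2) (nat_lit 1) (nat_lit 2) (nat_lit 1) (nat_lit 2)))
 (TT.l (Ty.relL (nat_lit 3) [nat_lit 1, nat_lit 2, nat_lit 1, nat_lit 6, nat_lit 5, nat_lit 3, nat_lit 2, nat_lit 6, nat_lit 2, nat_lit 3, nat_lit 5, nat_lit 6, nat_lit 1, nat_lit 2, nat_lit 3])))
 (TT.n (TT.l (Ty.srel [nat_lit 5, nat_lit 2, nat_lit 1, nat_lit 5, nat_lit 1, nat_lit 2, nat_lit 1, nat_lit 5]))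
 (TT.l (Ty.srel [nat_lit 3, nat_lit 1, nat_lit 4, nat_lit 3, nat_lit 1, nat_lit 3, nat_lit 4, nat_lit 3]))))
 (TT.n (TT.n (TT.l (Ty.srel [nat_lit 5, nat_lit 3, nat_lit 1, nat_lit 5, nat_lit 3, nat_lit 1, nat_lit 5, nat_lit 3]))
 (TT.l (Ty.srel [nat_lit 2, nat_lit 3, nat_lit 2, nat_lit 1, nat_lit 3, nat_lit 0, nat_lit 5, nat_lit 2, nat_lit 3, nat_lit 1, nat_lit 3, nat_lit 0, nat_lit 1, nat_lit 2, nat_lit 0, nat_lit 3, nat_lit 1, nat_lit 3, nat_lit 2, nat_lit 5, nat_lit 0, nat_lit 1, nat_lit 3])))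
 (TT.n (TT.l (Ty.srel [nat_lit 3, nat_lit 1, nat_lit 3, nat_lit 4, nat_lit 3, nat_lit 1, nat_lit 3, nat_lit 4]))
 (TT.l (Ty.relL (nat_lit 3) [nat_lit 0, nat_lit 1, nat_lit 2, nat_lit 0, nat_lit 3, nat_lit 1, nat_lit 3, nat_lit 2, nat_lit 5, nat_lit 0, nat_lit 1, nat_lit 3, nat_lit 1, nat_lit 2, nat_lit 3, nat_lit 2, nat_lit 1, nat_lit 3, nat_lit 0, nat_lit 5, nat_lit 2, nat_lit 3])))))))
 (TT.n (TT.n (TT.n (TT.n (TT.n (TT.n (TT.l (Ty.relL (nat_lit 3) [nat_lit 8, nat_lit 3, nat_lit 1, nat_lit 3, nat_lit 8, nat_lit 1, nat_lit 3]))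
 (TT.l (Ty.srel [nat_lit 2, nat_lit 0, nat_lit 1, nat_lit 3, nat_lit 1, nat_lit 2, nat_lit 0, nat_lit 1, nat_lit 3, nat_lit 1, nat_lit 2, nat_lit 1, nat_lit 3, nat_lit 1, nat_lit 0, nat_lit 2, nat_lit 1, nat_lit 3, nat_lit 1, nat_lit 0, nat_lit 2, nat_lit 1, nat_lit 3, nat_lit 0])))
 (TT.l (Ty.relL (nat_lit 3) [nat_lit 1, nat_lit 3, nat_lit 8, nat_lit 3, nat_lit 1, nat_lit 3, nat_lit 8])))
 (TT.n (TT.l (Ty.srel [nat_lit 8, nat_lit 1, nat_lit 8]))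
 (TT.l (Ty.relL (nat_lit 0) [nat_lit 2, nat_lit 3, nat_lit 2, nat_lit 1, nat_lit 0, nat_lit 2, nat_lit 3, nat_lit 2, nat_lit 0, nat_lit 1, nat_lit 2, nat_lit 3, nat_lit 2, nat_lit 0, nat_lit 1, nat_lit 2, nat_lit 3, nat_lit 2, nat_lit 0, nat_lit 1, nat_lit 2, nat_lit 3, nat_lit 2]))))
 (TT.n (TT.n (TT.l (Ty.relL (nat_lit 4) [nat_lit 3, nat_lit 1, nat_lit 3, nat_lit 4, nat_lit 3, nat_lit 1, nat_lit 3]))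
 (TT.l (Ty.srel [nat_lit 2, nat_lit 3, nat_lit 2, nat_lit 1, nat_lit 0, nat_lit 2, nat_lit 3, nat_lit 2, nat_lit 1, nat_lit 0, nat_lit 2, nat_lit 3, nat_lit 2, nat_lit 0, nat_lit 1, nat_lit 2, nat_lit 3, nat_lit 2, nat_lit 0, nat_lit 1, nat_lit 2, nat_lit 3, nat_lit 2, nat_lit 0])))
 (TT.n (TT.l (Ty.relL (nat_lit 3) [nat_lit 6, nat_lit 7, nat_lit 3, nat_lit 1, nat_lit 3, nat_lit 7, nat_lit 3, nat_lit 0]))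
 (TT.l (Ty.srel [nat_lit 2, nat_lit 0, nat_lit 1, nat_lit 3, nat_lit 1, nat_lit 2, nat_lit 1, nat_lit 3, nat_lit 1, nat_lit 0, nat_lit 2, nat_lit 1, nat_lit 3, nat_lit 1, nat_lit 0, nat_lit 2, nat_lit 1, nat_lit 3, nat_lit 0, nat_lit 1, nat_lit 2, nat_lit 0, nat_lit 1, nat_lit 3])))))
 (TT.n (TT.n (TT.n (TT.n (TT.l (Ty.relL (nat_lit 3) [nat_lit 1, nat_lit 3, nat_lit 1, nat_lit 3, nat_lit 1, nat_lit 3]))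
 (TT.l (Ty.relL (nat_lit 3) [nat_lit 1, nat_lit 0, nat_lit 2, nat_lit 1, nat_lit 3, nat_lit 0, nat_lit 1, nat_lit 2, nat_lit 0, nat_lit 1, nat_lit 3, nat_lit 1, nat_lit 2, nat_lit 0, nat_lit 1, nat_lit 3, nat_lit 1, nat_lit 2, nat_lit 1, nat_lit 3, nat_lit 1, nat_lit 0, nat_lit 2])))
 (TT.l (Ty.relL (nat_lit 3) [nat_lit 8, nat_lit 3, nat_lit 1, nat_lit 3, nat_lit 1, nat_lit 8, nat_lit 3])))
 (TT.n (TT.l (Ty.srel [nat_lit 3, nat_lit 6, nat_lit 7, nat_lit 3, nat_lit 1, nat_lit 3, nat_lit 7, nat_lit 3, nat_lit 0]))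
 (TT.l (Ty.relL (nat_lit 0) [nat_lit 2, nat_lit 1, nat_lit 3, nat_lit 1, nat_lit 0, nat_lit 2, nat_lit 1, nat_lit 3, nat_lit 0, nat_lit 1, nat_lit 2, nat_lit 0, nat_lit 1, nat_lit 3, nat_lit 1, nat_lit 2, nat_lit 0, nat_lit 1, nat_lit 3, nat_lit 1, nat_lit 2, nat_lit 1, nat_lit 3]))))
 (TT.n (TT.n (TT.l (Ty.relL (nat_lit 3) [nat_lit 7, nat_lit 3, nat_lit 0, nat_lit 1, nat_lit 3, nat_lit 6, nat_lit 7, nat_lit 3]))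
 (TT.l (Ty.relL (nat_lit 6) [nat_lit 5, nat_lit 3, nat_lit 2, nat_lit 6, nat_lit 2, nat_lit 3, nat_lit 5, nat_lit 6, nat_lit 1, nat_lit 2, nat_lit 1, nat_lit 3, nat_lit 1, nat_lit 3, nat_lit 2])))
 (TT.n (TT.l (Ty.srel [nat_lit 5, nat_lit 1, nat_lit 2, nat_lit 1, nat_lit 5, nat_lit 1, nat_lit 5, nat_lit 2]))
 (TT.l (Ty.relL (nat_lit 3) [nat_lit 0, nat_lit 1, nat_lit 2, nat_lit 0, nat_lit 1, nat_lit 3, nat_lit 1, nat_lit 2, nat_lit 0, nat_lit 1, nat_lit 3, nat_lit 1, nat_lit 2, nat_lit 1, nat_lit 3, nat_lit 1, nat_lit 0, nat_lit 2, nat_lit 1, nat_lit 3, nat_lit 1, nat_lit 0, nat_lit 2]))))))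
 (TT.n (TT.n (TT.n (TT.n (TT.n (TT.l (Ty.rel3 (nat_lit 7) (nat_lit 1) (nat_lit 7)))
 (TT.l (Ty.relL (nat_lit 2) [nat_lit 1, nat_lit 3, nat_lit 1, nat_lit 0, nat_lit 2, nat_lit 1, nat_lit 3, nat_lit 1, nat_lit 0, nat_lit 2, nat_lit 1, nat_lit 3, nat_lit 0, nat_lit 1, nat_lit 2, nat_lit 0, nat_lit 1, nat_lit 3, nat_lit 1, nat_lit 2, nat_lit 0, nat_lit 1, nat_lit 3])))
 (TT.l (Ty.srel [nat_lit 3, nat_lit 2, nat_lit 5, nat_lit 0, nat_lit 3, nat_lit 1, nat_lit 2, nat_lit 3, nat_lit 2, nat_lit 1, nat_lit 3, nat_lit 1, nat_lit 0, nat_lit 5, nat_lit 2, nat_lit 3, nat_lit 1, nat_lit 3, nat_lit 0, nat_lit 2, nat_lit 1, nat_lit 0, nat_lit 3])))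
 (TT.n (TT.l (Ty.srel [nat_lit 5, nat_lit 1, nat_lit 2, nat_lit 1, nat_lit 5, nat_lit 1, nat_lit 2, nat_lit 5]))
 (TT.l (Ty.srel [nat_lit 2, nat_lit 1, nat_lit 5, nat_lit 1, nat_lit 5, nat_lit 2, nat_lit 1, nat_lit 5]))))
 (TT.n (TT.n (TT.l (Ty.srel [nat_lit 4, nat_lit 1, nat_lit 4]))
 (TT.l (Ty.srel [nat_lit 2, nat_lit 1, nat_lit 6, nat_lit 5, nat_lit 3, nat_lit 2, nat_lit 6, nat_lit 2, nat_lit 3, nat_lit 5, nat_lit 6, nat_lit 1, nat_lit 2, nat_lit 3, nat_lit 1, nat_lit 3])))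
 (TT.n (TT.l (Ty.relL (nat_lit 5) [nat_lit 1, nat_lit 5, nat_lit 2, nat_lit 1, nat_lit 5, nat_lit 1, nat_lit 2]))
 (TT.l (Ty.relL (nat_lit 3) [nat_lit 0, nat_lit 2, nat_lit 1, nat_lit 0, nat_lit 3, nat_lit 1, nat_lit 3, nat_lit 2, nat_lit 5, nat_lit 0, nat_lit 3, nat_lit 1, nat_lit 2, nat_lit 3, nat_lit 2, nat_lit 1, nat_lit 3, nat_lit 1, nat_lit 0, nat_lit 5, nat_lit 2, nat_lit 3])))))
 (TT.n (TT.n (TT.n (TT.l (Ty.srel [nat_lit 2, nat_lit 3, nat_lit 1, nat_lit 2, nat_lit 3, nat_lit 1, nat_lit 2, nat_lit 3, nat_lit 1, nat_lit 2, nat_lit 3, nat_lit 1, nat_lit 2, nat_lit 3]))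
 (TT.l (Ty.srel [nat_lit 2, nat_lit 3, nat_lit 2, nat_lit 1, nat_lit 3, nat_lit 1, nat_lit 0, nat_lit 5, nat_lit 2, nat_lit 3, nat_lit 1, nat_lit 3, nat_lit 0, nat_lit 2, nat_lit 1, nat_lit 0, nat_lit 3, nat_lit 1, nat_lit 3, nat_lit 2, nat_lit 5, nat_lit 0, nat_lit 3])))
 (TT.n (TT.l (Ty.srel [nat_lit 3, nat_lit 4, nat_lit 1, nat_lit 3, nat_lit 1, nat_lit 3, nat_lit 4, nat_lit 3]))
 (TT.l (Ty.relL (nat_lit 6) [nat_lit 5, nat_lit 3, nat_lit 2, nat_lit 6, nat_lit 2, nat_lit 3, nat_lit 5, nat_lit 6, nat_lit 1, nat_lit 2, nat_lit 3, nat_lit 1, nat_lit 3, nat_lit 1, nat_lit 2]))))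
 (TT.n (TT.n (TT.l (Ty.srel [nat_lit 2, nat_lit 1, nat_lit 2, nat_lit 1, nat_lit 2]))
 (TT.l (Ty.srel [nat_lit 2, nat_lit 0, nat_lit 3, nat_lit 1, nat_lit 3, nat_lit 2, nat_lit 5, nat_lit 0, nat_lit 1, nat_lit 3, nat_lit 1, nat_lit 2, nat_lit 3, nat_lit 2, nat_lit 1, nat_lit 3, nat_lit 0, nat_lit 5, nat_lit 2, nat_lit 3, nat_lit 1, nat_lit 3, nat_lit 0])))
 (TT.n (TT.l (Ty.srel [nat_lit 3, nat_lit 2, nat_lit 1, nat_lit 3, nat_lit 2, nat_lit 1, nat_lit 3, nat_lit 2, nat_lit 1, nat_lit 3, nat_lit 2, nat_lit 1, nat_lit 3, nat_lit 2]))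
 (TT.l (Ty.relL (nat_lit 0) [nat_lit 3, nat_lit 1, nat_lit 2, nat_lit 0, nat_lit 1, nat_lit 3, nat_lit 1, nat_lit 2, nat_lit 0, nat_lit 1, nat_lit 3, nat_lit 1, nat_lit 2, nat_lit 1, nat_lit 3, nat_lit 1, nat_lit 0, nat_lit 2, nat_lit 1, nat_lit 3, nat_lit 1, nat_lit 0, nat_lit 2])))))))))
noncomputable def ty2 : TT := (TT.n (TT.n (TT.n (TT.n (TT.n (TT.n (TT.n (TT.n (TT.l (Ty.ssub [] []))
 (TT.l (Ty.relL (nat_lit 5) [nat_lit 0, nat_lit 1, nat_lit 3, nat_lit 1, nat_lit 2, nat_lit 3, nat_lit 2, nat_lit 1, nat_lit 3, nat_lit 0, nat_lit 5, nat_lit 2, nat_lit 3, nat_lit 1, nat_lit 3, nat_lit 0, nat_lit 1, nat_lit 2, nat_lit 0, nat_lit 3, nat_lit 1, nat_lit 3])))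
 (TT.l (Ty.relL (nat_lit 3) [nat_lit 4, nat_lit 8, nat_lit 3, nat_lit 2, nat_lit 8, nat_lit 2, nat_lit 3, nat_lit 4, nat_lit 2, nat_lit 3, nat_lit 2, nat_lit 8])))
 (TT.n (TT.n (TT.l (Ty.relL (nat_lit 5) [nat_lit 1, nat_lit 5, nat_lit 1, nat_lit 2, nat_lit 1, nat_lit 5, nat_lit 1]))
 (TT.l (Ty.srel [nat_lit 4, nat_lit 5, nat_lit 3, nat_lit 4, nat_lit 7, nat_lit 3, nat_lit 2, nat_lit 4, nat_lit 5, nat_lit 3, nat_lit 4, nat_lit 7, nat_lit 3, nat_lit 2, nat_lit 4, nat_lit 5, nat_lit 3, nat_lit 4, nat_lit 7, nat_lit 3, nat_lit 2, nat_lit 4, nat_lit 5, nat_lit 3, nat_lit 4, nat_lit 7, nat_lit 3, nat_lit 2, nat_lit 4, nat_lit 5, nat_lit 3, nat_lit 4, nat_lit 7, nat_lit 3])))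
 (TT.l (Ty.relL (nat_lit 3) [nat_lit 2, nat_lit 1, nat_lit 3, nat_lit 1, nat_lit 0, nat_lit 5, nat_lit 2, nat_lit 3, nat_lit 1, nat_lit 3, nat_lit 0, nat_lit 2, nat_lit 1, nat_lit 0, nat_lit 3, nat_lit 1, nat_lit 3, nat_lit 2, nat_lit 5, nat_lit 0, nat_lit 3, nat_lit 1]))))
 (TT.n (TT.n (TT.n (TT.l (Ty.srel [nat_lit 8, nat_lit 2, nat_lit 6, nat_lit 2, nat_lit 6, nat_lit 8, nat_lit 2, nat_lit 6]))
 (TT.l (Ty.srel [nat_lit 6, nat_lit 3, nat_lit 2, nat_lit 6, nat_lit 0, nat_lit 2, nat_lit 3, nat_lit 6, nat_lit 2, nat_lit 0, nat_lit 6, nat_lit 2, nat_lit 3, nat_lit 6, nat_lit 2, nat_lit 6, nat_lit 0])))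
 (TT.l (Ty.relL (nat_lit 3) [nat_lit 6, nat_lit 2, nat_lit 6, nat_lit 0, nat_lit 2, nat_lit 6, nat_lit 3, nat_lit 2, nat_lit 6, nat_lit 0, nat_lit 2, nat_lit 3, nat_lit 6, nat_lit 2, nat_lit 0, nat_lit 6])))
 (TT.n (TT.n (TT.l (Ty.srel [nat_lit 0, nat_lit 6, nat_lit 2, nat_lit 3, nat_lit 6, nat_lit 2, nat_lit 6, nat_lit 0, nat_lit 2, nat_lit 6, nat_lit 3, nat_lit 2, nat_lit 6, nat_lit 0, nat_lit 2, nat_lit 3, nat_lit 6]))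
 (TT.l (Ty.relL (nat_lit 0) [nat_lit 1, nat_lit 3, nat_lit 1, nat_lit 2, nat_lit 1, nat_lit 3, nat_lit 1, nat_lit 0, nat_lit 2, nat_lit 1, nat_lit 3, nat_lit 1, nat_lit 0, nat_lit 2, nat_lit 1, nat_lit 3, nat_lit 0, nat_lit 1, nat_lit 2, nat_lit 0, nat_lit 1, nat_lit 3, nat_lit 1])))
 (TT.l (Ty.relL (nat_lit 0) [nat_lit 3, nat_lit 1, nat_lit 3, nat_lit 2, nat_lit 5, nat_lit 0, nat_lit 1, nat_lit 3, nat_lit 1, nat_lit 2, nat_lit 3, nat_lit 2, nat_lit 1, nat_lit 3, nat_lit 0, nat_lit 5, nat_lit 2, nat_lit 3, nat_lit 1, nat_lit 3, nat_lit 0, nat_lit 1])))))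
 (TT.n (TT.n (TT.n (TT.n (TT.l (Ty.srel [nat_lit 0, nat_lit 2, nat_lit 0, nat_lit 2, nat_lit 0]))
 (TT.l (Ty.relL (nat_lit 1) [nat_lit 3, nat_lit 0, nat_lit 5, nat_lit 2, nat_lit 3, nat_lit 1, nat_lit 3, nat_lit 0, nat_lit 1, nat_lit 2, nat_lit 0, nat_lit 3, nat_lit 1, nat_lit 3, nat_lit 2, nat_lit 5, nat_lit 0, nat_lit 1, nat_lit 3, nat_lit 1, nat_lit 2, nat_lit 3])))
 (TT.l (Ty.relL (nat_lit 8) [nat_lit 2, nat_lit 6, nat_lit 2, nat_lit 8, nat_lit 6, nat_lit 2, nat_lit 6])))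
 (TT.n (TT.n (TT.l (Ty.srel [nat_lit 6, nat_lit 2, nat_lit 5, nat_lit 6, nat_lit 2, nat_lit 5, nat_lit 6, nat_lit 5]))
 (TT.l (Ty.srel [nat_lit 3, nat_lit 4, nat_lit 2, nat_lit 3, nat_lit 2, nat_lit 8, nat_lit 2, nat_lit 3, nat_lit 4, nat_lit 8, nat_lit 3, nat_lit 2, nat_lit 8])))
 (TT.l (Ty.relL (nat_lit 1) [nat_lit 5, nat_lit 1, nat_lit 5, nat_lit 2, nat_lit 1, nat_lit 5, nat_lit 1]))))
 (TT.n (TT.n (TT.n (TT.l (Ty.srel [nat_lit 3, nat_lit 6, nat_lit 2, nat_lit 6, nat_lit 0, nat_lit 2, nat_lit 6, nat_lit 3, nat_lit 2, nat_lit 6, nat_lit 0, nat_lit 2, nat_lit 3, nat_lit 6, nat_lit 2, nat_lit 0, nat_lit 6]))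
 (TT.l (Ty.relL (nat_lit 0) [nat_lit 1, nat_lit 3, nat_lit 1, nat_lit 2, nat_lit 0, nat_lit 1, nat_lit 3, nat_lit 1, nat_lit 2, nat_lit 1, nat_lit 3, nat_lit 1, nat_lit 0, nat_lit 2, nat_lit 1, nat_lit 3, nat_lit 1, nat_lit 0, nat_lit 2, nat_lit 1, nat_lit 3, nat_lit 0, nat_lit 1])))
 (TT.l (Ty.relL (nat_lit 6) [nat_lit 5, nat_lit 0, nat_lit 7, nat_lit 8, nat_lit 5, nat_lit 6, nat_lit 2, nat_lit 0, nat_lit 8, nat_lit 2, nat_lit 6, nat_lit 5, nat_lit 8, nat_lit 0, nat_lit 5, nat_lit 6, nat_lit 2, nat_lit 8, nat_lit 0])))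
 (TT.n (TT.n (TT.l (Ty.srel [nat_lit 8, nat_lit 3, nat_lit 7, nat_lit 2, nat_lit 3, nat_lit 2, nat_lit 4, nat_lit 7, nat_lit 3, nat_lit 2, nat_lit 4, nat_lit 7, nat_lit 3, nat_lit 2, nat_lit 7, nat_lit 3, nat_lit 7, nat_lit 8, nat_lit 2, nat_lit 3, nat_lit 7, nat_lit 4, nat_lit 3, nat_lit 7, nat_lit 4, nat_lit 3]))
 (TT.l (Ty.relL (nat_lit 0) [nat_lit 1, nat_lit 2, nat_lit 3, nat_lit 2, nat_lit 0, nat_lit 1, nat_lit 2, nat_lit 3, nat_lit 2, nat_lit 0, nat_lit 1, nat_lit 2, nat_lit 3, nat_lit 2, nat_lit 1, nat_lit 0, nat_lit 2, nat_lit 3, nat_lit 2, nat_lit 1, nat_lit 0, nat_lit 2, nat_lit 3])))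
 (TT.l (Ty.relL (nat_lit 6) [nat_lit 0, nat_lit 2, nat_lit 6, nat_lit 3, nat_lit 2, nat_lit 6, nat_lit 0, nat_lit 2, nat_lit 3, nat_lit 6, nat_lit 2, nat_lit 0, nat_lit 6, nat_lit 2, nat_lit 3, nat_lit 6]))))))
 (TT.n (TT.n (TT.n (TT.n (TT.n (TT.l (Ty.rel3 (nat_lit 5) (nat_lit 2) (nat_lit 5)))
 (TT.l (Ty.srel [nat_lit 5, nat_lit 0, nat_lit 1, nat_lit 3, nat_lit 1, nat_lit 2, nat_lit 3, nat_lit 2, nat_lit 1, nat_lit 3, nat_lit 0, nat_lit 5, nat_lit 2, nat_lit 3, nat_lit 1, nat_lit 3, nat_lit 0, nat_lit 1, nat_lit 2, nat_lit 0, nat_lit 3, nat_lit 1, nat_lit 3])))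
 (TT.l (Ty.srel [nat_lit 6, nat_lit 5, nat_lit 2, nat_lit 6, nat_lit 2, nat_lit 5, nat_lit 6, nat_lit 5])))
 (TT.n (TT.n (TT.l (Ty.srel [nat_lit 8, nat_lit 2, nat_lit 3, nat_lit 2, nat_lit 4, nat_lit 3, nat_lit 2, nat_lit 8, nat_lit 2, nat_lit 3, nat_lit 8, nat_lit 4, nat_lit 3]))
 (TT.l (Ty.relL (nat_lit 8) [nat_lit 3, nat_lit 7, nat_lit 2, nat_lit 3, nat_lit 2, nat_lit 4, nat_lit 7, nat_lit 3, nat_lit 2, nat_lit 4, nat_lit 7, nat_lit 3, nat_lit 2, nat_lit 7, nat_lit 3, nat_lit 7, nat_lit 8, nat_lit 2, nat_lit 3, nat_lit 7, nat_lit 4, nat_lit 3, nat_lit 7, nat_lit 4, nat_lit 3])))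
 (TT.l (Ty.srel [nat_lit 3, nat_lit 2, nat_lit 1, nat_lit 3, nat_lit 1, nat_lit 0, nat_lit 5, nat_lit 2, nat_lit 3, nat_lit 1, nat_lit 3, nat_lit 0, nat_lit 2, nat_lit 1, nat_lit 0, nat_lit 3, nat_lit 1, nat_lit 3, nat_lit 2, nat_lit 5, nat_lit 0, nat_lit 3, nat_lit 1]))))
 (TT.n (TT.n (TT.n (TT.l (Ty.srel [nat_lit 0, nat_lit 1, nat_lit 3, nat_lit 1, nat_lit 2, nat_lit 0, nat_lit 1, nat_lit 3, nat_lit 1, nat_lit 2, nat_lit 1, nat_lit 3, nat_lit 1, nat_lit 0, nat_lit 2, nat_lit 1, nat_lit 3, nat_lit 1, nat_lit 0, nat_lit 2, nat_lit 1, nat_lit 3, nat_lit 0, nat_lit 1]))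
 (TT.l (Ty.srel [nat_lit 6, nat_lit 0, nat_lit 2, nat_lit 6, nat_lit 3, nat_lit 2, nat_lit 6, nat_lit 0, nat_lit 2, nat_lit 3, nat_lit 6, nat_lit 2, nat_lit 0, nat_lit 6, nat_lit 2, nat_lit 3, nat_lit 6])))
 (TT.l (Ty.relL (nat_lit 6) [nat_lit 2, nat_lit 8, nat_lit 2, nat_lit 6, nat_lit 2, nat_lit 8, nat_lit 6])))
 (TT.n (TT.n (TT.l (Ty.relL (nat_lit 1) [nat_lit 5, nat_lit 1, nat_lit 2, nat_lit 1, nat_lit 5, nat_lit 1, nat_lit 5]))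
 (TT.l (Ty.srel [nat_lit 4, nat_lit 7, nat_lit 3, nat_lit 2, nat_lit 4, nat_lit 7, nat_lit 3, nat_lit 2, nat_lit 7, nat_lit 3, nat_lit 7, nat_lit 8, nat_lit 2, nat_lit 3, nat_lit 7, nat_lit 4, nat_lit 3, nat_lit 7, nat_lit 4, nat_lit 3, nat_lit 2, nat_lit 8, nat_lit 3, nat_lit 7, nat_lit 2, nat_lit 3])))
 (TT.l (Ty.relL (nat_lit 0) [nat_lit 8, nat_lit 2, nat_lit 6, nat_lit 5, nat_lit 0, nat_lit 8, nat_lit 5, nat_lit 6, nat_lit 2, nat_lit 8, nat_lit 0, nat_lit 2, nat_lit 6, nat_lit 5, nat_lit 8, nat_lit 7, nat_lit 0, nat_lit 5, nat_lit 6])))))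
 (TT.n (TT.n (TT.n (TT.n (TT.l (Ty.rel5 (nat_lit 3) (nat_lit 2) (nat_lit 3) (nat_lit 2) (nat_lit 3)))
 (TT.l (Ty.relL (nat_lit 6) [nat_lit 0, nat_lit 2, nat_lit 6, nat_lit 3, nat_lit 2, nat_lit 0, nat_lit 6, nat_lit 2, nat_lit 3, nat_lit 6, nat_lit 2, nat_lit 0, nat_lit 6, nat_lit 2, nat_lit 6, nat_lit 3])))
 (TT.l (Ty.relL (nat_lit 4) [nat_lit 3, nat_lit 2, nat_lit 8, nat_lit 2, nat_lit 3, nat_lit 8, nat_lit 4, nat_lit 3, nat_lit 2, nat_lit 8, nat_lit 2, nat_lit 3])))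
 (TT.n (TT.n (TT.l (Ty.srel [nat_lit 5, nat_lit 6, nat_lit 5, nat_lit 2, nat_lit 6, nat_lit 2, nat_lit 5, nat_lit 6]))
 (TT.l (Ty.relL (nat_lit 3) [nat_lit 7, nat_lit 4, nat_lit 2, nat_lit 3, nat_lit 2, nat_lit 7, nat_lit 3, nat_lit 8, nat_lit 2, nat_lit 3, nat_lit 4, nat_lit 7, nat_lit 3, nat_lit 4, nat_lit 7, nat_lit 3, nat_lit 2, nat_lit 8, nat_lit 7, nat_lit 3, nat_lit 7, nat_lit 2, nat_lit 3, nat_lit 7, nat_lit 4])))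
 (TT.l (Ty.srel [nat_lit 3, nat_lit 2, nat_lit 1, nat_lit 0, nat_lit 2, nat_lit 3, nat_lit 2, nat_lit 0, nat_lit 1, nat_lit 2, nat_lit 3, nat_lit 2, nat_lit 0, nat_lit 1, nat_lit 2, nat_lit 3, nat_lit 2, nat_lit 0, nat_lit 1, nat_lit 2, nat_lit 3, nat_lit 2, nat_lit 1, nat_lit 0]))))
 (TT.n (TT.n (TT.n (TT.l (Ty.srel [nat_lit 7, nat_lit 3, nat_lit 7, nat_lit 8, nat_lit 2, nat_lit 3, nat_lit 7, nat_lit 4, nat_lit 3, nat_lit 7, nat_lit 4, nat_lit 3, nat_lit 2, nat_lit 8, nat_lit 3, nat_lit 7, nat_lit 2, nat_lit 3, nat_lit 2, nat_lit 4, nat_lit 7, nat_lit 3, nat_lit 2, nat_lit 4, nat_lit 7, nat_lit 3]))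
 (TT.l (Ty.relL (nat_lit 8) [nat_lit 0, nat_lit 2, nat_lit 6, nat_lit 5, nat_lit 8, nat_lit 7, nat_lit 0, nat_lit 5, nat_lit 6, nat_lit 2, nat_lit 0, nat_lit 8, nat_lit 2, nat_lit 6, nat_lit 5, nat_lit 0, nat_lit 8, nat_lit 5, nat_lit 6])))
 (TT.l (Ty.srel [nat_lit 6, nat_lit 3, nat_lit 2, nat_lit 6, nat_lit 0, nat_lit 2, nat_lit 6, nat_lit 3, nat_lit 2, nat_lit 0, nat_lit 6, nat_lit 2, nat_lit 3, nat_lit 6, nat_lit 2, nat_lit 0, nat_lit 6])))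
 (TT.n (TT.l (Ty.srel [nat_lit 8, nat_lit 0, nat_lit 2, nat_lit 6, nat_lit 5, nat_lit 8, nat_lit 7, nat_lit 0, nat_lit 5, nat_lit 6, nat_lit 2, nat_lit 0, nat_lit 8, nat_lit 2, nat_lit 6, nat_lit 5, nat_lit 0, nat_lit 8, nat_lit 5, nat_lit 6]))
 (TT.l (Ty.srel [nat_lit 1, nat_lit 0, nat_lit 3, nat_lit 1, nat_lit 3, nat_lit 2, nat_lit 5, nat_lit 0, nat_lit 3, nat_lit 1, nat_lit 2, nat_lit 3, nat_lit 2, nat_lit 1, nat_lit 3, nat_lit 1, nat_lit 0, nat_lit 5, nat_lit 2, nat_lit 3, nat_lit 1, nat_lit 3, nat_lit 0])))))))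
 (TT.n (TT.n (TT.n (TT.n (TT.n (TT.n (TT.l (Ty.dfn))
 (TT.l (Ty.relL (nat_lit 6) [nat_lit 2, nat_lit 3, nat_lit 5, nat_lit 6, nat_lit 1, nat_lit 2, nat_lit 3, nat_lit 1, nat_lit 3, nat_lit 1, nat_lit 2, nat_lit 1, nat_lit 6, nat_lit 5, nat_lit 3])))
 (TT.l (Ty.srel [nat_lit 1, nat_lit 3, nat_lit 1, nat_lit 0, nat_lit 2, nat_lit 1, nat_lit 3, nat_lit 1, nat_lit 0, nat_lit 2, nat_lit 1, nat_lit 3, nat_lit 0, nat_lit 1, nat_lit 2, nat_lit 0, nat_lit 1, nat_lit 3, nat_lit 1, nat_lit 2, nat_lit 0, nat_lit 1, nat_lit 3, nat_lit 1])))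
 (TT.n (TT.n (TT.l (Ty.relL (nat_lit 3) [nat_lit 8, nat_lit 4, nat_lit 3, nat_lit 2, nat_lit 8, nat_lit 2, nat_lit 3, nat_lit 2, nat_lit 4, nat_lit 3, nat_lit 2, nat_lit 8]))
 (TT.l (Ty.relL (nat_lit 7) [nat_lit 3, nat_lit 7, nat_lit 8, nat_lit 2, nat_lit 3, nat_lit 7, nat_lit 4, nat_lit 3, nat_lit 7, nat_lit 4, nat_lit 3, nat_lit 2, nat_lit 8, nat_lit 3, nat_lit 7, nat_lit 2, nat_lit 3, nat_lit 2, nat_lit 4, nat_lit 7, nat_lit 3, nat_lit 2, nat_lit 4, nat_lit 7, nat_lit 3])))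
 (TT.l (Ty.srel [nat_lit 6, nat_lit 2, nat_lit 3, nat_lit 5, nat_lit 6, nat_lit 1, nat_lit 2, nat_lit 1, nat_lit 3, nat_lit 1, nat_lit 3, nat_lit 2, nat_lit 1, nat_lit 6, nat_lit 5, nat_lit 3]))))
 (TT.n (TT.n (TT.n (TT.l (Ty.relL (nat_lit 6) [nat_lit 2, nat_lit 5, nat_lit 6, nat_lit 2, nat_lit 5, nat_lit 6, nat_lit 5]))
 (TT.l (Ty.relL (nat_lit 3) [nat_lit 2, nat_lit 1, nat_lit 0, nat_lit 2, nat_lit 3, nat_lit 2, nat_lit 0, nat_lit 1, nat_lit 2, nat_lit 3, nat_lit 2, nat_lit 0, nat_lit 1, nat_lit 2, nat_lit 3, nat_lit 2, nat_lit 0, nat_lit 1, nat_lit 2, nat_lit 3, nat_lit 2, nat_lit 1, nat_lit 0])))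
 (TT.l (Ty.srel [nat_lit 0, nat_lit 3, nat_lit 1, nat_lit 3, nat_lit 2, nat_lit 5, nat_lit 0, nat_lit 1, nat_lit 3, nat_lit 1, nat_lit 2, nat_lit 3, nat_lit 2, nat_lit 1, nat_lit 3, nat_lit 0, nat_lit 5, nat_lit 2, nat_lit 3, nat_lit 1, nat_lit 3, nat_lit 0, nat_lit 1])))
 (TT.n (TT.n (TT.l (Ty.srel [nat_lit 6, nat_lit 2, nat_lit 8, nat_lit 2, nat_lit 6, nat_lit 2, nat_lit 6, nat_lit 8]))
 (TT.l (Ty.relL (nat_lit 6) [nat_lit 5, nat_lit 0, nat_lit 8, nat_lit 5, nat_lit 6, nat_lit 2, nat_lit 8, nat_lit 0, nat_lit 2, nat_lit 6, nat_lit 5, nat_lit 8, nat_lit 7, nat_lit 0, nat_lit 5, nat_lit 6, nat_lit 2, nat_lit 0, nat_lit 8])))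
 (TT.l (Ty.relL (nat_lit 1) [nat_lit 3, nat_lit 1, nat_lit 3, nat_lit 2, nat_lit 1, nat_lit 6, nat_lit 5, nat_lit 3, nat_lit 2, nat_lit 6, nat_lit 2, nat_lit 3, nat_lit 5, nat_lit 6, nat_lit 1])))))
 (TT.n (TT.n (TT.n (TT.n (TT.l (Ty.srel [nat_lit 6, nat_lit 8, nat_lit 2, nat_lit 6, nat_lit 2, nat_lit 8, nat_lit 2, nat_lit 6]))
 (TT.l (Ty.relL (nat_lit 3) [nat_lit 2, nat_lit 1, nat_lit 3, nat_lit 0, nat_lit 5, nat_lit 2, nat_lit 3, nat_lit 1, nat_lit 3, nat_lit 0, nat_lit 1, nat_lit 2, nat_lit 0, nat_lit 3, nat_lit 1, nat_lit 3, nat_lit 2, nat_lit 5, nat_lit 0, nat_lit 1, nat_lit 3, nat_lit 1])))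
 (TT.l (Ty.relL (nat_lit 0) [nat_lit 6, nat_lit 2, nat_lit 6, nat_lit 3, nat_lit 2, nat_lit 6, nat_lit 0, nat_lit 2, nat_lit 6, nat_lit 3, nat_lit 2, nat_lit 0, nat_lit 6, nat_lit 2, nat_lit 3, nat_lit 6])))
 (TT.n (TT.n (TT.l (Ty.srel [nat_lit 4, nat_lit 3, nat_lit 2, nat_lit 8, nat_lit 2, nat_lit 3, nat_lit 8, nat_lit 4, nat_lit 3, nat_lit 2, nat_lit 8, nat_lit 2, nat_lit 3]))
 (TT.l (Ty.relL (nat_lit 5) [nat_lit 6, nat_lit 5, nat_lit 2, nat_lit 6, nat_lit 5, nat_lit 2, nat_lit 6])))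
 (TT.l (Ty.relL (nat_lit 3) [nat_lit 5, nat_lit 6, nat_lit 1, nat_lit 2, nat_lit 1, nat_lit 3, nat_lit 1, nat_lit 3, nat_lit 2, nat_lit 1, nat_lit 6, nat_lit 5, nat_lit 3, nat_lit 2, nat_lit 6]))))
 (TT.n (TT.n (TT.n (TT.l (Ty.relL (nat_lit 8) [nat_lit 6, nat_lit 2, nat_lit 6, nat_lit 2, nat_lit 8, nat_lit 2, nat_lit 6]))
 (TT.l (Ty.relL (nat_lit 3) [nat_lit 4, nat_lit 7, nat_lit 3, nat_lit 4, nat_lit 7, nat_lit 3, nat_lit 2, nat_lit 8, nat_lit 7, nat_lit 3, nat_lit 7, nat_lit 2, nat_lit 3, nat_lit 7, nat_lit 4, nat_lit 2, nat_lit 3, nat_lit 7, nat_lit 4, nat_lit 2, nat_lit 3, nat_lit 2, nat_lit 7, nat_lit 3, nat_lit 8])))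
 (TT.l (Ty.relL (nat_lit 3) [nat_lit 1, nat_lit 3, nat_lit 0, nat_lit 2, nat_lit 1, nat_lit 0, nat_lit 3, nat_lit 1, nat_lit 3, nat_lit 2, nat_lit 5, nat_lit 0, nat_lit 3, nat_lit 1, nat_lit 2, nat_lit 3, nat_lit 2, nat_lit 1, nat_lit 3, nat_lit 1, nat_lit 0, nat_lit 5])))
 (TT.n (TT.n (TT.l (Ty.srel [nat_lit 3, nat_lit 2, nat_lit 1, nat_lit 3, nat_lit 0, nat_lit 5, nat_lit 2, nat_lit 3, nat_lit 1, nat_lit 3, nat_lit 0, nat_lit 1, nat_lit 2, nat_lit 0, nat_lit 3, nat_lit 1, nat_lit 3, nat_lit 2, nat_lit 5, nat_lit 0, nat_lit 1, nat_lit 3, nat_lit 1]))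
 (TT.l (Ty.srel [nat_lit 3, nat_lit 1, nat_lit 3, nat_lit 0, nat_lit 1, nat_lit 2, nat_lit 0, nat_lit 3, nat_lit 1, nat_lit 3, nat_lit 2, nat_lit 5, nat_lit 0, nat_lit 1, nat_lit 3, nat_lit 1, nat_lit 2, nat_lit 3, nat_lit 2, nat_lit 1, nat_lit 3, nat_lit 0, nat_lit 5])))
 (TT.l (Ty.srel [nat_lit 3, nat_lit 2, nat_lit 4, nat_lit 7, nat_lit 3, nat_lit 2, nat_lit 4, nat_lit 7, nat_lit 3, nat_lit 2, nat_lit 7, nat_lit 3, nat_lit 7, nat_lit 8, nat_lit 2, nat_lit 3, nat_lit 7, nat_lit 4, nat_lit 3, nat_lit 7, nat_lit 4, nat_lit 3, nat_lit 2, nat_lit 8, nat_lit 3, nat_lit 7]))))))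
 (TT.n (TT.n (TT.n (TT.n (TT.n (TT.l (Ty.rel5 (nat_lit 1) (nat_lit 2) (nat_lit 1) (nat_lit 2) (nat_lit 1)))
 (TT.l (Ty.relL (nat_lit 6) [nat_lit 5, nat_lit 8, nat_lit 0, nat_lit 5, nat_lit 6, nat_lit 2, nat_lit 8, nat_lit 0, nat_lit 2, nat_lit 6, nat_lit 5, nat_lit 0, nat_lit 7, nat_lit 8, nat_lit 5, nat_lit 6, nat_lit 2, nat_lit 0, nat_lit 8])))
 (TT.l (Ty.relL (nat_lit 6) [nat_lit 2, nat_lit 6, nat_lit 8, nat_lit 2, nat_lit 6, nat_lit 2, nat_lit 8])))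
 (TT.n (TT.n (TT.l (Ty.srel [nat_lit 1, nat_lit 5, nat_lit 1, nat_lit 2, nat_lit 1, nat_lit 5, nat_lit 1, nat_lit 5]))
 (TT.l (Ty.relL (nat_lit 1) [nat_lit 3, nat_lit 0, nat_lit 1, nat_lit 2, nat_lit 0, nat_lit 1, nat_lit 3, nat_lit 1, nat_lit 2, nat_lit 0, nat_lit 1, nat_lit 3, nat_lit 1, nat_lit 2, nat_lit 1, nat_lit 3, nat_lit 1, nat_lit 0, nat_lit 2, nat_lit 1, nat_lit 3, nat_lit 1, nat_lit 0])))
 (TT.l (Ty.relL (nat_lit 5) [nat_lit 0, nat_lit 3, nat_lit 1, nat_lit 2, nat_lit 3, nat_lit 2, nat_lit 1, nat_lit 3, nat_lit 1, nat_lit 0, nat_lit 5, nat_lit 2, nat_lit 3, nat_lit 1, nat_lit 3, nat_lit 0, nat_lit 2, nat_lit 1, nat_lit 0, nat_lit 3, nat_lit 1, nat_lit 3]))))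
 (TT.n (TT.n (TT.n (TT.l (Ty.srel [nat_lit 1, nat_lit 2, nat_lit 1, nat_lit 2, nat_lit 1]))
 (TT.l (Ty.srel [nat_lit 3, nat_lit 4, nat_lit 7, nat_lit 3, nat_lit 4, nat_lit 7, nat_lit 3, nat_lit 2, nat_lit 8, nat_lit 7, nat_lit 3, nat_lit 7, nat_lit 2, nat_lit 3, nat_lit 7, nat_lit 4, nat_lit 2, nat_lit 3, nat_lit 7, nat_lit 4, nat_lit 2, nat_lit 3, nat_lit 2, nat_lit 7, nat_lit 3, nat_lit 8])))
 (TT.l (Ty.relL (nat_lit 6) [nat_lit 3, nat_lit 2, nat_lit 6, nat_lit 0, nat_lit 2, nat_lit 3, nat_lit 6, nat_lit 2, nat_lit 0, nat_lit 6, nat_lit 2, nat_lit 3, nat_lit 6, nat_lit 2, nat_lit 6, nat_lit 0])))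
 (TT.n (TT.n (TT.l (Ty.relL (nat_lit 8) [nat_lit 2, nat_lit 3, nat_lit 2, nat_lit 4, nat_lit 3, nat_lit 2, nat_lit 8, nat_lit 2, nat_lit 3, nat_lit 8, nat_lit 4, nat_lit 3]))
 (TT.l (Ty.relL (nat_lit 1) [nat_lit 3, nat_lit 1, nat_lit 0, nat_lit 2, nat_lit 1, nat_lit 3, nat_lit 1, nat_lit 0, nat_lit 2, nat_lit 1, nat_lit 3, nat_lit 0, nat_lit 1, nat_lit 2, nat_lit 0, nat_lit 1, nat_lit 3, nat_lit 1, nat_lit 2, nat_lit 0, nat_lit 1, nat_lit 3, nat_lit 1])))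
 (TT.l (Ty.relL (nat_lit 3) [nat_lit 1, nat_lit 3, nat_lit 0, nat_lit 1, nat_lit 2, nat_lit 0, nat_lit 3, nat_lit 1, nat_lit 3, nat_lit 2, nat_lit 5, nat_lit 0, nat_lit 1, nat_lit 3, nat_lit 1, nat_lit 2, nat_lit 3, nat_lit 2, nat_lit 1, nat_lit 3, nat_lit 0, nat_lit 5])))))
 (TT.n (TT.n (TT.n (TT.n (TT.l (Ty.relL (nat_lit 6) [nat_lit 8, nat_lit 2, nat_lit 6, nat_lit 2, nat_lit 8, nat_lit 2, nat_lit 6]))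
 (TT.l (Ty.srel [nat_lit 7, nat_lit 3, nat_lit 8, nat_lit 2, nat_lit 3, nat_lit 4, nat_lit 7, nat_lit 3, nat_lit 4, nat_lit 7, nat_lit 3, nat_lit 2, nat_lit 8, nat_lit 7, nat_lit 3, nat_lit 7, nat_lit 2, nat_lit 3, nat_lit 7, nat_lit 4, nat_lit 2, nat_lit 3, nat_lit 7, nat_lit 4, nat_lit 2, nat_lit 3])))
 (TT.l (Ty.srel [nat_lit 3, nat_lit 5, nat_lit 6, nat_lit 1, nat_lit 2, nat_lit 1, nat_lit 3, nat_lit 1, nat_lit 3, nat_lit 2, nat_lit 1, nat_lit 6, nat_lit 5, nat_lit 3, nat_lit 2, nat_lit 6])))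
 (TT.n (TT.n (TT.l (Ty.srel [nat_lit 5, nat_lit 1, nat_lit 5, nat_lit 1, nat_lit 2, nat_lit 1, nat_lit 5, nat_lit 1]))
 (TT.l (Ty.srel [nat_lit 8, nat_lit 7, nat_lit 3, nat_lit 7, nat_lit 2, nat_lit 3, nat_lit 7, nat_lit 4, nat_lit 2, nat_lit 3, nat_lit 7, nat_lit 4, nat_lit 2, nat_lit 3, nat_lit 2, nat_lit 7, nat_lit 3, nat_lit 8, nat_lit 2, nat_lit 3, nat_lit 4, nat_lit 7, nat_lit 3, nat_lit 4, nat_lit 7, nat_lit 3])))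
 (TT.l (Ty.relL (nat_lit 3) [nat_lit 6, nat_lit 2, nat_lit 0, nat_lit 6, nat_lit 2, nat_lit 6, nat_lit 3, nat_lit 2, nat_lit 6, nat_lit 0, nat_lit 2, nat_lit 6, nat_lit 3, nat_lit 2, nat_lit 0, nat_lit 6]))))
 (TT.n (TT.n (TT.n (TT.l (Ty.relL (nat_lit 5) [nat_lit 6, nat_lit 2, nat_lit 5, nat_lit 6, nat_lit 5, nat_lit 2, nat_lit 6]))
 (TT.l (Ty.relL (nat_lit 0) [nat_lit 6, nat_lit 2, nat_lit 3, nat_lit 6, nat_lit 2, nat_lit 0, nat_lit 6, nat_lit 2, nat_lit 6, nat_lit 3, nat_lit 2, nat_lit 6, nat_lit 0, nat_lit 2, nat_lit 6, nat_lit 3])))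
 (TT.l (Ty.srel [nat_lit 0, nat_lit 1, nat_lit 3, nat_lit 1, nat_lit 2, nat_lit 1, nat_lit 3, nat_lit 1, nat_lit 0, nat_lit 2, nat_lit 1, nat_lit 3, nat_lit 1, nat_lit 0, nat_lit 2, nat_lit 1, nat_lit 3, nat_lit 0, nat_lit 1, nat_lit 2, nat_lit 0, nat_lit 1, nat_lit 3, nat_lit 1])))
 (TT.n (TT.l (Ty.relL (nat_lit 6) [nat_lit 5, nat_lit 2, nat_lit 6, nat_lit 2, nat_lit 5, nat_lit 6, nat_lit 5]))
 (TT.l (Ty.relL (nat_lit 3) [nat_lit 1, nat_lit 3, nat_lit 1, nat_lit 2, nat_lit 1, nat_lit 6, nat_lit 5, nat_lit 3, nat_lit 2, nat_lit 6, nat_lit 2, nat_lit 3, nat_lit 5, nat_lit 6, nat_lit 1]))))))))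
 (TT.n (TT.n (TT.n (TT.n (TT.n (TT.n (TT.n (TT.l (Ty.rel1 (nat_lit 2)))
 (TT.l (Ty.srel [nat_lit 0, nat_lit 6, nat_lit 2, nat_lit 3, nat_lit 6, nat_lit 2, nat_lit 0, nat_lit 6, nat_lit 2, nat_lit 6, nat_lit 3, nat_lit 2, nat_lit 6, nat_lit 0, nat_lit 2, nat_lit 6, nat_lit 3])))
 (TT.l (Ty.relL (nat_lit 6) [nat_lit 2, nat_lit 8, nat_lit 2, nat_lit 6, nat_lit 2, nat_lit 6, nat_lit 8])))
 (TT.n (TT.n (TT.l (Ty.srel [nat_lit 1, nat_lit 3, nat_lit 2, nat_lit 1, nat_lit 3, nat_lit 2, nat_lit 1, nat_lit 3, nat_lit 2, nat_lit 1, nat_lit 3, nat_lit 2, nat_lit 1, nat_lit 3]))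
 (TT.l (Ty.relL (nat_lit 3) [nat_lit 6, nat_lit 2, nat_lit 0, nat_lit 6, nat_lit 2, nat_lit 3, nat_lit 6, nat_lit 2, nat_lit 6, nat_lit 0, nat_lit 2, nat_lit 6, nat_lit 3, nat_lit 2, nat_lit 6, nat_lit 0])))
 (TT.l (Ty.srel [nat_lit 3, nat_lit 5, nat_lit 6, nat_lit 1, nat_lit 2, nat_lit 3, nat_lit 1, nat_lit 3, nat_lit 1, nat_lit 2, nat_lit 1, nat_lit 6, nat_lit 5, nat_lit 3, nat_lit 2, nat_lit 6]))))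
 (TT.n (TT.n (TT.n (TT.l (Ty.relL (nat_lit 6) [nat_lit 2, nat_lit 6, nat_lit 2, nat_lit 6, nat_lit 2, nat_lit 6]))
 (TT.l (Ty.srel [nat_lit 3, nat_lit 7, nat_lit 4, nat_lit 3, nat_lit 5, nat_lit 4, nat_lit 2, nat_lit 3, nat_lit 7, nat_lit 4, nat_lit 3, nat_lit 5, nat_lit 4, nat_lit 2, nat_lit 3, nat_lit 7, nat_lit 4, nat_lit 3, nat_lit 5, nat_lit 4, nat_lit 2, nat_lit 3, nat_lit 7, nat_lit 4, nat_lit 3, nat_lit 5, nat_lit 4, nat_lit 2, nat_lit 3, nat_lit 7, nat_lit 4, nat_lit 3, nat_lit 5, nat_lit 4])))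
 (TT.l (Ty.relL (nat_lit 6) [nat_lit 2, nat_lit 5, nat_lit 6, nat_lit 5, nat_lit 2, nat_lit 6, nat_lit 5])))
 (TT.n (TT.n (TT.l (Ty.relL (nat_lit 3) [nat_lit 1, nat_lit 2, nat_lit 3, nat_lit 1, nat_lit 2, nat_lit 3, nat_lit 1, nat_lit 2, nat_lit 3, nat_lit 1, nat_lit 2, nat_lit 3, nat_lit 1]))
 (TT.l (Ty.relL (nat_lit 1) [nat_lit 3, nat_lit 1, nat_lit 0, nat_lit 2, nat_lit 1, nat_lit 3, nat_lit 0, nat_lit 1, nat_lit 2, nat_lit 0, nat_lit 1, nat_lit 3, nat_lit 1, nat_lit 2, nat_lit 0, nat_lit 1, nat_lit 3, nat_lit 1, nat_lit 2, nat_lit 1, nat_lit 3, nat_lit 1, nat_lit 0])))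
 (TT.l (Ty.srel [nat_lit 3, nat_lit 7, nat_lit 4, nat_lit 3, nat_lit 7, nat_lit 4, nat_lit 3, nat_lit 2, nat_lit 8, nat_lit 3, nat_lit 7, nat_lit 2, nat_lit 3, nat_lit 2, nat_lit 4, nat_lit 7, nat_lit 3, nat_lit 2, nat_lit 4, nat_lit 7, nat_lit 3, nat_lit 2, nat_lit 7, nat_lit 3, nat_lit 7, nat_lit 8])))))
 (TT.n (TT.n (TT.n (TT.n (TT.l (Ty.rel3 (nat_lit 7) (nat_lit 2) (nat_lit 7)))
 (TT.l (Ty.relL (nat_lit 6) [nat_lit 3, nat_lit 2, nat_lit 6, nat_lit 0, nat_lit 2, nat_lit 6, nat_lit 3, nat_lit 2, nat_lit 0, nat_lit 6, nat_lit 2, nat_lit 3, nat_lit 6, nat_lit 2, nat_lit 0, nat_lit 6])))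
 (TT.l (Ty.srel [nat_lit 6, nat_lit 2, nat_lit 6, nat_lit 8, nat_lit 2, nat_lit 6, nat_lit 2, nat_lit 8])))
 (TT.n (TT.n (TT.l (Ty.srel [nat_lit 6, nat_lit 2, nat_lit 6, nat_lit 2, nat_lit 6, nat_lit 2, nat_lit 6]))
 (TT.l (Ty.relL (nat_lit 6) [nat_lit 5, nat_lit 8, nat_lit 7, nat_lit 0, nat_lit 5, nat_lit 6, nat_lit 2, nat_lit 0, nat_lit 8, nat_lit 2, nat_lit 6, nat_lit 5, nat_lit 0, nat_lit 8, nat_lit 5, nat_lit 6, nat_lit 2, nat_lit 8, nat_lit 0])))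
 (TT.l (Ty.srel [nat_lit 8, nat_lit 2, nat_lit 3, nat_lit 4, nat_lit 8, nat_lit 3, nat_lit 2, nat_lit 8, nat_lit 2, nat_lit 3, nat_lit 4, nat_lit 2, nat_lit 3]))))
 (TT.n (TT.n (TT.n (TT.l (Ty.srel [nat_lit 3, nat_lit 8, nat_lit 4, nat_lit 3, nat_lit 2, nat_lit 8, nat_lit 2, nat_lit 3, nat_lit 2, nat_lit 4, nat_lit 3, nat_lit 2, nat_lit 8]))
 (TT.l (Ty.relL (nat_lit 3) [nat_lit 2, nat_lit 0, nat_lit 1, nat_lit 2, nat_lit 3, nat_lit 2, nat_lit 0, nat_lit 1, nat_lit 2, nat_lit 3, nat_lit 2, nat_lit 1, nat_lit 0, nat_lit 2, nat_lit 3, nat_lit 2, nat_lit 1, nat_lit 0, nat_lit 2, nat_lit 3, nat_lit 2, nat_lit 0, nat_lit 1])))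
 (TT.l (Ty.srel [nat_lit 3, nat_lit 2, nat_lit 4, nat_lit 3, nat_lit 2, nat_lit 8, nat_lit 2, nat_lit 3, nat_lit 8, nat_lit 4, nat_lit 3, nat_lit 2, nat_lit 8])))
 (TT.n (TT.n (TT.l (Ty.srel [nat_lit 6, nat_lit 2, nat_lit 8, nat_lit 2, nat_lit 6, nat_lit 2, nat_lit 8, nat_lit 6]))
 (TT.l (Ty.relL (nat_lit 1) [nat_lit 0, nat_lit 2, nat_lit 3, nat_lit 2, nat_lit 1, nat_lit 0, nat_lit 2, nat_lit 3, nat_lit 2, nat_lit 0, nat_lit 1, nat_lit 2, nat_lit 3, nat_lit 2, nat_lit 0, nat_lit 1, nat_lit 2, nat_lit 3, nat_lit 2, nat_lit 0, nat_lit 1, nat_lit 2, nat_lit 3])))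
 (TT.l (Ty.relL (nat_lit 3) [nat_lit 4, nat_lit 2, nat_lit 3, nat_lit 2, nat_lit 8, nat_lit 2, nat_lit 3, nat_lit 4, nat_lit 8, nat_lit 3, nat_lit 2, nat_lit 8]))))))
 (TT.n (TT.n (TT.n (TT.n (TT.n (TT.l (Ty.srel [nat_lit 2]))
 (TT.l (Ty.relL (nat_lit 8) [nat_lit 7, nat_lit 3, nat_lit 7, nat_lit 2, nat_lit 3, nat_lit 7, nat_lit 4, nat_lit 2, nat_lit 3, nat_lit 7, nat_lit 4, nat_lit 2, nat_lit 3, nat_lit 2, nat_lit 7, nat_lit 3, nat_lit 8, nat_lit 2, nat_lit 3, nat_lit 4, nat_lit 7, nat_lit 3, nat_lit 4, nat_lit 7, nat_lit 3])))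
 (TT.l (Ty.srel [nat_lit 3, nat_lit 1, nat_lit 3, nat_lit 1, nat_lit 2, nat_lit 1, nat_lit 6, nat_lit 5, nat_lit 3, nat_lit 2, nat_lit 6, nat_lit 2, nat_lit 3, nat_lit 5, nat_lit 6, nat_lit 1])))
 (TT.n (TT.n (TT.l (Ty.srel [nat_lit 3, nat_lit 2, nat_lit 8, nat_lit 2, nat_lit 3, nat_lit 4, nat_lit 8, nat_lit 3, nat_lit 2, nat_lit 8, nat_lit 2, nat_lit 3, nat_lit 4]))
 (TT.l (Ty.srel [nat_lit 6, nat_lit 0, nat_lit 2, nat_lit 6, nat_lit 3, nat_lit 2, nat_lit 0, nat_lit 6, nat_lit 2, nat_lit 3, nat_lit 6, nat_lit 2, nat_lit 0, nat_lit 6, nat_lit 2, nat_lit 6, nat_lit 3])))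
 (TT.l (Ty.srel [nat_lit 3, nat_lit 1, nat_lit 3, nat_lit 0, nat_lit 2, nat_lit 1, nat_lit 0, nat_lit 3, nat_lit 1, nat_lit 3, nat_lit 2, nat_lit 5, nat_lit 0, nat_lit 3, nat_lit 1, nat_lit 2, nat_lit 3, nat_lit 2, nat_lit 1, nat_lit 3, nat_lit 1, nat_lit 0, nat_lit 5]))))
 (TT.n (TT.n (TT.n (TT.l (Ty.srel [nat_lit 3, nat_lit 2, nat_lit 3, nat_lit 2, nat_lit 3]))
 (TT.l (Ty.srel [nat_lit 1, nat_lit 3, nat_lit 0, nat_lit 5, nat_lit 2, nat_lit 3, nat_lit 1, nat_lit 3, nat_lit 0, nat_lit 1, nat_lit 2, nat_lit 0, nat_lit 3, nat_lit 1, nat_lit 3, nat_lit 2, nat_lit 5, nat_lit 0, nat_lit 1, nat_lit 3, nat_lit 1, nat_lit 2, nat_lit 3])))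
 (TT.l (Ty.relL (nat_lit 1) [nat_lit 6, nat_lit 5, nat_lit 3, nat_lit 2, nat_lit 6, nat_lit 2, nat_lit 3, nat_lit 5, nat_lit 6, nat_lit 1, nat_lit 2, nat_lit 1, nat_lit 3, nat_lit 1, nat_lit 3])))
 (TT.n (TT.n (TT.l (Ty.srel [nat_lit 3, nat_lit 1, nat_lit 2, nat_lit 3, nat_lit 1, nat_lit 2, nat_lit 3, nat_lit 1, nat_lit 2, nat_lit 3, nat_lit 1, nat_lit 2, nat_lit 3, nat_lit 1]))
 (TT.l (Ty.relL (nat_lit 4) [nat_lit 5, nat_lit 3, nat_lit 4, nat_lit 7, nat_lit 3, nat_lit 2, nat_lit 4, nat_lit 5, nat_lit 3, nat_lit 4, nat_lit 7, nat_lit 3, nat_lit 2, nat_lit 4, nat_lit 5, nat_lit 3, nat_lit 4, nat_lit 7, nat_lit 3, nat_lit 2, nat_lit 4, nat_lit 5, nat_lit 3, nat_lit 4, nat_lit 7, nat_lit 3, nat_lit 2, nat_lit 4, nat_lit 5, nat_lit 3, nat_lit 4, nat_lit 7, nat_lit 3])))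
 (TT.l (Ty.relL (nat_lit 8) [nat_lit 2, nat_lit 3, nat_lit 4, nat_lit 2, nat_lit 3, nat_lit 2, nat_lit 8, nat_lit 2, nat_lit 3, nat_lit 4, nat_lit 8, nat_lit 3])))))
 (TT.n (TT.n (TT.n (TT.n (TT.l (Ty.rel5 (nat_lit 8) (nat_lit 2) (nat_lit 8) (nat_lit 2) (nat_lit 8)))
 (TT.l (Ty.relL (nat_lit 4) [nat_lit 7, nat_lit 3, nat_lit 2, nat_lit 4, nat_lit 7, nat_lit 3, nat_lit 2, nat_lit 7, nat_lit 3, nat_lit 7, nat_lit 8, nat_lit 2, nat_lit 3, nat_lit 7, nat_lit 4, nat_lit 3, nat_lit 7, nat_lit 4, nat_lit 3, nat_lit 2, nat_lit 8, nat_lit 3, nat_lit 7, nat_lit 2, nat_lit 3])))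
 (TT.l (Ty.srel [nat_lit 3, nat_lit 4, nat_lit 8, nat_lit 3, nat_lit 2, nat_lit 8, nat_lit 2, nat_lit 3, nat_lit 4, nat_lit 2, nat_lit 3, nat_lit 2, nat_lit 8])))
 (TT.n (TT.n (TT.l (Ty.srel [nat_lit 1, nat_lit 5, nat_lit 1, nat_lit 5, nat_lit 2, nat_lit 1, nat_lit 5, nat_lit 1]))
 (TT.l (Ty.relL (nat_lit 3) [nat_lit 7, nat_lit 4, nat_lit 3, nat_lit 7, nat_lit 4, nat_lit 3, nat_lit 2, nat_lit 8, nat_lit 3, nat_lit 7, nat_lit 2, nat_lit 3, nat_lit 2, nat_lit 4, nat_lit 7, nat_lit 3, nat_lit 2, nat_lit 4, nat_lit 7, nat_lit 3, nat_lit 2, nat_lit 7, nat_lit 3, nat_lit 7, nat_lit 8])))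
 (TT.l (Ty.srel [nat_lit 1, nat_lit 3, nat_lit 1, nat_lit 0, nat_lit 5, nat_lit 2, nat_lit 3, nat_lit 1, nat_lit 3, nat_lit 0, nat_lit 2, nat_lit 1, nat_lit 0, nat_lit 3, nat_lit 1, nat_lit 3, nat_lit 2, nat_lit 5, nat_lit 0, nat_lit 3, nat_lit 1, nat_lit 2, nat_lit 3]))))
 (TT.n (TT.n (TT.n (TT.l (Ty.srel [nat_lit 4, nat_lit 2, nat_lit 4]))
 (TT.l (Ty.relL (nat_lit 6) [nat_lit 2, nat_lit 8, nat_lit 6, nat_lit 2, nat_lit 6, nat_lit 2, nat_lit 8])))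
 (TT.l (Ty.relL (nat_lit 6) [nat_lit 0, nat_lit 2, nat_lit 3, nat_lit 6, nat_lit 2, nat_lit 0, nat_lit 6, nat_lit 2, nat_lit 3, nat_lit 6, nat_lit 2, nat_lit 6, nat_lit 0, nat_lit 2, nat_lit 6, nat_lit 3])))
 (TT.n (TT.l (Ty.srel [nat_lit 1, nat_lit 3, nat_lit 1, nat_lit 3, nat_lit 2, nat_lit 1, nat_lit 6, nat_lit 5, nat_lit 3, nat_lit 2, nat_lit 6, nat_lit 2, nat_lit 3, nat_lit 5, nat_lit 6, nat_lit 1]))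
 (TT.l (Ty.relL (nat_lit 8) [nat_lit 2, nat_lit 3, nat_lit 8, nat_lit 4, nat_lit 3, nat_lit 2, nat_lit 8, nat_lit 2, nat_lit 3, nat_lit 2, nat_lit 4, nat_lit 3])))))))
 (TT.n (TT.n (TT.n (TT.n (TT.n (TT.n (TT.l (Ty.rel5 (nat_lit 0) (nat_lit 2) (nat_lit 0) (nat_lit 2) (nat_lit 0)))
 (TT.l (Ty.relL (nat_lit 0) [nat_lit 8, nat_lit 2, nat_lit 6, nat_lit 5, nat_lit 8, nat_lit 0, nat_lit 5, nat_lit 6, nat_lit 2, nat_lit 8, nat_lit 0, nat_lit 2, nat_lit 6, nat_lit 5, nat_lit 0, nat_lit 7, nat_lit 8, nat_lit 5, nat_lit 6])))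
 (TT.l (Ty.srel [nat_lit 8, nat_lit 2, nat_lit 3, nat_lit 4, nat_lit 2, nat_lit 3, nat_lit 2, nat_lit 8, nat_lit 2, nat_lit 3, nat_lit 4, nat_lit 8, nat_lit 3])))
 (TT.n (TT.n (TT.l (Ty.srel [nat_lit 7, nat_lit 2, nat_lit 7]))
 (TT.l (Ty.relL (nat_lit 0) [nat_lit 1, nat_lit 2, nat_lit 3, nat_lit 2, nat_lit 0, nat_lit 1, nat_lit 2, nat_lit 3, nat_lit 2, nat_lit 1, nat_lit 0, nat_lit 2, nat_lit 3, nat_lit 2, nat_lit 1, nat_lit 0, nat_lit 2, nat_lit 3, nat_lit 2, nat_lit 0, nat_lit 1, nat_lit 2, nat_lit 3])))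
 (TT.l (Ty.relL (nat_lit 6) [nat_lit 2, nat_lit 3, nat_lit 5, nat_lit 6, nat_lit 1, nat_lit 2, nat_lit 1, nat_lit 3, nat_lit 1, nat_lit 3, nat_lit 2, nat_lit 1, nat_lit 6, nat_lit 5, nat_lit 3]))))
 (TT.n (TT.n (TT.n (TT.l (Ty.relL (nat_lit 8) [nat_lit 2, nat_lit 6, nat_lit 2, nat_lit 6, nat_lit 8, nat_lit 2, nat_lit 6]))
 (TT.l (Ty.relL (nat_lit 3) [nat_lit 2, nat_lit 4, nat_lit 7, nat_lit 3, nat_lit 2, nat_lit 4, nat_lit 7, nat_lit 3, nat_lit 2, nat_lit 7, nat_lit 3, nat_lit 7, nat_lit 8, nat_lit 2, nat_lit 3, nat_lit 7, nat_lit 4, nat_lit 3, nat_lit 7, nat_lit 4, nat_lit 3, nat_lit 2, nat_lit 8, nat_lit 3, nat_lit 7])))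
 (TT.l (Ty.srel [nat_lit 8, nat_lit 6, nat_lit 2, nat_lit 6, nat_lit 2, nat_lit 8, nat_lit 2, nat_lit 6])))
 (TT.n (TT.n (TT.l (Ty.srel [nat_lit 3, nat_lit 6, nat_lit 2, nat_lit 0, nat_lit 6, nat_lit 2, nat_lit 3, nat_lit 6, nat_lit 2, nat_lit 6, nat_lit 0, nat_lit 2, nat_lit 6, nat_lit 3, nat_lit 2, nat_lit 6, nat_lit 0]))
 (TT.l (Ty.srel [nat_lit 6, nat_lit 2, nat_lit 3, nat_lit 5, nat_lit 6, nat_lit 1, nat_lit 2, nat_lit 3, nat_lit 1, nat_lit 3, nat_lit 1, nat_lit 2, nat_lit 1, nat_lit 6, nat_lit 5, nat_lit 3])))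
 (TT.l (Ty.srel [nat_lit 6, nat_lit 5, nat_lit 0, nat_lit 7, nat_lit 8, nat_lit 5, nat_lit 6, nat_lit 2, nat_lit 0, nat_lit 8, nat_lit 2, nat_lit 6, nat_lit 5, nat_lit 8, nat_lit 0, nat_lit 5, nat_lit 6, nat_lit 2, nat_lit 8, nat_lit 0])))))
 (TT.n (TT.n (TT.n (TT.n (TT.l (Ty.relL (nat_lit 5) [nat_lit 6, nat_lit 5, nat_lit 2, nat_lit 6, nat_lit 2, nat_lit 5, nat_lit 6]))
 (TT.l (Ty.relL (nat_lit 1) [nat_lit 6, nat_lit 5, nat_lit 3, nat_lit 2, nat_lit 6, nat_lit 2, nat_lit 3, nat_lit 5, nat_lit 6, nat_lit 1, nat_lit 2, nat_lit 3, nat_lit 1, nat_lit 3, nat_lit 1])))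
 (TT.l (Ty.relL (nat_lit 3) [nat_lit 5, nat_lit 6, nat_lit 1, nat_lit 2, nat_lit 3, nat_lit 1, nat_lit 3, nat_lit 1, nat_lit 2, nat_lit 1, nat_lit 6, nat_lit 5, nat_lit 3, nat_lit 2, nat_lit 6])))
 (TT.n (TT.n (TT.l (Ty.srel [nat_lit 5, nat_lit 6, nat_lit 2, nat_lit 5, nat_lit 6, nat_lit 5, nat_lit 2, nat_lit 6]))
 (TT.l (Ty.relL (nat_lit 3) [nat_lit 7, nat_lit 4, nat_lit 2, nat_lit 3, nat_lit 7, nat_lit 4, nat_lit 2, nat_lit 3, nat_lit 2, nat_lit 7, nat_lit 3, nat_lit 8, nat_lit 2, nat_lit 3, nat_lit 4, nat_lit 7, nat_lit 3, nat_lit 4, nat_lit 7, nat_lit 3, nat_lit 2, nat_lit 8, nat_lit 7, nat_lit 3, nat_lit 7])))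
 (TT.l (Ty.relL (nat_lit 1) [nat_lit 0, nat_lit 3, nat_lit 1, nat_lit 3, nat_lit 2, nat_lit 5, nat_lit 0, nat_lit 3, nat_lit 1, nat_lit 2, nat_lit 3, nat_lit 2, nat_lit 1, nat_lit 3, nat_lit 1, nat_lit 0, nat_lit 5, nat_lit 2, nat_lit 3, nat_lit 1, nat_lit 3, nat_lit 0]))))
 (TT.n (TT.n (TT.n (TT.l (Ty.srel [nat_lit 1, nat_lit 5, nat_lit 1, nat_lit 2, nat_lit 5, nat_lit 1, nat_lit 5, nat_lit 1]))
 (TT.l (Ty.relL (nat_lit 4) [nat_lit 7, nat_lit 3, nat_lit 2, nat_lit 7, nat_lit 3, nat_lit 7, nat_lit 8, nat_lit 2, nat_lit 3, nat_lit 7, nat_lit 4, nat_lit 3, nat_lit 7, nat_lit 4, nat_lit 3, nat_lit 2, nat_lit 8, nat_lit 3, nat_lit 7, nat_lit 2, nat_lit 3, nat_lit 2, nat_lit 4, nat_lit 7, nat_lit 3])))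
 (TT.l (Ty.srel [nat_lit 1, nat_lit 6, nat_lit 5, nat_lit 3, nat_lit 2, nat_lit 6, nat_lit 2, nat_lit 3, nat_lit 5, nat_lit 6, nat_lit 1, nat_lit 2, nat_lit 3, nat_lit 1, nat_lit 3, nat_lit 1])))
 (TT.n (TT.n (TT.l (Ty.srel [nat_lit 1, nat_lit 6, nat_lit 5, nat_lit 3, nat_lit 2, nat_lit 6, nat_lit 2, nat_lit 3, nat_lit 5, nat_lit 6, nat_lit 1, nat_lit 2, nat_lit 1, nat_lit 3, nat_lit 1, nat_lit 3]))
 (TT.l (Ty.skip)))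
 (TT.l (Ty.relL (nat_lit 0) [nat_lit 6, nat_lit 2, nat_lit 3, nat_lit 6, nat_lit 2, nat_lit 6, nat_lit 0, nat_lit 2, nat_lit 6, nat_lit 3, nat_lit 2, nat_lit 6, nat_lit 0, nat_lit 2, nat_lit 3, nat_lit 6]))))))
 (TT.n (TT.n (TT.n (TT.n (TT.n (TT.l (Ty.rel3 (nat_lit 4) (nat_lit 2) (nat_lit 4)))
 (TT.l (Ty.srel [nat_lit 5, nat_lit 0, nat_lit 3, nat_lit 1, nat_lit 2, nat_lit 3, nat_lit 2, nat_lit 1, nat_lit 3, nat_lit 1, nat_lit 0, nat_lit 5, nat_lit 2, nat_lit 3, nat_lit 1, nat_lit 3, nat_lit 0, nat_lit 2, nat_lit 1, nat_lit 0, nat_lit 3, nat_lit 1, nat_lit 3])))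
 (TT.l (Ty.relL (nat_lit 1) [nat_lit 3, nat_lit 2, nat_lit 1, nat_lit 3, nat_lit 2, nat_lit 1, nat_lit 3, nat_lit 2, nat_lit 1, nat_lit 3, nat_lit 2, nat_lit 1, nat_lit 3])))
 (TT.n (TT.n (TT.l (Ty.srel [nat_lit 8, nat_lit 2, nat_lit 3, nat_lit 8, nat_lit 4, nat_lit 3, nat_lit 2, nat_lit 8, nat_lit 2, nat_lit 3, nat_lit 2, nat_lit 4, nat_lit 3]))
 (TT.l (Ty.srel [nat_lit 4, nat_lit 7, nat_lit 3, nat_lit 2, nat_lit 7, nat_lit 3, nat_lit 7, nat_lit 8, nat_lit 2, nat_lit 3, nat_lit 7, nat_lit 4, nat_lit 3, nat_lit 7, nat_lit 4, nat_lit 3, nat_lit 2, nat_lit 8, nat_lit 3, nat_lit 7, nat_lit 2, nat_lit 3, nat_lit 2, nat_lit 4, nat_lit 7, nat_lit 3])))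
 (TT.l (Ty.relL (nat_lit 3) [nat_lit 2, nat_lit 8, nat_lit 2, nat_lit 3, nat_lit 4, nat_lit 8, nat_lit 3, nat_lit 2, nat_lit 8, nat_lit 2, nat_lit 3, nat_lit 4]))))
 (TT.n (TT.n (TT.n (TT.l (Ty.srel [nat_lit 8, nat_lit 2, nat_lit 8, nat_lit 2, nat_lit 8]))
 (TT.l (Ty.relL (nat_lit 8) [nat_lit 0, nat_lit 2, nat_lit 6, nat_lit 5, nat_lit 0, nat_lit 7, nat_lit 8, nat_lit 5, nat_lit 6, nat_lit 2, nat_lit 0, nat_lit 8, nat_lit 2, nat_lit 6, nat_lit 5, nat_lit 8, nat_lit 0, nat_lit 5, nat_lit 6])))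
 (TT.l (Ty.srel [nat_lit 8, nat_lit 0, nat_lit 2, nat_lit 6, nat_lit 5, nat_lit 0, nat_lit 7, nat_lit 8, nat_lit 5, nat_lit 6, nat_lit 2, nat_lit 0, nat_lit 8, nat_lit 2, nat_lit 6, nat_lit 5, nat_lit 8, nat_lit 0, nat_lit 5, nat_lit 6])))
 (TT.n (TT.n (TT.l (Ty.relL (nat_lit 3) [nat_lit 2, nat_lit 4, nat_lit 3, nat_lit 2, nat_lit 8, nat_lit 2, nat_lit 3, nat_lit 8, nat_lit 4, nat_lit 3, nat_lit 2, nat_lit 8]))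
 (TT.l (Ty.relL (nat_lit 3) [nat_lit 2, nat_lit 0, nat_lit 1, nat_lit 2, nat_lit 3, nat_lit 2, nat_lit 0, nat_lit 1, nat_lit 2, nat_lit 3, nat_lit 2, nat_lit 0, nat_lit 1, nat_lit 2, nat_lit 3, nat_lit 2, nat_lit 1, nat_lit 0, nat_lit 2, nat_lit 3, nat_lit 2, nat_lit 1, nat_lit 0])))
 (TT.l (Ty.srel [nat_lit 6, nat_lit 0, nat_lit 2, nat_lit 3, nat_lit 6, nat_lit 2, nat_lit 0, nat_lit 6, nat_lit 2, nat_lit 3, nat_lit 6, nat_lit 2, nat_lit 6, nat_lit 0, nat_lit 2, nat_lit 6, nat_lit 3])))))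
 (TT.n (TT.n (TT.n (TT.n (TT.l (Ty.relL (nat_lit 1) [nat_lit 5, nat_lit 1, nat_lit 2, nat_lit 5, nat_lit 1, nat_lit 5, nat_lit 1]))
 (TT.l (Ty.relL (nat_lit 3) [nat_lit 2, nat_lit 1, nat_lit 0, nat_lit 2, nat_lit 3, nat_lit 2, nat_lit 1, nat_lit 0, nat_lit 2, nat_lit 3, nat_lit 2, nat_lit 0, nat_lit 1, nat_lit 2, nat_lit 3, nat_lit 2, nat_lit 0, nat_lit 1, nat_lit 2, nat_lit 3, nat_lit 2, nat_lit 0, nat_lit 1])))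
 (TT.l (Ty.srel [nat_lit 1, nat_lit 3, nat_lit 1, nat_lit 0, nat_lit 2, nat_lit 1, nat_lit 3, nat_lit 0, nat_lit 1, nat_lit 2, nat_lit 0, nat_lit 1, nat_lit 3, nat_lit 1, nat_lit 2, nat_lit 0, nat_lit 1, nat_lit 3, nat_lit 1, nat_lit 2, nat_lit 1, nat_lit 3, nat_lit 1, nat_lit 0])))
 (TT.n (TT.n (TT.l (Ty.srel [nat_lit 6, nat_lit 5, nat_lit 8, nat_lit 0, nat_lit 5, nat_lit 6, nat_lit 2, nat_lit 8, nat_lit 0, nat_lit 2, nat_lit 6, nat_lit 5, nat_lit 0, nat_lit 7, nat_lit 8, nat_lit 5, nat_lit 6, nat_lit 2, nat_lit 0, nat_lit 8]))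
 (TT.l (Ty.relL (nat_lit 7) [nat_lit 3, nat_lit 8, nat_lit 2, nat_lit 3, nat_lit 4, nat_lit 7, nat_lit 3, nat_lit 4, nat_lit 7, nat_lit 3, nat_lit 2, nat_lit 8, nat_lit 7, nat_lit 3, nat_lit 7, nat_lit 2, nat_lit 3, nat_lit 7, nat_lit 4, nat_lit 2, nat_lit 3, nat_lit 7, nat_lit 4, nat_lit 2, nat_lit 3])))
 (TT.l (Ty.srel [nat_lit 0, nat_lit 1, nat_lit 2, nat_lit 3, nat_lit 2, nat_lit 0, nat_lit 1, nat_lit 2, nat_lit 3, nat_lit 2, nat_lit 0, nat_lit 1, nat_lit 2, nat_lit 3, nat_lit 2, nat_lit 1, nat_lit 0, nat_lit 2, nat_lit 3, nat_lit 2, nat_lit 1, nat_lit 0, nat_lit 2, nat_lit 3]))))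
 (TT.n (TT.n (TT.n (TT.l (Ty.srel [nat_lit 5, nat_lit 2, nat_lit 5]))
 (TT.l (Ty.relL (nat_lit 8) [nat_lit 2, nat_lit 3, nat_lit 4, nat_lit 8, nat_lit 3, nat_lit 2, nat_lit 8, nat_lit 2, nat_lit 3, nat_lit 4, nat_lit 2, nat_lit 3])))
 (TT.l (Ty.relL (nat_lit 1) [nat_lit 3, nat_lit 1, nat_lit 0, nat_lit 5, nat_lit 2, nat_lit 3, nat_lit 1, nat_lit 3, nat_lit 0, nat_lit 2, nat_lit 1, nat_lit 0, nat_lit 3, nat_lit 1, nat_lit 3, nat_lit 2, nat_lit 5, nat_lit 0, nat_lit 3, nat_lit 1, nat_lit 2, nat_lit 3])))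
 (TT.n (TT.l (Ty.srel [nat_lit 0, nat_lit 8, nat_lit 2, nat_lit 6, nat_lit 5, nat_lit 8, nat_lit 0, nat_lit 5, nat_lit 6, nat_lit 2, nat_lit 8, nat_lit 0, nat_lit 2, nat_lit 6, nat_lit 5, nat_lit 0, nat_lit 7, nat_lit 8, nat_lit 5, nat_lit 6]))
 (TT.l (Ty.srel [nat_lit 3, nat_lit 2, nat_lit 7, nat_lit 3, nat_lit 8, nat_lit 2, nat_lit 3, nat_lit 4, nat_lit 7, nat_lit 3, nat_lit 4, nat_lit 7, nat_lit 3, nat_lit 2, nat_lit 8, nat_lit 7, nat_lit 3, nat_lit 7, nat_lit 2, nat_lit 3, nat_lit 7, nat_lit 4, nat_lit 2, nat_lit 3, nat_lit 7, nat_lit 4])))))))))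
noncomputable def ty3 : TT := (TT.n (TT.n (TT.n (TT.n (TT.n (TT.n (TT.n (TT.n (TT.l (Ty.ssub [] []))
 (TT.l (Ty.srel [nat_lit 2, nat_lit 5, nat_lit 0, nat_lit 1, nat_lit 3, nat_lit 1, nat_lit 2, nat_lit 3, nat_lit 2, nat_lit 1, nat_lit 3, nat_lit 0, nat_lit 5, nat_lit 2, nat_lit 3, nat_lit 1, nat_lit 3, nat_lit 0, nat_lit 1, nat_lit 2, nat_lit 0, nat_lit 3, nat_lit 1])))
 (TT.n (TT.l (Ty.srel [nat_lit 7, nat_lit 3, nat_lit 0, nat_lit 1, nat_lit 3, nat_lit 6, nat_lit 7, nat_lit 3, nat_lit 1]))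
 (TT.l (Ty.relL (nat_lit 1) [nat_lit 3, nat_lit 2, nat_lit 5, nat_lit 0, nat_lit 1, nat_lit 3, nat_lit 1, nat_lit 2, nat_lit 3, nat_lit 2, nat_lit 1, nat_lit 3, nat_lit 0, nat_lit 5, nat_lit 2, nat_lit 3, nat_lit 1, nat_lit 3, nat_lit 0, nat_lit 1, nat_lit 2, nat_lit 0]))))
 (TT.n (TT.n (TT.l (Ty.srel [nat_lit 5, nat_lit 3, nat_lit 5, nat_lit 3, nat_lit 5]))
 (TT.l (Ty.relL (nat_lit 2) [nat_lit 6, nat_lit 2, nat_lit 3, nat_lit 5, nat_lit 6, nat_lit 1, nat_lit 2, nat_lit 3, nat_lit 1, nat_lit 3, nat_lit 1, nat_lit 2, nat_lit 1, nat_lit 6, nat_lit 5])))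
 (TT.l (Ty.relL (nat_lit 7) [nat_lit 6, nat_lit 5, nat_lit 3, nat_lit 0, nat_lit 5, nat_lit 6, nat_lit 7, nat_lit 3, nat_lit 5, nat_lit 7, nat_lit 3, nat_lit 7, nat_lit 0, nat_lit 5]))))
 (TT.n (TT.n (TT.n (TT.l (Ty.relL (nat_lit 1) [nat_lit 3, nat_lit 4, nat_lit 1, nat_lit 3, nat_lit 1, nat_lit 3, nat_lit 4]))
 (TT.l (Ty.srel [nat_lit 2, nat_lit 8, nat_lit 2, nat_lit 3, nat_lit 4, nat_lit 8, nat_lit 3, nat_lit 2, nat_lit 8, nat_lit 2, nat_lit 3, nat_lit 4, nat_lit 2])))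
 (TT.n (TT.l (Ty.relL (nat_lit 5) [nat_lit 6, nat_lit 1, nat_lit 2, nat_lit 1, nat_lit 3, nat_lit 1, nat_lit 3, nat_lit 2, nat_lit 1, nat_lit 6, nat_lit 5, nat_lit 3, nat_lit 2, nat_lit 6, nat_lit 2]))
 (TT.l (Ty.relL (nat_lit 2) [nat_lit 7, nat_lit 3, nat_lit 8, nat_lit 2, nat_lit 3, nat_lit 4, nat_lit 7, nat_lit 3, nat_lit 4, nat_lit 7, nat_lit 3, nat_lit 2, nat_lit 8, nat_lit 7, nat_lit 3, nat_lit 7, nat_lit 2, nat_lit 3, nat_lit 7, nat_lit 4, nat_lit 2, nat_lit 3, nat_lit 7, nat_lit 4, nat_lit 2]))))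
 (TT.n (TT.n (TT.l (Ty.srel [nat_lit 4, nat_lit 3, nat_lit 1, nat_lit 3, nat_lit 4, nat_lit 1, nat_lit 3, nat_lit 1]))
 (TT.l (Ty.relL (nat_lit 2) [nat_lit 6, nat_lit 0, nat_lit 2, nat_lit 3, nat_lit 6, nat_lit 2, nat_lit 0, nat_lit 6, nat_lit 2, nat_lit 3, nat_lit 6, nat_lit 2, nat_lit 6, nat_lit 0, nat_lit 2, nat_lit 6])))
 (TT.l (Ty.relL (nat_lit 2) [nat_lit 8, nat_lit 2, nat_lit 3, nat_lit 4, nat_lit 2, nat_lit 3, nat_lit 2, nat_lit 8, nat_lit 2, nat_lit 3, nat_lit 4, nat_lit 8])))))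
 (TT.n (TT.n (TT.n (TT.n (TT.l (Ty.rel3 (nat_lit 6) (nat_lit 3) (nat_lit 6)))
 (TT.l (Ty.relL (nat_lit 4) [nat_lit 8, nat_lit 3, nat_lit 2, nat_lit 8, nat_lit 2, nat_lit 3, nat_lit 4, nat_lit 2, nat_lit 3, nat_lit 2, nat_lit 8, nat_lit 2])))
 (TT.n (TT.l (Ty.srel [nat_lit 0, nat_lit 1, nat_lit 3, nat_lit 6, nat_lit 7, nat_lit 3, nat_lit 1, nat_lit 3, nat_lit 7]))
 (TT.l (Ty.relL (nat_lit 1) [nat_lit 3, nat_lit 0, nat_lit 2, nat_lit 1, nat_lit 0, nat_lit 3, nat_lit 1, nat_lit 3, nat_lit 2, nat_lit 5, nat_lit 0, nat_lit 3, nat_lit 1, nat_lit 2, nat_lit 3, nat_lit 2, nat_lit 1, nat_lit 3, nat_lit 1, nat_lit 0, nat_lit 5, nat_lit 2]))))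
 (TT.n (TT.n (TT.l (Ty.relL (nat_lit 2) [nat_lit 4, nat_lit 3, nat_lit 2, nat_lit 8, nat_lit 2, nat_lit 3, nat_lit 8, nat_lit 4, nat_lit 3, nat_lit 2, nat_lit 8, nat_lit 2]))
 (TT.l (Ty.srel [nat_lit 2, nat_lit 4, nat_lit 5, nat_lit 3, nat_lit 4, nat_lit 7, nat_lit 3, nat_lit 2, nat_lit 4, nat_lit 5, nat_lit 3, nat_lit 4, nat_lit 7, nat_lit 3, nat_lit 2, nat_lit 4, nat_lit 5, nat_lit 3, nat_lit 4, nat_lit 7, nat_lit 3, nat_lit 2, nat_lit 4, nat_lit 5, nat_lit 3, nat_lit 4, nat_lit 7, nat_lit 3, nat_lit 2, nat_lit 4, nat_lit 5, nat_lit 3, nat_lit 4, nat_lit 7])))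
 (TT.l (Ty.srel [nat_lit 2, nat_lit 8, nat_lit 2, nat_lit 3, nat_lit 8, nat_lit 4, nat_lit 3, nat_lit 2, nat_lit 8, nat_lit 2, nat_lit 3, nat_lit 2, nat_lit 4]))))
 (TT.n (TT.n (TT.n (TT.l (Ty.relL (nat_lit 1) [nat_lit 2, nat_lit 3, nat_lit 1, nat_lit 2, nat_lit 3, nat_lit 1, nat_lit 2, nat_lit 3, nat_lit 1, nat_lit 2, nat_lit 3, nat_lit 1, nat_lit 2]))
 (TT.l (Ty.relL (nat_lit 5) [nat_lit 7, nat_lit 3, nat_lit 7, nat_lit 0, nat_lit 5, nat_lit 3, nat_lit 7, nat_lit 6, nat_lit 5, nat_lit 3, nat_lit 0, nat_lit 5, nat_lit 6, nat_lit 7])))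
 (TT.l (Ty.relL (nat_lit 1) [nat_lit 3, nat_lit 4, nat_lit 3, nat_lit 1, nat_lit 3, nat_lit 1, nat_lit 4])))
 (TT.n (TT.n (TT.l (Ty.srel [nat_lit 6, nat_lit 2, nat_lit 0, nat_lit 6, nat_lit 2, nat_lit 3, nat_lit 6, nat_lit 2, nat_lit 6, nat_lit 0, nat_lit 2, nat_lit 6, nat_lit 3, nat_lit 2, nat_lit 6, nat_lit 0, nat_lit 2]))
 (TT.l (Ty.relL (nat_lit 2) [nat_lit 6, nat_lit 0, nat_lit 2, nat_lit 6, nat_lit 3, nat_lit 2, nat_lit 0, nat_lit 6, nat_lit 2, nat_lit 3, nat_lit 6, nat_lit 2, nat_lit 0, nat_lit 6, nat_lit 2, nat_lit 6])))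
 (TT.l (Ty.srel [nat_lit 1, nat_lit 3, nat_lit 8, nat_lit 3, nat_lit 1, nat_lit 3, nat_lit 8, nat_lit 1]))))))
 (TT.n (TT.n (TT.n (TT.n (TT.n (TT.l (Ty.rel5 (nat_lit 2) (nat_lit 3) (nat_lit 2) (nat_lit 3) (nat_lit 2)))
 (TT.l (Ty.srel [nat_lit 7, nat_lit 4, nat_lit 3, nat_lit 2, nat_lit 8, nat_lit 3, nat_lit 7, nat_lit 2, nat_lit 3, nat_lit 2, nat_lit 4, nat_lit 7, nat_lit 3, nat_lit 2, nat_lit 4, nat_lit 7, nat_lit 3, nat_lit 2, nat_lit 7, nat_lit 3, nat_lit 7, nat_lit 8, nat_lit 2, nat_lit 3, nat_lit 7, nat_lit 4])))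
 (TT.n (TT.l (Ty.srel [nat_lit 1, nat_lit 2, nat_lit 3, nat_lit 1, nat_lit 2, nat_lit 3, nat_lit 1, nat_lit 2, nat_lit 3, nat_lit 1, nat_lit 2, nat_lit 3, nat_lit 1, nat_lit 2]))
 (TT.l (Ty.relL (nat_lit 5) [nat_lit 4, nat_lit 2, nat_lit 3, nat_lit 7, nat_lit 4, nat_lit 3, nat_lit 5, nat_lit 4, nat_lit 2, nat_lit 3, nat_lit 7, nat_lit 4, nat_lit 3, nat_lit 5, nat_lit 4, nat_lit 2, nat_lit 3, nat_lit 7, nat_lit 4, nat_lit 3, nat_lit 5, nat_lit 4, nat_lit 2, nat_lit 3, nat_lit 7, nat_lit 4, nat_lit 3, nat_lit 5, nat_lit 4, nat_lit 2, nat_lit 3, nat_lit 7, nat_lit 4]))))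
 (TT.n (TT.n (TT.l (Ty.srel [nat_lit 0, nat_lit 3, nat_lit 0]))
 (TT.l (Ty.srel [nat_lit 1, nat_lit 3, nat_lit 0, nat_lit 1, nat_lit 2, nat_lit 0, nat_lit 3, nat_lit 1, nat_lit 3, nat_lit 2, nat_lit 5, nat_lit 0, nat_lit 1, nat_lit 3, nat_lit 1, nat_lit 2, nat_lit 3, nat_lit 2, nat_lit 1, nat_lit 3, nat_lit 0, nat_lit 5, nat_lit 2])))
 (TT.l (Ty.srel [nat_lit 4, nat_lit 8, nat_lit 3, nat_lit 2, nat_lit 8, nat_lit 2, nat_lit 3, nat_lit 4, nat_lit 2, nat_lit 3, nat_lit 2, nat_lit 8, nat_lit 2]))))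
 (TT.n (TT.n (TT.n (TT.l (Ty.srel [nat_lit 1, nat_lit 3, nat_lit 4, nat_lit 3, nat_lit 1, nat_lit 3, nat_lit 1, nat_lit 4]))
 (TT.l (Ty.srel [nat_lit 7, nat_lit 4, nat_lit 2, nat_lit 3, nat_lit 2, nat_lit 7, nat_lit 3, nat_lit 8, nat_lit 2, nat_lit 3, nat_lit 4, nat_lit 7, nat_lit 3, nat_lit 4, nat_lit 7, nat_lit 3, nat_lit 2, nat_lit 8, nat_lit 7, nat_lit 3, nat_lit 7, nat_lit 2, nat_lit 3, nat_lit 7, nat_lit 4, nat_lit 2])))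
 (TT.n (TT.l (Ty.srel [nat_lit 1, nat_lit 3, nat_lit 2, nat_lit 5, nat_lit 0, nat_lit 1, nat_lit 3, nat_lit 1, nat_lit 2, nat_lit 3, nat_lit 2, nat_lit 1, nat_lit 3, nat_lit 0, nat_lit 5, nat_lit 2, nat_lit 3, nat_lit 1, nat_lit 3, nat_lit 0, nat_lit 1, nat_lit 2, nat_lit 0]))
 (TT.l (Ty.relL (nat_lit 2) [nat_lit 1, nat_lit 0, nat_lit 2, nat_lit 3, nat_lit 2, nat_lit 1, nat_lit 0, nat_lit 2, nat_lit 3, nat_lit 2, nat_lit 0, nat_lit 1, nat_lit 2, nat_lit 3, nat_lit 2, nat_lit 0, nat_lit 1, nat_lit 2, nat_lit 3, nat_lit 2, nat_lit 0, nat_lit 1, nat_lit 2]))))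
 (TT.n (TT.n (TT.l (Ty.srel [nat_lit 2, nat_lit 1, nat_lit 3, nat_lit 2, nat_lit 1, nat_lit 3, nat_lit 2, nat_lit 1, nat_lit 3, nat_lit 2, nat_lit 1, nat_lit 3, nat_lit 2, nat_lit 1]))
 (TT.l (Ty.relL (nat_lit 5) [nat_lit 6, nat_lit 1, nat_lit 2, nat_lit 3, nat_lit 1, nat_lit 3, nat_lit 1, nat_lit 2, nat_lit 1, nat_lit 6, nat_lit 5, nat_lit 3, nat_lit 2, nat_lit 6, nat_lit 2])))
 (TT.l (Ty.srel [nat_lit 1, nat_lit 3, nat_lit 8, nat_lit 3, nat_lit 1, nat_lit 3, nat_lit 1, nat_lit 8])))))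
 (TT.n (TT.n (TT.n (TT.n (TT.l (Ty.srel [nat_lit 1, nat_lit 5, nat_lit 3, nat_lit 1, nat_lit 5, nat_lit 3, nat_lit 1, nat_lit 5]))
 (TT.l (Ty.relL (nat_lit 2) [nat_lit 1, nat_lit 6, nat_lit 5, nat_lit 3, nat_lit 2, nat_lit 6, nat_lit 2, nat_lit 3, nat_lit 5, nat_lit 6, nat_lit 1, nat_lit 2, nat_lit 1, nat_lit 3, nat_lit 1])))
 (TT.n (TT.l (Ty.srel [nat_lit 1, nat_lit 3, nat_lit 1, nat_lit 2, nat_lit 1, nat_lit 6, nat_lit 5, nat_lit 3, nat_lit 2, nat_lit 6, nat_lit 2, nat_lit 3, nat_lit 5, nat_lit 6, nat_lit 1, nat_lit 2]))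
 (TT.l (Ty.relL (nat_lit 2) [nat_lit 4, nat_lit 5, nat_lit 3, nat_lit 4, nat_lit 7, nat_lit 3, nat_lit 2, nat_lit 4, nat_lit 5, nat_lit 3, nat_lit 4, nat_lit 7, nat_lit 3, nat_lit 2, nat_lit 4, nat_lit 5, nat_lit 3, nat_lit 4, nat_lit 7, nat_lit 3, nat_lit 2, nat_lit 4, nat_lit 5, nat_lit 3, nat_lit 4, nat_lit 7, nat_lit 3, nat_lit 2, nat_lit 4, nat_lit 5, nat_lit 3, nat_lit 4, nat_lit 7]))))
 (TT.n (TT.n (TT.l (Ty.srel [nat_lit 1, nat_lit 3, nat_lit 4, nat_lit 3, nat_lit 1, nat_lit 3, nat_lit 4, nat_lit 1]))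
 (TT.l (Ty.srel [nat_lit 0, nat_lit 2, nat_lit 1, nat_lit 0, nat_lit 3, nat_lit 1, nat_lit 3, nat_lit 2, nat_lit 5, nat_lit 0, nat_lit 3, nat_lit 1, nat_lit 2, nat_lit 3, nat_lit 2, nat_lit 1, nat_lit 3, nat_lit 1, nat_lit 0, nat_lit 5, nat_lit 2, nat_lit 3, nat_lit 1])))
 (TT.l (Ty.relL (nat_lit 4) [nat_lit 3, nat_lit 1, nat_lit 3, nat_lit 1, nat_lit 4, nat_lit 3, nat_lit 1]))))
 (TT.n (TT.n (TT.n (TT.l (Ty.srel [nat_lit 1, nat_lit 0, nat_lit 3, nat_lit 7, nat_lit 3, nat_lit 1, nat_lit 3, nat_lit 7, nat_lit 6]))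
 (TT.l (Ty.srel [nat_lit 2, nat_lit 0, nat_lit 1, nat_lit 2, nat_lit 3, nat_lit 2, nat_lit 0, nat_lit 1, nat_lit 2, nat_lit 3, nat_lit 2, nat_lit 1, nat_lit 0, nat_lit 2, nat_lit 3, nat_lit 2, nat_lit 1, nat_lit 0, nat_lit 2, nat_lit 3, nat_lit 2, nat_lit 0, nat_lit 1, nat_lit 2])))
 (TT.l (Ty.relL (nat_lit 2) [nat_lit 8, nat_lit 2, nat_lit 3, nat_lit 8, nat_lit 4, nat_lit 3, nat_lit 2, nat_lit 8, nat_lit 2, nat_lit 3, nat_lit 2, nat_lit 4])))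
 (TT.n (TT.n (TT.l (Ty.srel [nat_lit 2, nat_lit 6, nat_lit 2, nat_lit 3, nat_lit 5, nat_lit 6, nat_lit 1, nat_lit 2, nat_lit 1, nat_lit 3, nat_lit 1, nat_lit 3, nat_lit 2, nat_lit 1, nat_lit 6, nat_lit 5]))
 (TT.l (Ty.relL (nat_lit 1) [nat_lit 2, nat_lit 3, nat_lit 2, nat_lit 1, nat_lit 3, nat_lit 0, nat_lit 5, nat_lit 2, nat_lit 3, nat_lit 1, nat_lit 3, nat_lit 0, nat_lit 1, nat_lit 2, nat_lit 0, nat_lit 3, nat_lit 1, nat_lit 3, nat_lit 2, nat_lit 5, nat_lit 0, nat_lit 1])))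
 (TT.l (Ty.srel [nat_lit 1, nat_lit 2, nat_lit 3, nat_lit 2, nat_lit 1, nat_lit 3, nat_lit 1, nat_lit 0, nat_lit 5, nat_lit 2, nat_lit 3, nat_lit 1, nat_lit 3, nat_lit 0, nat_lit 2, nat_lit 1, nat_lit 0, nat_lit 3, nat_lit 1, nat_lit 3, nat_lit 2, nat_lit 5, nat_lit 0])))))))
 (TT.n (TT.n (TT.n (TT.n (TT.n (TT.n (TT.l (Ty.dfn))
 (TT.l (Ty.relL (nat_lit 2) [nat_lit 1, nat_lit 3, nat_lit 2, nat_lit 1, nat_lit 3, nat_lit 2, nat_lit 1, nat_lit 3, nat_lit 2, nat_lit 1, nat_lit 3, nat_lit 2, nat_lit 1])))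
 (TT.n (TT.l (Ty.relL (nat_lit 1) [nat_lit 3, nat_lit 8, nat_lit 3, nat_lit 1, nat_lit 3, nat_lit 8, nat_lit 1]))
 (TT.l (Ty.relL (nat_lit 1) [nat_lit 2, nat_lit 0, nat_lit 1, nat_lit 3, nat_lit 1, nat_lit 2, nat_lit 0, nat_lit 1, nat_lit 3, nat_lit 1, nat_lit 2, nat_lit 1, nat_lit 3, nat_lit 1, nat_lit 0, nat_lit 2, nat_lit 1, nat_lit 3, nat_lit 1, nat_lit 0, nat_lit 2, nat_lit 1, nat_lit 0]))))
 (TT.n (TT.n (TT.l (Ty.srel [nat_lit 1, nat_lit 3, nat_lit 1, nat_lit 3, nat_lit 1, nat_lit 3, nat_lit 1]))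
 (TT.l (Ty.srel [nat_lit 2, nat_lit 6, nat_lit 0, nat_lit 2, nat_lit 3, nat_lit 6, nat_lit 2, nat_lit 0, nat_lit 6, nat_lit 2, nat_lit 3, nat_lit 6, nat_lit 2, nat_lit 6, nat_lit 0, nat_lit 2, nat_lit 6])))
 (TT.l (Ty.srel [nat_lit 1, nat_lit 2, nat_lit 1, nat_lit 3, nat_lit 1, nat_lit 0, nat_lit 2, nat_lit 1, nat_lit 3, nat_lit 1, nat_lit 0, nat_lit 2, nat_lit 1, nat_lit 3, nat_lit 0, nat_lit 1, nat_lit 2, nat_lit 0, nat_lit 1, nat_lit 3, nat_lit 1, nat_lit 2, nat_lit 0, nat_lit 1]))))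
 (TT.n (TT.n (TT.n (TT.l (Ty.relL (nat_lit 1) [nat_lit 3, nat_lit 8, nat_lit 1, nat_lit 3, nat_lit 1, nat_lit 3, nat_lit 8]))
 (TT.l (Ty.srel [nat_lit 1, nat_lit 0, nat_lit 5, nat_lit 2, nat_lit 3, nat_lit 1, nat_lit 3, nat_lit 0, nat_lit 2, nat_lit 1, nat_lit 0, nat_lit 3, nat_lit 1, nat_lit 3, nat_lit 2, nat_lit 5, nat_lit 0, nat_lit 3, nat_lit 1, nat_lit 2, nat_lit 3, nat_lit 2, nat_lit 1])))
 (TT.n (TT.l (Ty.relL (nat_lit 1) [nat_lit 4, nat_lit 3, nat_lit 1, nat_lit 3, nat_lit 4, nat_lit 3, nat_lit 1]))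
 (TT.l (Ty.relL (nat_lit 2) [nat_lit 0, nat_lit 1, nat_lit 2, nat_lit 3, nat_lit 2, nat_lit 0, nat_lit 1, nat_lit 2, nat_lit 3, nat_lit 2, nat_lit 0, nat_lit 1, nat_lit 2, nat_lit 3, nat_lit 2, nat_lit 1, nat_lit 0, nat_lit 2, nat_lit 3, nat_lit 2, nat_lit 1, nat_lit 0, nat_lit 2]))))
 (TT.n (TT.n (TT.l (Ty.srel [nat_lit 8, nat_lit 3, nat_lit 1, nat_lit 3, nat_lit 1, nat_lit 8, nat_lit 3, nat_lit 1]))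
 (TT.l (Ty.relL (nat_lit 4) [nat_lit 7, nat_lit 3, nat_lit 4, nat_lit 7, nat_lit 3, nat_lit 2, nat_lit 8, nat_lit 7, nat_lit 3, nat_lit 7, nat_lit 2, nat_lit 3, nat_lit 7, nat_lit 4, nat_lit 2, nat_lit 3, nat_lit 7, nat_lit 4, nat_lit 2, nat_lit 3, nat_lit 2, nat_lit 7, nat_lit 3, nat_lit 8, nat_lit 2])))
 (TT.l (Ty.srel [nat_lit 0, nat_lit 1, nat_lit 2, nat_lit 0, nat_lit 1, nat_lit 3, nat_lit 1, nat_lit 2, nat_lit 0, nat_lit 1, nat_lit 3, nat_lit 1, nat_lit 2, nat_lit 1, nat_lit 3, nat_lit 1, nat_lit 0, nat_lit 2, nat_lit 1, nat_lit 3, nat_lit 1, nat_lit 0, nat_lit 2, nat_lit 1])))))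
 (TT.n (TT.n (TT.n (TT.n (TT.l (Ty.srel [nat_lit 1, nat_lit 3, nat_lit 7, nat_lit 3, nat_lit 0, nat_lit 1, nat_lit 3, nat_lit 6, nat_lit 7]))
 (TT.l (Ty.relL (nat_lit 2) [nat_lit 4, nat_lit 7, nat_lit 3, nat_lit 2, nat_lit 7, nat_lit 3, nat_lit 7, nat_lit 8, nat_lit 2, nat_lit 3, nat_lit 7, nat_lit 4, nat_lit 3, nat_lit 7, nat_lit 4, nat_lit 3, nat_lit 2, nat_lit 8, nat_lit 3, nat_lit 7, nat_lit 2, nat_lit 3, nat_lit 2, nat_lit 4, nat_lit 7])))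
 (TT.n (TT.l (Ty.relL (nat_lit 2) [nat_lit 8, nat_lit 2, nat_lit 3, nat_lit 4, nat_lit 8, nat_lit 3, nat_lit 2, nat_lit 8, nat_lit 2, nat_lit 3, nat_lit 4, nat_lit 2]))
 (TT.l (Ty.srel [nat_lit 2, nat_lit 4, nat_lit 7, nat_lit 3, nat_lit 2, nat_lit 4, nat_lit 7, nat_lit 3, nat_lit 2, nat_lit 7, nat_lit 3, nat_lit 7, nat_lit 8, nat_lit 2, nat_lit 3, nat_lit 7, nat_lit 4, nat_lit 3, nat_lit 7, nat_lit 4, nat_lit 3, nat_lit 2, nat_lit 8, nat_lit 3, nat_lit 7, nat_lit 2]))))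
 (TT.n (TT.n (TT.l (Ty.srel [nat_lit 2, nat_lit 1, nat_lit 3, nat_lit 1, nat_lit 0, nat_lit 5, nat_lit 2, nat_lit 3, nat_lit 1, nat_lit 3, nat_lit 0, nat_lit 2, nat_lit 1, nat_lit 0, nat_lit 3, nat_lit 1, nat_lit 3, nat_lit 2, nat_lit 5, nat_lit 0, nat_lit 3, nat_lit 1, nat_lit 2]))
 (TT.l (Ty.srel [nat_lit 4, nat_lit 7, nat_lit 3, nat_lit 4, nat_lit 7, nat_lit 3, nat_lit 2, nat_lit 8, nat_lit 7, nat_lit 3, nat_lit 7, nat_lit 2, nat_lit 3, nat_lit 7, nat_lit 4, nat_lit 2, nat_lit 3, nat_lit 7, nat_lit 4, nat_lit 2, nat_lit 3, nat_lit 2, nat_lit 7, nat_lit 3, nat_lit 8, nat_lit 2])))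
 (TT.l (Ty.srel [nat_lit 1, nat_lit 3, nat_lit 4, nat_lit 1, nat_lit 3, nat_lit 1, nat_lit 3, nat_lit 4]))))
 (TT.n (TT.n (TT.n (TT.l (Ty.relL (nat_lit 6) [nat_lit 7, nat_lit 3, nat_lit 1, nat_lit 3, nat_lit 7, nat_lit 3, nat_lit 0, nat_lit 1]))
 (TT.l (Ty.relL (nat_lit 1) [nat_lit 3, nat_lit 2, nat_lit 5, nat_lit 0, nat_lit 3, nat_lit 1, nat_lit 2, nat_lit 3, nat_lit 2, nat_lit 1, nat_lit 3, nat_lit 1, nat_lit 0, nat_lit 5, nat_lit 2, nat_lit 3, nat_lit 1, nat_lit 3, nat_lit 0, nat_lit 2, nat_lit 1, nat_lit 0])))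
 (TT.l (Ty.srel [nat_lit 7, nat_lit 2, nat_lit 3, nat_lit 2, nat_lit 4, nat_lit 7, nat_lit 3, nat_lit 2, nat_lit 4, nat_lit 7, nat_lit 3, nat_lit 2, nat_lit 7, nat_lit 3, nat_lit 7, nat_lit 8, nat_lit 2, nat_lit 3, nat_lit 7, nat_lit 4, nat_lit 3, nat_lit 7, nat_lit 4, nat_lit 3, nat_lit 2, nat_lit 8])))
 (TT.n (TT.n (TT.l (Ty.srel [nat_lit 4, nat_lit 1, nat_lit 3, nat_lit 1, nat_lit 3, nat_lit 4, nat_lit 3, nat_lit 1]))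
 (TT.l (Ty.srel [nat_lit 1, nat_lit 0, nat_lit 2, nat_lit 1, nat_lit 3, nat_lit 1, nat_lit 0, nat_lit 2, nat_lit 1, nat_lit 3, nat_lit 0, nat_lit 1, nat_lit 2, nat_lit 0, nat_lit 1, nat_lit 3, nat_lit 1, nat_lit 2, nat_lit 0, nat_lit 1, nat_lit 3, nat_lit 1, nat_lit 2, nat_lit 1])))
 (TT.l (Ty.relL (nat_lit 7) [nat_lit 0, nat_lit 5, nat_lit 3, nat_lit 7, nat_lit 6, nat_lit 5, nat_lit 3, nat_lit 0, nat_lit 5, nat_lit 6, nat_lit 7, nat_lit 3, nat_lit 5, nat_lit 7]))))))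
 (TT.n (TT.n (TT.n (TT.n (TT.n (TT.l (Ty.rel5 (nat_lit 8) (nat_lit 3) (nat_lit 8) (nat_lit 3) (nat_lit 8)))
 (TT.l (Ty.relL (nat_lit 1) [nat_lit 3, nat_lit 2, nat_lit 1, nat_lit 6, nat_lit 5, nat_lit 3, nat_lit 2, nat_lit 6, nat_lit 2, nat_lit 3, nat_lit 5, nat_lit 6, nat_lit 1, nat_lit 2, nat_lit 1])))
 (TT.n (TT.l (Ty.relL (nat_lit 2) [nat_lit 6, nat_lit 2, nat_lit 3, nat_lit 5, nat_lit 6, nat_lit 1, nat_lit 2, nat_lit 1, nat_lit 3, nat_lit 1, nat_lit 3, nat_lit 2, nat_lit 1, nat_lit 6, nat_lit 5]))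
 (TT.l (Ty.srel [nat_lit 7, nat_lit 8, nat_lit 2, nat_lit 3, nat_lit 7, nat_lit 4, nat_lit 3, nat_lit 7, nat_lit 4, nat_lit 3, nat_lit 2, nat_lit 8, nat_lit 3, nat_lit 7, nat_lit 2, nat_lit 3, nat_lit 2, nat_lit 4, nat_lit 7, nat_lit 3, nat_lit 2, nat_lit 4, nat_lit 7, nat_lit 3, nat_lit 2, nat_lit 7]))))
 (TT.n (TT.n (TT.l (Ty.srel [nat_lit 6, nat_lit 3, nat_lit 6]))
 (TT.l (Ty.relL (nat_lit 7) [nat_lit 4, nat_lit 2, nat_lit 3, nat_lit 2, nat_lit 7, nat_lit 3, nat_lit 8, nat_lit 2, nat_lit 3, nat_lit 4, nat_lit 7, nat_lit 3, nat_lit 4, nat_lit 7, nat_lit 3, nat_lit 2, nat_lit 8, nat_lit 7, nat_lit 3, nat_lit 7, nat_lit 2, nat_lit 3, nat_lit 7, nat_lit 4, nat_lit 2])))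
 (TT.l (Ty.srel [nat_lit 2, nat_lit 8, nat_lit 2, nat_lit 3, nat_lit 4, nat_lit 2, nat_lit 3, nat_lit 2, nat_lit 8, nat_lit 2, nat_lit 3, nat_lit 4, nat_lit 8]))))
 (TT.n (TT.n (TT.n (TT.l (Ty.srel [nat_lit 2, nat_lit 4, nat_lit 3, nat_lit 2, nat_lit 8, nat_lit 2, nat_lit 3, nat_lit 8, nat_lit 4, nat_lit 3, nat_lit 2, nat_lit 8, nat_lit 2]))
 (TT.l (Ty.srel [nat_lit 2, nat_lit 5, nat_lit 0, nat_lit 3, nat_lit 1, nat_lit 2, nat_lit 3, nat_lit 2, nat_lit 1, nat_lit 3, nat_lit 1, nat_lit 0, nat_lit 5, nat_lit 2, nat_lit 3, nat_lit 1, nat_lit 3, nat_lit 0, nat_lit 2, nat_lit 1, nat_lit 0, nat_lit 3, nat_lit 1])))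
 (TT.l (Ty.relL (nat_lit 7) [nat_lit 3, nat_lit 0, nat_lit 1, nat_lit 3, nat_lit 6, nat_lit 7, nat_lit 3, nat_lit 1])))
 (TT.n (TT.n (TT.l (Ty.srel [nat_lit 2, nat_lit 1, nat_lit 6, nat_lit 5, nat_lit 3, nat_lit 2, nat_lit 6, nat_lit 2, nat_lit 3, nat_lit 5, nat_lit 6, nat_lit 1, nat_lit 2, nat_lit 1, nat_lit 3, nat_lit 1]))
 (TT.l (Ty.relL (nat_lit 2) [nat_lit 5, nat_lit 0, nat_lit 1, nat_lit 3, nat_lit 1, nat_lit 2, nat_lit 3, nat_lit 2, nat_lit 1, nat_lit 3, nat_lit 0, nat_lit 5, nat_lit 2, nat_lit 3, nat_lit 1, nat_lit 3, nat_lit 0, nat_lit 1, nat_lit 2, nat_lit 0, nat_lit 3, nat_lit 1])))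
 (TT.l (Ty.relL (nat_lit 6) [nat_lit 2, nat_lit 6, nat_lit 0, nat_lit 2, nat_lit 6, nat_lit 3, nat_lit 2, nat_lit 6, nat_lit 0, nat_lit 2, nat_lit 3, nat_lit 6, nat_lit 2, nat_lit 0, nat_lit 6, nat_lit 2])))))
 (TT.n (TT.n (TT.n (TT.n (TT.l (Ty.srel [nat_lit 7, nat_lit 3, nat_lit 7, nat_lit 3, nat_lit 7, nat_lit 3, nat_lit 7]))
 (TT.l (Ty.relL (nat_lit 0) [nat_lit 5, nat_lit 6, nat_lit 7, nat_lit 3, nat_lit 5, nat_lit 7, nat_lit 3, nat_lit 7, nat_lit 0, nat_lit 5, nat_lit 3, nat_lit 7, nat_lit 6, nat_lit 5])))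
 (TT.n (TT.l (Ty.srel [nat_lit 1, nat_lit 3, nat_lit 1, nat_lit 4, nat_lit 3, nat_lit 1, nat_lit 3, nat_lit 4]))
 (TT.l (Ty.relL (nat_lit 2) [nat_lit 0, nat_lit 1, nat_lit 2, nat_lit 3, nat_lit 2, nat_lit 0, nat_lit 1, nat_lit 2, nat_lit 3, nat_lit 2, nat_lit 1, nat_lit 0, nat_lit 2, nat_lit 3, nat_lit 2, nat_lit 1, nat_lit 0, nat_lit 2, nat_lit 3, nat_lit 2, nat_lit 0, nat_lit 1, nat_lit 2]))))
 (TT.n (TT.n (TT.l (Ty.srel [nat_lit 5, nat_lit 1, nat_lit 3, nat_lit 5, nat_lit 1, nat_lit 3, nat_lit 5, nat_lit 1]))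
 (TT.l (Ty.relL (nat_lit 7) [nat_lit 4, nat_lit 3, nat_lit 2, nat_lit 8, nat_lit 3, nat_lit 7, nat_lit 2, nat_lit 3, nat_lit 2, nat_lit 4, nat_lit 7, nat_lit 3, nat_lit 2, nat_lit 4, nat_lit 7, nat_lit 3, nat_lit 2, nat_lit 7, nat_lit 3, nat_lit 7, nat_lit 8, nat_lit 2, nat_lit 3, nat_lit 7, nat_lit 4])))
 (TT.l (Ty.srel [nat_lit 7, nat_lit 6, nat_lit 5, nat_lit 3, nat_lit 0, nat_lit 5, nat_lit 6, nat_lit 7, nat_lit 3, nat_lit 5, nat_lit 7, nat_lit 3, nat_lit 7, nat_lit 0, nat_lit 5]))))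
 (TT.n (TT.n (TT.n (TT.l (Ty.relL (nat_lit 0) [nat_lit 1, nat_lit 2, nat_lit 0, nat_lit 1, nat_lit 3, nat_lit 1, nat_lit 2, nat_lit 0, nat_lit 1, nat_lit 3, nat_lit 1, nat_lit 2, nat_lit 1, nat_lit 3, nat_lit 1, nat_lit 0, nat_lit 2, nat_lit 1, nat_lit 3, nat_lit 1, nat_lit 0, nat_lit 2, nat_lit 1]))
 (TT.l (Ty.srel [nat_lit 7, nat_lit 4, nat_lit 2, nat_lit 3, nat_lit 7, nat_lit 4, nat_lit 2, nat_lit 3, nat_lit 2, nat_lit 7, nat_lit 3, nat_lit 8, nat_lit 2, nat_lit 3, nat_lit 4, nat_lit 7, nat_lit 3, nat_lit 4, nat_lit 7, nat_lit 3, nat_lit 2, nat_lit 8, nat_lit 7, nat_lit 3, nat_lit 7, nat_lit 2])))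
 (TT.l (Ty.srel [nat_lit 2, nat_lit 4, nat_lit 7, nat_lit 3, nat_lit 2, nat_lit 7, nat_lit 3, nat_lit 7, nat_lit 8, nat_lit 2, nat_lit 3, nat_lit 7, nat_lit 4, nat_lit 3, nat_lit 7, nat_lit 4, nat_lit 3, nat_lit 2, nat_lit 8, nat_lit 3, nat_lit 7, nat_lit 2, nat_lit 3, nat_lit 2, nat_lit 4, nat_lit 7])))
 (TT.n (TT.n (TT.l (Ty.srel [nat_lit 1, nat_lit 3, nat_lit 2, nat_lit 5, nat_lit 0, nat_lit 3, nat_lit 1, nat_lit 2, nat_lit 3, nat_lit 2, nat_lit 1, nat_lit 3, nat_lit 1, nat_lit 0, nat_lit 5, nat_lit 2, nat_lit 3, nat_lit 1, nat_lit 3, nat_lit 0, nat_lit 2, nat_lit 1, nat_lit 0]))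
 (TT.l (Ty.relL (nat_lit 1) [nat_lit 3, nat_lit 0, nat_lit 1, nat_lit 2, nat_lit 0, nat_lit 3, nat_lit 1, nat_lit 3, nat_lit 2, nat_lit 5, nat_lit 0, nat_lit 1, nat_lit 3, nat_lit 1, nat_lit 2, nat_lit 3, nat_lit 2, nat_lit 1, nat_lit 3, nat_lit 0, nat_lit 5, nat_lit 2])))
 (TT.l (Ty.relL (nat_lit 1) [nat_lit 3, nat_lit 7, nat_lit 6, nat_lit 3, nat_lit 1, nat_lit 0, nat_lit 3, nat_lit 7]))))))))
 (TT.n (TT.n (TT.n (TT.n (TT.n (TT.n (TT.n (TT.l (Ty.rel1 (nat_lit 3)))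
 (TT.l (Ty.srel [nat_lit 4, nat_lit 2, nat_lit 3, nat_lit 2, nat_lit 8, nat_lit 2, nat_lit 3, nat_lit 4, nat_lit 8, nat_lit 3, nat_lit 2, nat_lit 8, nat_lit 2])))
 (TT.n (TT.l (Ty.relL (nat_lit 7) [nat_lit 3, nat_lit 1, nat_lit 3, nat_lit 7, nat_lit 6, nat_lit 3, nat_lit 1, nat_lit 0]))
 (TT.l (Ty.relL (nat_lit 7) [nat_lit 4, nat_lit 3, nat_lit 7, nat_lit 4, nat_lit 3, nat_lit 2, nat_lit 8, nat_lit 3, nat_lit 7, nat_lit 2, nat_lit 3, nat_lit 2, nat_lit 4, nat_lit 7, nat_lit 3, nat_lit 2, nat_lit 4, nat_lit 7, nat_lit 3, nat_lit 2, nat_lit 7, nat_lit 3, nat_lit 7, nat_lit 8, nat_lit 2]))))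
 (TT.n (TT.n (TT.l (Ty.relL (nat_lit 7) [nat_lit 3, nat_lit 7, nat_lit 3, nat_lit 7, nat_lit 3, nat_lit 7]))
 (TT.l (Ty.srel [nat_lit 1, nat_lit 2, nat_lit 3, nat_lit 2, nat_lit 1, nat_lit 3, nat_lit 0, nat_lit 5, nat_lit 2, nat_lit 3, nat_lit 1, nat_lit 3, nat_lit 0, nat_lit 1, nat_lit 2, nat_lit 0, nat_lit 3, nat_lit 1, nat_lit 3, nat_lit 2, nat_lit 5, nat_lit 0, nat_lit 1])))
 (TT.l (Ty.srel [nat_lit 5, nat_lit 7, nat_lit 3, nat_lit 7, nat_lit 0, nat_lit 5, nat_lit 3, nat_lit 7, nat_lit 6, nat_lit 5, nat_lit 3, nat_lit 0, nat_lit 5, nat_lit 6, nat_lit 7]))))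
 (TT.n (TT.n (TT.n (TT.l (Ty.relL (nat_lit 1) [nat_lit 3, nat_lit 1, nat_lit 3, nat_lit 1, nat_lit 3, nat_lit 1]))
 (TT.l (Ty.relL (nat_lit 2) [nat_lit 1, nat_lit 3, nat_lit 0, nat_lit 5, nat_lit 2, nat_lit 3, nat_lit 1, nat_lit 3, nat_lit 0, nat_lit 1, nat_lit 2, nat_lit 0, nat_lit 3, nat_lit 1, nat_lit 3, nat_lit 2, nat_lit 5, nat_lit 0, nat_lit 1, nat_lit 3, nat_lit 1, nat_lit 2])))
 (TT.n (TT.l (Ty.srel [nat_lit 5, nat_lit 6, nat_lit 7, nat_lit 3, nat_lit 5, nat_lit 0, nat_lit 7, nat_lit 3, nat_lit 7, nat_lit 5, nat_lit 3, nat_lit 7, nat_lit 6, nat_lit 5, nat_lit 0]))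
 (TT.l (Ty.relL (nat_lit 2) [nat_lit 4, nat_lit 7, nat_lit 3, nat_lit 2, nat_lit 4, nat_lit 7, nat_lit 3, nat_lit 2, nat_lit 7, nat_lit 3, nat_lit 7, nat_lit 8, nat_lit 2, nat_lit 3, nat_lit 7, nat_lit 4, nat_lit 3, nat_lit 7, nat_lit 4, nat_lit 3, nat_lit 2, nat_lit 8, nat_lit 3, nat_lit 7, nat_lit 2]))))
 (TT.n (TT.n (TT.l (Ty.relL (nat_lit 0) [nat_lit 1, nat_lit 3, nat_lit 6, nat_lit 7, nat_lit 3, nat_lit 1, nat_lit 3, nat_lit 7]))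
 (TT.l (Ty.srel [nat_lit 2, nat_lit 8, nat_lit 7, nat_lit 3, nat_lit 7, nat_lit 2, nat_lit 3, nat_lit 7, nat_lit 4, nat_lit 2, nat_lit 3, nat_lit 7, nat_lit 4, nat_lit 2, nat_lit 3, nat_lit 2, nat_lit 7, nat_lit 3, nat_lit 8, nat_lit 2, nat_lit 3, nat_lit 4, nat_lit 7, nat_lit 3, nat_lit 4, nat_lit 7])))
 (TT.l (Ty.relL (nat_lit 1) [nat_lit 0, nat_lit 5, nat_lit 2, nat_lit 3, nat_lit 1, nat_lit 3, nat_lit 0, nat_lit 2, nat_lit 1, nat_lit 0, nat_lit 3, nat_lit 1, nat_lit 3, nat_lit 2, nat_lit 5, nat_lit 0, nat_lit 3, nat_lit 1, nat_lit 2, nat_lit 3, nat_lit 2, nat_lit 1])))))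
 (TT.n (TT.n (TT.n (TT.n (TT.l (Ty.relL (nat_lit 4) [nat_lit 7, nat_lit 3, nat_lit 2, nat_lit 8, nat_lit 7, nat_lit 3, nat_lit 7, nat_lit 2, nat_lit 3, nat_lit 7, nat_lit 4, nat_lit 2, nat_lit 3, nat_lit 7, nat_lit 4, nat_lit 2, nat_lit 3, nat_lit 2, nat_lit 7, nat_lit 3, nat_lit 8, nat_lit 2, nat_lit 3, nat_lit 4, nat_lit 7]))
 (TT.l (Ty.relL (nat_lit 2) [nat_lit 8, nat_lit 2, nat_lit 3, nat_lit 2, nat_lit 4, nat_lit 3, nat_lit 2, nat_lit 8, nat_lit 2, nat_lit 3, nat_lit 8, nat_lit 4])))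
 (TT.n (TT.l (Ty.srel [nat_lit 1, nat_lit 3, nat_lit 2, nat_lit 1, nat_lit 6, nat_lit 5, nat_lit 3, nat_lit 2, nat_lit 6, nat_lit 2, nat_lit 3, nat_lit 5, nat_lit 6, nat_lit 1, nat_lit 2, nat_lit 1]))
 (TT.l (Ty.relL (nat_lit 2) [nat_lit 1, nat_lit 0, nat_lit 2, nat_lit 3, nat_lit 2, nat_lit 0, nat_lit 1, nat_lit 2, nat_lit 3, nat_lit 2, nat_lit 0, nat_lit 1, nat_lit 2, nat_lit 3, nat_lit 2, nat_lit 1, nat_lit 0, nat_lit 2, nat_lit 3, nat_lit 2, nat_lit 1, nat_lit 0, nat_lit 2]))))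
 (TT.n (TT.n (TT.l (Ty.relL (nat_lit 4) [nat_lit 3, nat_lit 1, nat_lit 3, nat_lit 4, nat_lit 1, nat_lit 3, nat_lit 1]))
 (TT.l (Ty.relL (nat_lit 6) [nat_lit 2, nat_lit 0, nat_lit 6, nat_lit 2, nat_lit 6, nat_lit 3, nat_lit 2, nat_lit 6, nat_lit 0, nat_lit 2, nat_lit 6, nat_lit 3, nat_lit 2, nat_lit 0, nat_lit 6, nat_lit 2])))
 (TT.l (Ty.srel [nat_lit 8, nat_lit 4, nat_lit 3, nat_lit 2, nat_lit 8, nat_lit 2, nat_lit 3, nat_lit 2, nat_lit 4, nat_lit 3, nat_lit 2, nat_lit 8, nat_lit 2]))))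
 (TT.n (TT.n (TT.n (TT.l (Ty.srel [nat_lit 6, nat_lit 7, nat_lit 3, nat_lit 1, nat_lit 3, nat_lit 7, nat_lit 3, nat_lit 0, nat_lit 1]))
 (TT.l (Ty.relL (nat_lit 7) [nat_lit 4, nat_lit 2, nat_lit 3, nat_lit 7, nat_lit 4, nat_lit 2, nat_lit 3, nat_lit 2, nat_lit 7, nat_lit 3, nat_lit 8, nat_lit 2, nat_lit 3, nat_lit 4, nat_lit 7, nat_lit 3, nat_lit 4, nat_lit 7, nat_lit 3, nat_lit 2, nat_lit 8, nat_lit 7, nat_lit 3, nat_lit 7, nat_lit 2])))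
 (TT.l (Ty.srel [nat_lit 7, nat_lit 5, nat_lit 3, nat_lit 7, nat_lit 6, nat_lit 5, nat_lit 0, nat_lit 3, nat_lit 5, nat_lit 6, nat_lit 7, nat_lit 3, nat_lit 5, nat_lit 0, nat_lit 7])))
 (TT.n (TT.n (TT.l (Ty.relL (nat_lit 8) [nat_lit 3, nat_lit 1, nat_lit 3, nat_lit 8, nat_lit 1, nat_lit 3, nat_lit 1]))
 (TT.l (Ty.relL (nat_lit 7) [nat_lit 2, nat_lit 3, nat_lit 2, nat_lit 4, nat_lit 7, nat_lit 3, nat_lit 2, nat_lit 4, nat_lit 7, nat_lit 3, nat_lit 2, nat_lit 7, nat_lit 3, nat_lit 7, nat_lit 8, nat_lit 2, nat_lit 3, nat_lit 7, nat_lit 4, nat_lit 3, nat_lit 7, nat_lit 4, nat_lit 3, nat_lit 2, nat_lit 8])))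
 (TT.l (Ty.relL (nat_lit 1) [nat_lit 3, nat_lit 1, nat_lit 2, nat_lit 1, nat_lit 6, nat_lit 5, nat_lit 3, nat_lit 2, nat_lit 6, nat_lit 2, nat_lit 3, nat_lit 5, nat_lit 6, nat_lit 1, nat_lit 2]))))))
 (TT.n (TT.n (TT.n (TT.n (TT.n (TT.l (Ty.srel [nat_lit 3]))
 (TT.l (Ty.srel [nat_lit 0, nat_lit 1, nat_lit 2, nat_lit 0, nat_lit 3, nat_lit 1, nat_lit 3, nat_lit 2, nat_lit 5, nat_lit 0, nat_lit 1, nat_lit 3, nat_lit 1, nat_lit 2, nat_lit 3, nat_lit 2, nat_lit 1, nat_lit 3, nat_lit 0, nat_lit 5, nat_lit 2, nat_lit 3, nat_lit 1])))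
 (TT.n (TT.l (Ty.srel [nat_lit 1, nat_lit 2, nat_lit 0, nat_lit 1, nat_lit 3, nat_lit 1, nat_lit 2, nat_lit 0, nat_lit 1, nat_lit 3, nat_lit 1, nat_lit 2, nat_lit 1, nat_lit 3, nat_lit 1, nat_lit 0, nat_lit 2, nat_lit 1, nat_lit 3, nat_lit 1, nat_lit 0, nat_lit 2, nat_lit 1, nat_lit 0]))
 (TT.l (Ty.relL (nat_lit 1) [nat_lit 3, nat_lit 1, nat_lit 4, nat_lit 3, nat_lit 1, nat_lit 3, nat_lit 4]))))
 (TT.n (TT.n (TT.l (Ty.relL (nat_lit 5) [nat_lit 1, nat_lit 3, nat_lit 5, nat_lit 1, nat_lit 3, nat_lit 5, nat_lit 1]))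
 (TT.l (Ty.relL (nat_lit 2) [nat_lit 7, nat_lit 3, nat_lit 7, nat_lit 8, nat_lit 2, nat_lit 3, nat_lit 7, nat_lit 4, nat_lit 3, nat_lit 7, nat_lit 4, nat_lit 3, nat_lit 2, nat_lit 8, nat_lit 3, nat_lit 7, nat_lit 2, nat_lit 3, nat_lit 2, nat_lit 4, nat_lit 7, nat_lit 3, nat_lit 2, nat_lit 4, nat_lit 7])))
 (TT.l (Ty.srel [nat_lit 2, nat_lit 7, nat_lit 3, nat_lit 7, nat_lit 8, nat_lit 2, nat_lit 3, nat_lit 7, nat_lit 4, nat_lit 3, nat_lit 7, nat_lit 4, nat_lit 3, nat_lit 2, nat_lit 8, nat_lit 3, nat_lit 7, nat_lit 2, nat_lit 3, nat_lit 2, nat_lit 4, nat_lit 7, nat_lit 3, nat_lit 2, nat_lit 4, nat_lit 7]))))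
 (TT.n (TT.n (TT.n (TT.l (Ty.srel [nat_lit 2, nat_lit 3, nat_lit 2, nat_lit 3, nat_lit 2]))
 (TT.l (Ty.relL (nat_lit 7) [nat_lit 2, nat_lit 3, nat_lit 7, nat_lit 4, nat_lit 2, nat_lit 3, nat_lit 7, nat_lit 4, nat_lit 2, nat_lit 3, nat_lit 2, nat_lit 7, nat_lit 3, nat_lit 8, nat_lit 2, nat_lit 3, nat_lit 4, nat_lit 7, nat_lit 3, nat_lit 4, nat_lit 7, nat_lit 3, nat_lit 2, nat_lit 8, nat_lit 7])))
 (TT.n (TT.l (Ty.relL (nat_lit 5) [nat_lit 0, nat_lit 7, nat_lit 3, nat_lit 7, nat_lit 5, nat_lit 3, nat_lit 7, nat_lit 6, nat_lit 5, nat_lit 0, nat_lit 3, nat_lit 5, nat_lit 6, nat_lit 7]))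
 (TT.l (Ty.skip))))
 (TT.n (TT.n (TT.l (Ty.srel [nat_lit 5, nat_lit 0, nat_lit 7, nat_lit 3, nat_lit 7, nat_lit 5, nat_lit 3, nat_lit 7, nat_lit 6, nat_lit 5, nat_lit 0, nat_lit 3, nat_lit 5, nat_lit 6, nat_lit 7]))
 (TT.l (Ty.srel [nat_lit 5, nat_lit 6, nat_lit 1, nat_lit 2, nat_lit 3, nat_lit 1, nat_lit 3, nat_lit 1, nat_lit 2, nat_lit 1, nat_lit 6, nat_lit 5, nat_lit 3, nat_lit 2, nat_lit 6, nat_lit 2])))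
 (TT.l (Ty.relL (nat_lit 1) [nat_lit 8, nat_lit 3, nat_lit 1, nat_lit 3, nat_lit 8, nat_lit 3, nat_lit 1])))))
 (TT.n (TT.n (TT.n (TT.n (TT.l (Ty.rel5 (nat_lit 5) (nat_lit 3) (nat_lit 5) (nat_lit 3) (nat_lit 5)))
 (TT.l (Ty.srel [nat_lit 0, nat_lit 5, nat_lit 6, nat_lit 7, nat_lit 3, nat_lit 5, nat_lit 7, nat_lit 3, nat_lit 7, nat_lit 0, nat_lit 5, nat_lit 3, nat_lit 7, nat_lit 6, nat_lit 5])))
 (TT.n (TT.l (Ty.srel [nat_lit 1, nat_lit 8, nat_lit 3, nat_lit 1, nat_lit 3, nat_lit 8, nat_lit 3, nat_lit 1]))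
 (TT.l (Ty.srel [nat_lit 1, nat_lit 2, nat_lit 1, nat_lit 6, nat_lit 5, nat_lit 3, nat_lit 2, nat_lit 6, nat_lit 2, nat_lit 3, nat_lit 5, nat_lit 6, nat_lit 1, nat_lit 2, nat_lit 3, nat_lit 1]))))
 (TT.n (TT.n (TT.l (Ty.srel [nat_lit 1, nat_lit 4, nat_lit 3, nat_lit 1, nat_lit 3, nat_lit 4, nat_lit 3, nat_lit 1]))
 (TT.l (Ty.relL (nat_lit 0) [nat_lit 2, nat_lit 1, nat_lit 0, nat_lit 3, nat_lit 1, nat_lit 3, nat_lit 2, nat_lit 5, nat_lit 0, nat_lit 3, nat_lit 1, nat_lit 2, nat_lit 3, nat_lit 2, nat_lit 1, nat_lit 3, nat_lit 1, nat_lit 0, nat_lit 5, nat_lit 2, nat_lit 3, nat_lit 1])))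
 (TT.l (Ty.relL (nat_lit 7) [nat_lit 6, nat_lit 5, nat_lit 0, nat_lit 3, nat_lit 5, nat_lit 6, nat_lit 7, nat_lit 3, nat_lit 5, nat_lit 0, nat_lit 7, nat_lit 3, nat_lit 7, nat_lit 5]))))
 (TT.n (TT.n (TT.n (TT.l (Ty.relL (nat_lit 4) [nat_lit 1, nat_lit 3, nat_lit 1, nat_lit 3, nat_lit 4, nat_lit 3, nat_lit 1]))
 (TT.l (Ty.srel [nat_lit 1, nat_lit 3, nat_lit 0, nat_lit 2, nat_lit 1, nat_lit 0, nat_lit 3, nat_lit 1, nat_lit 3, nat_lit 2, nat_lit 5, nat_lit 0, nat_lit 3, nat_lit 1, nat_lit 2, nat_lit 3, nat_lit 2, nat_lit 1, nat_lit 3, nat_lit 1, nat_lit 0, nat_lit 5, nat_lit 2])))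
 (TT.l (Ty.srel [nat_lit 1, nat_lit 3, nat_lit 7, nat_lit 6, nat_lit 3, nat_lit 1, nat_lit 0, nat_lit 3, nat_lit 7])))
 (TT.n (TT.n (TT.l (Ty.srel [nat_lit 2, nat_lit 6, nat_lit 2, nat_lit 3, nat_lit 5, nat_lit 6, nat_lit 1, nat_lit 2, nat_lit 3, nat_lit 1, nat_lit 3, nat_lit 1, nat_lit 2, nat_lit 1, nat_lit 6, nat_lit 5]))
 (TT.l (Ty.srel [nat_lit 7, nat_lit 4, nat_lit 3, nat_lit 7, nat_lit 4, nat_lit 3, nat_lit 2, nat_lit 8, nat_lit 3, nat_lit 7, nat_lit 2, nat_lit 3, nat_lit 2, nat_lit 4, nat_lit 7, nat_lit 3, nat_lit 2, nat_lit 4, nat_lit 7, nat_lit 3, nat_lit 2, nat_lit 7, nat_lit 3, nat_lit 7, nat_lit 8, nat_lit 2])))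
 (TT.l (Ty.relL (nat_lit 2) [nat_lit 1, nat_lit 3, nat_lit 1, nat_lit 0, nat_lit 5, nat_lit 2, nat_lit 3, nat_lit 1, nat_lit 3, nat_lit 0, nat_lit 2, nat_lit 1, nat_lit 0, nat_lit 3, nat_lit 1, nat_lit 3, nat_lit 2, nat_lit 5, nat_lit 0, nat_lit 3, nat_lit 1, nat_lit 2])))))))
 (TT.n (TT.n (TT.n (TT.n (TT.n (TT.n (TT.l (Ty.rel5 (nat_lit 4) (nat_lit 3) (nat_lit 4) (nat_lit 3) (nat_lit 4)))
 (TT.l (Ty.srel [nat_lit 4, nat_lit 7, nat_lit 3, nat_lit 2, nat_lit 8, nat_lit 7, nat_lit 3, nat_lit 7, nat_lit 2, nat_lit 3, nat_lit 7, nat_lit 4, nat_lit 2, nat_lit 3, nat_lit 7, nat_lit 4, nat_lit 2, nat_lit 3, nat_lit 2, nat_lit 7, nat_lit 3, nat_lit 8, nat_lit 2, nat_lit 3, nat_lit 4, nat_lit 7])))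
 (TT.n (TT.l (Ty.relL (nat_lit 6) [nat_lit 2, nat_lit 0, nat_lit 6, nat_lit 2, nat_lit 3, nat_lit 6, nat_lit 2, nat_lit 6, nat_lit 0, nat_lit 2, nat_lit 6, nat_lit 3, nat_lit 2, nat_lit 6, nat_lit 0, nat_lit 2]))
 (TT.l (Ty.relL (nat_lit 4) [nat_lit 7, nat_lit 3, nat_lit 2, nat_lit 4, nat_lit 5, nat_lit 3, nat_lit 4, nat_lit 7, nat_lit 3, nat_lit 2, nat_lit 4, nat_lit 5, nat_lit 3, nat_lit 4, nat_lit 7, nat_lit 3, nat_lit 2, nat_lit 4, nat_lit 5, nat_lit 3, nat_lit 4, nat_lit 7, nat_lit 3, nat_lit 2, nat_lit 4, nat_lit 5, nat_lit 3, nat_lit 4, nat_lit 7, nat_lit 3, nat_lit 2, nat_lit 4, nat_lit 5]))))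
 (TT.n (TT.n (TT.l (Ty.relL (nat_lit 7) [nat_lit 5, nat_lit 3, nat_lit 7, nat_lit 6, nat_lit 5, nat_lit 0, nat_lit 3, nat_lit 5, nat_lit 6, nat_lit 7, nat_lit 3, nat_lit 5, nat_lit 0, nat_lit 7]))
 (TT.l (Ty.relL (nat_lit 0) [nat_lit 5, nat_lit 2, nat_lit 3, nat_lit 1, nat_lit 3, nat_lit 0, nat_lit 1, nat_lit 2, nat_lit 0, nat_lit 3, nat_lit 1, nat_lit 3, nat_lit 2, nat_lit 5, nat_lit 0, nat_lit 1, nat_lit 3, nat_lit 1, nat_lit 2, nat_lit 3, nat_lit 2, nat_lit 1])))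
 (TT.l (Ty.srel [nat_lit 0, nat_lit 5, nat_lit 2, nat_lit 3, nat_lit 1, nat_lit 3, nat_lit 0, nat_lit 1, nat_lit 2, nat_lit 0, nat_lit 3, nat_lit 1, nat_lit 3, nat_lit 2, nat_lit 5, nat_lit 0, nat_lit 1, nat_lit 3, nat_lit 1, nat_lit 2, nat_lit 3, nat_lit 2, nat_lit 1]))))
 (TT.n (TT.n (TT.n (TT.l (Ty.relL (nat_lit 1) [nat_lit 5, nat_lit 3, nat_lit 1, nat_lit 5, nat_lit 3, nat_lit 1, nat_lit 5]))
 (TT.l (Ty.srel [nat_lit 7, nat_lit 2, nat_lit 3, nat_lit 7, nat_lit 4, nat_lit 2, nat_lit 3, nat_lit 7, nat_lit 4, nat_lit 2, nat_lit 3, nat_lit 2, nat_lit 7, nat_lit 3, nat_lit 8, nat_lit 2, nat_lit 3, nat_lit 4, nat_lit 7, nat_lit 3, nat_lit 4, nat_lit 7, nat_lit 3, nat_lit 2, nat_lit 8, nat_lit 7])))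
 (TT.n (TT.l (Ty.relL (nat_lit 8) [nat_lit 4, nat_lit 3, nat_lit 2, nat_lit 8, nat_lit 2, nat_lit 3, nat_lit 2, nat_lit 4, nat_lit 3, nat_lit 2, nat_lit 8, nat_lit 2]))
 (TT.l (Ty.srel [nat_lit 4, nat_lit 7, nat_lit 3, nat_lit 2, nat_lit 4, nat_lit 5, nat_lit 3, nat_lit 4, nat_lit 7, nat_lit 3, nat_lit 2, nat_lit 4, nat_lit 5, nat_lit 3, nat_lit 4, nat_lit 7, nat_lit 3, nat_lit 2, nat_lit 4, nat_lit 5, nat_lit 3, nat_lit 4, nat_lit 7, nat_lit 3, nat_lit 2, nat_lit 4, nat_lit 5, nat_lit 3, nat_lit 4, nat_lit 7, nat_lit 3, nat_lit 2, nat_lit 4, nat_lit 5]))))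
 (TT.n (TT.n (TT.l (Ty.srel [nat_lit 2, nat_lit 1, nat_lit 3, nat_lit 0, nat_lit 5, nat_lit 2, nat_lit 3, nat_lit 1, nat_lit 3, nat_lit 0, nat_lit 1, nat_lit 2, nat_lit 0, nat_lit 3, nat_lit 1, nat_lit 3, nat_lit 2, nat_lit 5, nat_lit 0, nat_lit 1, nat_lit 3, nat_lit 1, nat_lit 2]))
 (TT.l (Ty.relL (nat_lit 8) [nat_lit 2, nat_lit 3, nat_lit 4, nat_lit 7, nat_lit 3, nat_lit 4, nat_lit 7, nat_lit 3, nat_lit 2, nat_lit 8, nat_lit 7, nat_lit 3, nat_lit 7, nat_lit 2, nat_lit 3, nat_lit 7, nat_lit 4, nat_lit 2, nat_lit 3, nat_lit 7, nat_lit 4, nat_lit 2, nat_lit 3, nat_lit 2, nat_lit 7])))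
 (TT.l (Ty.relL (nat_lit 4) [nat_lit 2, nat_lit 3, nat_lit 2, nat_lit 8, nat_lit 2, nat_lit 3, nat_lit 4, nat_lit 8, nat_lit 3, nat_lit 2, nat_lit 8, nat_lit 2])))))
 (TT.n (TT.n (TT.n (TT.n (TT.l (Ty.srel [nat_lit 8, nat_lit 3, nat_lit 8, nat_lit 3, nat_lit 8]))
 (TT.l (Ty.relL (nat_lit 1) [nat_lit 2, nat_lit 0, nat_lit 1, nat_lit 3, nat_lit 1, nat_lit 2, nat_lit 1, nat_lit 3, nat_lit 1, nat_lit 0, nat_lit 2, nat_lit 1, nat_lit 3, nat_lit 1, nat_lit 0, nat_lit 2, nat_lit 1, nat_lit 3, nat_lit 0, nat_lit 1, nat_lit 2, nat_lit 0, nat_lit 1])))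
 (TT.n (TT.l (Ty.srel [nat_lit 2, nat_lit 8, nat_lit 2, nat_lit 3, nat_lit 2, nat_lit 4, nat_lit 3, nat_lit 2, nat_lit 8, nat_lit 2, nat_lit 3, nat_lit 8, nat_lit 4]))
 (TT.l (Ty.srel [nat_lit 2, nat_lit 7, nat_lit 3, nat_lit 8, nat_lit 2, nat_lit 3, nat_lit 4, nat_lit 7, nat_lit 3, nat_lit 4, nat_lit 7, nat_lit 3, nat_lit 2, nat_lit 8, nat_lit 7, nat_lit 3, nat_lit 7, nat_lit 2, nat_lit 3, nat_lit 7, nat_lit 4, nat_lit 2, nat_lit 3, nat_lit 7, nat_lit 4, nat_lit 2]))))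
 (TT.n (TT.n (TT.l (Ty.srel [nat_lit 5, nat_lit 6, nat_lit 1, nat_lit 2, nat_lit 1, nat_lit 3, nat_lit 1, nat_lit 3, nat_lit 2, nat_lit 1, nat_lit 6, nat_lit 5, nat_lit 3, nat_lit 2, nat_lit 6, nat_lit 2]))
 (TT.l (Ty.relL (nat_lit 2) [nat_lit 8, nat_lit 3, nat_lit 7, nat_lit 2, nat_lit 3, nat_lit 2, nat_lit 4, nat_lit 7, nat_lit 3, nat_lit 2, nat_lit 4, nat_lit 7, nat_lit 3, nat_lit 2, nat_lit 7, nat_lit 3, nat_lit 7, nat_lit 8, nat_lit 2, nat_lit 3, nat_lit 7, nat_lit 4, nat_lit 3, nat_lit 7, nat_lit 4])))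
 (TT.l (Ty.srel [nat_lit 7, nat_lit 0, nat_lit 5, nat_lit 3, nat_lit 7, nat_lit 6, nat_lit 5, nat_lit 3, nat_lit 0, nat_lit 5, nat_lit 6, nat_lit 7, nat_lit 3, nat_lit 5, nat_lit 7]))))
 (TT.n (TT.n (TT.n (TT.l (Ty.relL (nat_lit 8) [nat_lit 1, nat_lit 3, nat_lit 1, nat_lit 3, nat_lit 8, nat_lit 3, nat_lit 1]))
 (TT.l (Ty.srel [nat_lit 2, nat_lit 1, nat_lit 0, nat_lit 2, nat_lit 3, nat_lit 2, nat_lit 0, nat_lit 1, nat_lit 2, nat_lit 3, nat_lit 2, nat_lit 0, nat_lit 1, nat_lit 2, nat_lit 3, nat_lit 2, nat_lit 0, nat_lit 1, nat_lit 2, nat_lit 3, nat_lit 2, nat_lit 1, nat_lit 0, nat_lit 2])))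
 (TT.l (Ty.relL (nat_lit 1) [nat_lit 0, nat_lit 3, nat_lit 7, nat_lit 3, nat_lit 1, nat_lit 3, nat_lit 7, nat_lit 6])))
 (TT.n (TT.n (TT.l (Ty.srel [nat_lit 7, nat_lit 6, nat_lit 5, nat_lit 0, nat_lit 3, nat_lit 5, nat_lit 6, nat_lit 7, nat_lit 3, nat_lit 5, nat_lit 0, nat_lit 7, nat_lit 3, nat_lit 7, nat_lit 5]))
 (TT.l (Ty.relL (nat_lit 2) [nat_lit 8, nat_lit 7, nat_lit 3, nat_lit 7, nat_lit 2, nat_lit 3, nat_lit 7, nat_lit 4, nat_lit 2, nat_lit 3, nat_lit 7, nat_lit 4, nat_lit 2, nat_lit 3, nat_lit 2, nat_lit 7, nat_lit 3, nat_lit 8, nat_lit 2, nat_lit 3, nat_lit 4, nat_lit 7, nat_lit 3, nat_lit 4, nat_lit 7])))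
 (TT.l (Ty.relL (nat_lit 1) [nat_lit 2, nat_lit 3, nat_lit 2, nat_lit 1, nat_lit 3, nat_lit 1, nat_lit 0, nat_lit 5, nat_lit 2, nat_lit 3, nat_lit 1, nat_lit 3, nat_lit 0, nat_lit 2, nat_lit 1, nat_lit 0, nat_lit 3, nat_lit 1, nat_lit 3, nat_lit 2, nat_lit 5, nat_lit 0]))))))
 (TT.n (TT.n (TT.n (TT.n (TT.n (TT.l (Ty.rel3 (nat_lit 0) (nat_lit 3) (nat_lit 0)))
 (TT.l (Ty.relL (nat_lit 5) [nat_lit 6, nat_lit 7, nat_lit 3, nat_lit 5, nat_lit 0, nat_lit 7, nat_lit 3, nat_lit 7, nat_lit 5, nat_lit 3, nat_lit 7, nat_lit 6, nat_lit 5, nat_lit 0])))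
 (TT.n (TT.l (Ty.relL (nat_lit 7) [nat_lit 6, nat_lit 3, nat_lit 1, nat_lit 0, nat_lit 3, nat_lit 7, nat_lit 3, nat_lit 1]))
 (TT.l (Ty.relL (nat_lit 7) [nat_lit 8, nat_lit 2, nat_lit 3, nat_lit 7, nat_lit 4, nat_lit 3, nat_lit 7, nat_lit 4, nat_lit 3, nat_lit 2, nat_lit 8, nat_lit 3, nat_lit 7, nat_lit 2, nat_lit 3, nat_lit 2, nat_lit 4, nat_lit 7, nat_lit 3, nat_lit 2, nat_lit 4, nat_lit 7, nat_lit 3, nat_lit 2, nat_lit 7]))))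
 (TT.n (TT.n (TT.l (Ty.relL (nat_lit 1) [nat_lit 3, nat_lit 4, nat_lit 3, nat_lit 1, nat_lit 3, nat_lit 4, nat_lit 1]))
 (TT.l (Ty.relL (nat_lit 1) [nat_lit 2, nat_lit 1, nat_lit 6, nat_lit 5, nat_lit 3, nat_lit 2, nat_lit 6, nat_lit 2, nat_lit 3, nat_lit 5, nat_lit 6, nat_lit 1, nat_lit 2, nat_lit 3, nat_lit 1])))
 (TT.l (Ty.relL (nat_lit 8) [nat_lit 3, nat_lit 1, nat_lit 3, nat_lit 1, nat_lit 8, nat_lit 3, nat_lit 1]))))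
 (TT.n (TT.n (TT.n (TT.l (Ty.srel [nat_lit 6, nat_lit 2, nat_lit 6, nat_lit 0, nat_lit 2, nat_lit 6, nat_lit 3, nat_lit 2, nat_lit 6, nat_lit 0, nat_lit 2, nat_lit 3, nat_lit 6, nat_lit 2, nat_lit 0, nat_lit 6, nat_lit 2]))
 (TT.l (Ty.srel [nat_lit 1, nat_lit 0, nat_lit 2, nat_lit 1, nat_lit 3, nat_lit 0, nat_lit 1, nat_lit 2, nat_lit 0, nat_lit 1, nat_lit 3, nat_lit 1, nat_lit 2, nat_lit 0, nat_lit 1, nat_lit 3, nat_lit 1, nat_lit 2, nat_lit 1, nat_lit 3, nat_lit 1, nat_lit 0, nat_lit 2, nat_lit 1])))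
 (TT.l (Ty.srel [nat_lit 8, nat_lit 1, nat_lit 3, nat_lit 1, nat_lit 3, nat_lit 8, nat_lit 3, nat_lit 1])))
 (TT.n (TT.n (TT.l (Ty.srel [nat_lit 7, nat_lit 3, nat_lit 1, nat_lit 3, nat_lit 7, nat_lit 6, nat_lit 3, nat_lit 1, nat_lit 0]))
 (TT.l (Ty.relL (nat_lit 2) [nat_lit 0, nat_lit 6, nat_lit 2, nat_lit 3, nat_lit 6, nat_lit 2, nat_lit 0, nat_lit 6, nat_lit 2, nat_lit 6, nat_lit 3, nat_lit 2, nat_lit 6, nat_lit 0, nat_lit 2, nat_lit 6])))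
 (TT.l (Ty.srel [nat_lit 8, nat_lit 2, nat_lit 3, nat_lit 4, nat_lit 7, nat_lit 3, nat_lit 4, nat_lit 7, nat_lit 3, nat_lit 2, nat_lit 8, nat_lit 7, nat_lit 3, nat_lit 7, nat_lit 2, nat_lit 3, nat_lit 7, nat_lit 4, nat_lit 2, nat_lit 3, nat_lit 7, nat_lit 4, nat_lit 2, nat_lit 3, nat_lit 2, nat_lit 7])))))
 (TT.n (TT.n (TT.n (TT.n (TT.l (Ty.srel [nat_lit 1, nat_lit 2, nat_lit 0, nat_lit 1, nat_lit 3, nat_lit 1, nat_lit 2, nat_lit 1, nat_lit 3, nat_lit 1, nat_lit 0, nat_lit 2, nat_lit 1, nat_lit 3, nat_lit 1, nat_lit 0, nat_lit 2, nat_lit 1, nat_lit 3, nat_lit 0, nat_lit 1, nat_lit 2, nat_lit 0, nat_lit 1]))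
 (TT.l (Ty.relL (nat_lit 0) [nat_lit 1, nat_lit 2, nat_lit 0, nat_lit 3, nat_lit 1, nat_lit 3, nat_lit 2, nat_lit 5, nat_lit 0, nat_lit 1, nat_lit 3, nat_lit 1, nat_lit 2, nat_lit 3, nat_lit 2, nat_lit 1, nat_lit 3, nat_lit 0, nat_lit 5, nat_lit 2, nat_lit 3, nat_lit 1])))
 (TT.n (TT.l (Ty.srel [nat_lit 8, nat_lit 3, nat_lit 1, nat_lit 3, nat_lit 8, nat_lit 1, nat_lit 3, nat_lit 1]))
 (TT.l (Ty.relL (nat_lit 2) [nat_lit 5, nat_lit 0, nat_lit 3, nat_lit 1, nat_lit 2, nat_lit 3, nat_lit 2, nat_lit 1, nat_lit 3, nat_lit 1, nat_lit 0, nat_lit 5, nat_lit 2, nat_lit 3, nat_lit 1, nat_lit 3, nat_lit 0, nat_lit 2, nat_lit 1, nat_lit 0, nat_lit 3, nat_lit 1]))))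
 (TT.n (TT.n (TT.l (Ty.srel [nat_lit 1, nat_lit 3, nat_lit 8, nat_lit 1, nat_lit 3, nat_lit 1, nat_lit 3, nat_lit 8]))
 (TT.l (Ty.srel [nat_lit 5, nat_lit 4, nat_lit 2, nat_lit 3, nat_lit 7, nat_lit 4, nat_lit 3, nat_lit 5, nat_lit 4, nat_lit 2, nat_lit 3, nat_lit 7, nat_lit 4, nat_lit 3, nat_lit 5, nat_lit 4, nat_lit 2, nat_lit 3, nat_lit 7, nat_lit 4, nat_lit 3, nat_lit 5, nat_lit 4, nat_lit 2, nat_lit 3, nat_lit 7, nat_lit 4, nat_lit 3, nat_lit 5, nat_lit 4, nat_lit 2, nat_lit 3, nat_lit 7, nat_lit 4])))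
 (TT.l (Ty.relL (nat_lit 1) [nat_lit 3, nat_lit 8, nat_lit 3, nat_lit 1, nat_lit 3, nat_lit 1, nat_lit 8]))))
 (TT.n (TT.n (TT.n (TT.l (Ty.srel [nat_lit 4, nat_lit 3, nat_lit 4, nat_lit 3, nat_lit 4]))
 (TT.l (Ty.relL (nat_lit 1) [nat_lit 0, nat_lit 2, nat_lit 1, nat_lit 3, nat_lit 1, nat_lit 0, nat_lit 2, nat_lit 1, nat_lit 3, nat_lit 0, nat_lit 1, nat_lit 2, nat_lit 0, nat_lit 1, nat_lit 3, nat_lit 1, nat_lit 2, nat_lit 0, nat_lit 1, nat_lit 3, nat_lit 1, nat_lit 2, nat_lit 1])))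
 (TT.l (Ty.srel [nat_lit 7, nat_lit 6, nat_lit 3, nat_lit 1, nat_lit 0, nat_lit 3, nat_lit 7, nat_lit 3, nat_lit 1])))
 (TT.n (TT.n (TT.l (Ty.relL (nat_lit 1) [nat_lit 3, nat_lit 7, nat_lit 3, nat_lit 0, nat_lit 1, nat_lit 3, nat_lit 6, nat_lit 7]))
 (TT.l (Ty.relL (nat_lit 7) [nat_lit 4, nat_lit 3, nat_lit 5, nat_lit 4, nat_lit 2, nat_lit 3, nat_lit 7, nat_lit 4, nat_lit 3, nat_lit 5, nat_lit 4, nat_lit 2, nat_lit 3, nat_lit 7, nat_lit 4, nat_lit 3, nat_lit 5, nat_lit 4, nat_lit 2, nat_lit 3, nat_lit 7, nat_lit 4, nat_lit 3, nat_lit 5, nat_lit 4, nat_lit 2, nat_lit 3, nat_lit 7, nat_lit 4, nat_lit 3, nat_lit 5, nat_lit 4, nat_lit 2])))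
 (TT.l (Ty.relL (nat_lit 1) [nat_lit 3, nat_lit 1, nat_lit 8, nat_lit 3, nat_lit 1, nat_lit 3, nat_lit 8])))))))))
noncomputable def ty4 : TT := (TT.n (TT.n (TT.n (TT.n (TT.n (TT.n (TT.l (Ty.ssub [] []))
 (TT.l (Ty.srel [nat_lit 7, nat_lit 3, nat_lit 2, nat_lit 4, nat_lit 7, nat_lit 3, nat_lit 2, nat_lit 7, nat_lit 3, nat_lit 7, nat_lit 8, nat_lit 2, nat_lit 3, nat_lit 7, nat_lit 4, nat_lit 3, nat_lit 7, nat_lit 4, nat_lit 3, nat_lit 2, nat_lit 8, nat_lit 3, nat_lit 7, nat_lit 2, nat_lit 3, nat_lit 2])))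
 (TT.n (TT.l (Ty.srel [nat_lit 1, nat_lit 4, nat_lit 1]))
 (TT.l (Ty.relL (nat_lit 7) [nat_lit 3, nat_lit 2, nat_lit 4, nat_lit 5, nat_lit 3, nat_lit 4, nat_lit 7, nat_lit 3, nat_lit 2, nat_lit 4, nat_lit 5, nat_lit 3, nat_lit 4, nat_lit 7, nat_lit 3, nat_lit 2, nat_lit 4, nat_lit 5, nat_lit 3, nat_lit 4, nat_lit 7, nat_lit 3, nat_lit 2, nat_lit 4, nat_lit 5, nat_lit 3, nat_lit 4, nat_lit 7, nat_lit 3, nat_lit 2, nat_lit 4, nat_lit 5, nat_lit 3]))))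
 (TT.n (TT.n (TT.l (Ty.rel3 (nat_lit 1) (nat_lit 4) (nat_lit 1)))
 (TT.l (Ty.srel [nat_lit 5, nat_lit 3, nat_lit 4, nat_lit 7, nat_lit 3, nat_lit 2, nat_lit 4, nat_lit 5, nat_lit 3, nat_lit 4, nat_lit 7, nat_lit 3, nat_lit 2, nat_lit 4, nat_lit 5, nat_lit 3, nat_lit 4, nat_lit 7, nat_lit 3, nat_lit 2, nat_lit 4, nat_lit 5, nat_lit 3, nat_lit 4, nat_lit 7, nat_lit 3, nat_lit 2, nat_lit 4, nat_lit 5, nat_lit 3, nat_lit 4, nat_lit 7, nat_lit 3, nat_lit 2])))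
 (TT.l (Ty.srel [nat_lit 8, nat_lit 4, nat_lit 8]))))
 (TT.n (TT.n (TT.n (TT.l (Ty.rel3 (nat_lit 5) (nat_lit 4) (nat_lit 5)))
 (TT.l (Ty.relL (nat_lit 8) [nat_lit 3, nat_lit 2, nat_lit 8, nat_lit 2, nat_lit 3, nat_lit 4, nat_lit 2, nat_lit 3, nat_lit 2, nat_lit 8, nat_lit 2, nat_lit 3])))
 (TT.n (TT.l (Ty.relL (nat_lit 3) [nat_lit 1, nat_lit 3, nat_lit 1, nat_lit 4, nat_lit 3, nat_lit 1, nat_lit 3]))
 (TT.l (Ty.srel [nat_lit 3, nat_lit 7, nat_lit 4, nat_lit 3, nat_lit 2, nat_lit 8, nat_lit 3, nat_lit 7, nat_lit 2, nat_lit 3, nat_lit 2, nat_lit 4, nat_lit 7, nat_lit 3, nat_lit 2, nat_lit 4, nat_lit 7, nat_lit 3, nat_lit 2, nat_lit 7, nat_lit 3, nat_lit 7, nat_lit 8, nat_lit 2, nat_lit 3, nat_lit 7]))))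
 (TT.n (TT.n (TT.l (Ty.srel [nat_lit 5, nat_lit 4, nat_lit 5]))
 (TT.l (Ty.srel [nat_lit 7, nat_lit 3, nat_lit 4, nat_lit 7, nat_lit 3, nat_lit 2, nat_lit 8, nat_lit 7, nat_lit 3, nat_lit 7, nat_lit 2, nat_lit 3, nat_lit 7, nat_lit 4, nat_lit 2, nat_lit 3, nat_lit 7, nat_lit 4, nat_lit 2, nat_lit 3, nat_lit 2, nat_lit 7, nat_lit 3, nat_lit 8, nat_lit 2, nat_lit 3])))
 (TT.l (Ty.srel [nat_lit 3, nat_lit 1, nat_lit 3, nat_lit 1, nat_lit 4, nat_lit 3, nat_lit 1, nat_lit 3])))))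
 (TT.n (TT.n (TT.n (TT.n (TT.l (Ty.rel3 (nat_lit 2) (nat_lit 4) (nat_lit 2)))
 (TT.l (Ty.srel [nat_lit 3, nat_lit 2, nat_lit 8, nat_lit 2, nat_lit 3, nat_lit 8, nat_lit 4, nat_lit 3, nat_lit 2, nat_lit 8, nat_lit 2, nat_lit 3, nat_lit 2])))
 (TT.n (TT.l (Ty.relL (nat_lit 1) [nat_lit 3, nat_lit 1, nat_lit 3, nat_lit 4, nat_lit 3, nat_lit 1, nat_lit 3]))
 (TT.l (Ty.relL (nat_lit 7) [nat_lit 3, nat_lit 2, nat_lit 8, nat_lit 7, nat_lit 3, nat_lit 7, nat_lit 2, nat_lit 3, nat_lit 7, nat_lit 4, nat_lit 2, nat_lit 3, nat_lit 7, nat_lit 4, nat_lit 2, nat_lit 3, nat_lit 2, nat_lit 7, nat_lit 3, nat_lit 8, nat_lit 2, nat_lit 3, nat_lit 4, nat_lit 7, nat_lit 3]))))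
 (TT.n (TT.n (TT.l (Ty.rel5 (nat_lit 3) (nat_lit 4) (nat_lit 3) (nat_lit 4) (nat_lit 3)))
 (TT.l (Ty.relL (nat_lit 7) [nat_lit 3, nat_lit 2, nat_lit 7, nat_lit 3, nat_lit 7, nat_lit 8, nat_lit 2, nat_lit 3, nat_lit 7, nat_lit 4, nat_lit 3, nat_lit 7, nat_lit 4, nat_lit 3, nat_lit 2, nat_lit 8, nat_lit 3, nat_lit 7, nat_lit 2, nat_lit 3, nat_lit 2, nat_lit 4, nat_lit 7, nat_lit 3, nat_lit 2])))
 (TT.l (Ty.srel [nat_lit 2, nat_lit 3, nat_lit 2, nat_lit 8, nat_lit 2, nat_lit 3, nat_lit 4, nat_lit 8, nat_lit 3, nat_lit 2, nat_lit 8, nat_lit 2, nat_lit 3]))))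
 (TT.n (TT.n (TT.n (TT.l (Ty.dfn))
 (TT.l (Ty.srel [nat_lit 3, nat_lit 2, nat_lit 8, nat_lit 3, nat_lit 7, nat_lit 2, nat_lit 3, nat_lit 2, nat_lit 4, nat_lit 7, nat_lit 3, nat_lit 2, nat_lit 4, nat_lit 7, nat_lit 3, nat_lit 2, nat_lit 7, nat_lit 3, nat_lit 7, nat_lit 8, nat_lit 2, nat_lit 3, nat_lit 7, nat_lit 4, nat_lit 3, nat_lit 7])))
 (TT.n (TT.l (Ty.relL (nat_lit 3) [nat_lit 2, nat_lit 8, nat_lit 2, nat_lit 3, nat_lit 8, nat_lit 4, nat_lit 3, nat_lit 2, nat_lit 8, nat_lit 2, nat_lit 3, nat_lit 2]))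
 (TT.l (Ty.relL (nat_lit 2) [nat_lit 3, nat_lit 7, nat_lit 4, nat_lit 2, nat_lit 3, nat_lit 2, nat_lit 7, nat_lit 3, nat_lit 8, nat_lit 2, nat_lit 3, nat_lit 4, nat_lit 7, nat_lit 3, nat_lit 4, nat_lit 7, nat_lit 3, nat_lit 2, nat_lit 8, nat_lit 7, nat_lit 3, nat_lit 7, nat_lit 2, nat_lit 3, nat_lit 7]))))
 (TT.n (TT.n (TT.l (Ty.relL (nat_lit 3) [nat_lit 1, nat_lit 3, nat_lit 4, nat_lit 3, nat_lit 1, nat_lit 3, nat_lit 1]))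
 (TT.l (Ty.relL (nat_lit 7) [nat_lit 3, nat_lit 2, nat_lit 4, nat_lit 7, nat_lit 3, nat_lit 2, nat_lit 7, nat_lit 3, nat_lit 7, nat_lit 8, nat_lit 2, nat_lit 3, nat_lit 7, nat_lit 4, nat_lit 3, nat_lit 7, nat_lit 4, nat_lit 3, nat_lit 2, nat_lit 8, nat_lit 3, nat_lit 7, nat_lit 2, nat_lit 3, nat_lit 2])))
 (TT.l (Ty.relL (nat_lit 3) [nat_lit 2, nat_lit 8, nat_lit 2, nat_lit 3, nat_lit 2, nat_lit 4, nat_lit 3, nat_lit 2, nat_lit 8, nat_lit 2, nat_lit 3, nat_lit 8]))))))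
 (TT.n (TT.n (TT.n (TT.n (TT.n (TT.l (Ty.rel3 (nat_lit 8) (nat_lit 4) (nat_lit 8)))
 (TT.l (Ty.relL (nat_lit 2) [nat_lit 3, nat_lit 2, nat_lit 8, nat_lit 2, nat_lit 3, nat_lit 4, nat_lit 8, nat_lit 3, nat_lit 2, nat_lit 8, nat_lit 2, nat_lit 3])))
 (TT.n (TT.l (Ty.relL (nat_lit 3) [nat_lit 1, nat_lit 3, nat_lit 4, nat_lit 1, nat_lit 3, nat_lit 1, nat_lit 3]))
 (TT.l (Ty.relL (nat_lit 3) [nat_lit 5, nat_lit 4, nat_lit 2, nat_lit 3, nat_lit 7, nat_lit 4, nat_lit 3, nat_lit 5, nat_lit 4, nat_lit 2, nat_lit 3, nat_lit 7, nat_lit 4, nat_lit 3, nat_lit 5, nat_lit 4, nat_lit 2, nat_lit 3, nat_lit 7, nat_lit 4, nat_lit 3, nat_lit 5, nat_lit 4, nat_lit 2, nat_lit 3, nat_lit 7, nat_lit 4, nat_lit 3, nat_lit 5, nat_lit 4, nat_lit 2, nat_lit 3, nat_lit 7]))))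
 (TT.n (TT.n (TT.l (Ty.rel3 (nat_lit 7) (nat_lit 4) (nat_lit 7)))
 (TT.l (Ty.srel [nat_lit 7, nat_lit 3, nat_lit 2, nat_lit 8, nat_lit 7, nat_lit 3, nat_lit 7, nat_lit 2, nat_lit 3, nat_lit 7, nat_lit 4, nat_lit 2, nat_lit 3, nat_lit 7, nat_lit 4, nat_lit 2, nat_lit 3, nat_lit 2, nat_lit 7, nat_lit 3, nat_lit 8, nat_lit 2, nat_lit 3, nat_lit 4, nat_lit 7, nat_lit 3])))
 (TT.l (Ty.srel [nat_lit 0, nat_lit 4, nat_lit 0]))))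
 (TT.n (TT.n (TT.n (TT.l (Ty.rel3 (nat_lit 0) (nat_lit 4) (nat_lit 0)))
 (TT.l (Ty.srel [nat_lit 3, nat_lit 5, nat_lit 4, nat_lit 2, nat_lit 3, nat_lit 7, nat_lit 4, nat_lit 3, nat_lit 5, nat_lit 4, nat_lit 2, nat_lit 3, nat_lit 7, nat_lit 4, nat_lit 3, nat_lit 5, nat_lit 4, nat_lit 2, nat_lit 3, nat_lit 7, nat_lit 4, nat_lit 3, nat_lit 5, nat_lit 4, nat_lit 2, nat_lit 3, nat_lit 7, nat_lit 4, nat_lit 3, nat_lit 5, nat_lit 4, nat_lit 2, nat_lit 3, nat_lit 7])))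
 (TT.n (TT.l (Ty.srel [nat_lit 6, nat_lit 4, nat_lit 6]))
 (TT.l (Ty.relL (nat_lit 3) [nat_lit 2, nat_lit 8, nat_lit 3, nat_lit 7, nat_lit 2, nat_lit 3, nat_lit 2, nat_lit 4, nat_lit 7, nat_lit 3, nat_lit 2, nat_lit 4, nat_lit 7, nat_lit 3, nat_lit 2, nat_lit 7, nat_lit 3, nat_lit 7, nat_lit 8, nat_lit 2, nat_lit 3, nat_lit 7, nat_lit 4, nat_lit 3, nat_lit 7]))))
 (TT.n (TT.n (TT.l (Ty.srel [nat_lit 7, nat_lit 4, nat_lit 7]))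
 (TT.l (Ty.relL (nat_lit 3) [nat_lit 7, nat_lit 4, nat_lit 3, nat_lit 2, nat_lit 8, nat_lit 3, nat_lit 7, nat_lit 2, nat_lit 3, nat_lit 2, nat_lit 4, nat_lit 7, nat_lit 3, nat_lit 2, nat_lit 4, nat_lit 7, nat_lit 3, nat_lit 2, nat_lit 7, nat_lit 3, nat_lit 7, nat_lit 8, nat_lit 2, nat_lit 3, nat_lit 7])))
 (TT.l (Ty.srel [nat_lit 1, nat_lit 3, nat_lit 1, nat_lit 3, nat_lit 4, nat_lit 3, nat_lit 1, nat_lit 3])))))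
 (TT.n (TT.n (TT.n (TT.n (TT.l (Ty.rel1 (nat_lit 4)))
 (TT.l (Ty.srel [nat_lit 8, nat_lit 3, nat_lit 2, nat_lit 8, nat_lit 2, nat_lit 3, nat_lit 4, nat_lit 2, nat_lit 3, nat_lit 2, nat_lit 8, nat_lit 2, nat_lit 3])))
 (TT.n (TT.l (Ty.srel [nat_lit 3, nat_lit 4, nat_lit 3, nat_lit 4, nat_lit 3]))
 (TT.l (Ty.relL (nat_lit 5) [nat_lit 3, nat_lit 4, nat_lit 7, nat_lit 3, nat_lit 2, nat_lit 4, nat_lit 5, nat_lit 3, nat_lit 4, nat_lit 7, nat_lit 3, nat_lit 2, nat_lit 4, nat_lit 5, nat_lit 3, nat_lit 4, nat_lit 7, nat_lit 3, nat_lit 2, nat_lit 4, nat_lit 5, nat_lit 3, nat_lit 4, nat_lit 7, nat_lit 3, nat_lit 2, nat_lit 4, nat_lit 5, nat_lit 3, nat_lit 4, nat_lit 7, nat_lit 3, nat_lit 2]))))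
 (TT.n (TT.n (TT.l (Ty.rel3 (nat_lit 6) (nat_lit 4) (nat_lit 6)))
 (TT.l (Ty.relL (nat_lit 7) [nat_lit 3, nat_lit 4, nat_lit 7, nat_lit 3, nat_lit 2, nat_lit 8, nat_lit 7, nat_lit 3, nat_lit 7, nat_lit 2, nat_lit 3, nat_lit 7, nat_lit 4, nat_lit 2, nat_lit 3, nat_lit 7, nat_lit 4, nat_lit 2, nat_lit 3, nat_lit 2, nat_lit 7, nat_lit 3, nat_lit 8, nat_lit 2, nat_lit 3])))
 (TT.l (Ty.srel [nat_lit 3, nat_lit 1, nat_lit 3, nat_lit 4, nat_lit 3, nat_lit 1, nat_lit 3, nat_lit 1]))))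
 (TT.n (TT.n (TT.n (TT.l (Ty.srel [nat_lit 4]))
 (TT.l (Ty.srel [nat_lit 2, nat_lit 3, nat_lit 7, nat_lit 4, nat_lit 3, nat_lit 5, nat_lit 4, nat_lit 2, nat_lit 3, nat_lit 7, nat_lit 4, nat_lit 3, nat_lit 5, nat_lit 4, nat_lit 2, nat_lit 3, nat_lit 7, nat_lit 4, nat_lit 3, nat_lit 5, nat_lit 4, nat_lit 2, nat_lit 3, nat_lit 7, nat_lit 4, nat_lit 3, nat_lit 5, nat_lit 4, nat_lit 2, nat_lit 3, nat_lit 7, nat_lit 4, nat_lit 3, nat_lit 5])))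
 (TT.n (TT.l (Ty.srel [nat_lit 3, nat_lit 1, nat_lit 3, nat_lit 4, nat_lit 1, nat_lit 3, nat_lit 1, nat_lit 3]))
 (TT.l (Ty.skip))))
 (TT.n (TT.n (TT.l (Ty.srel [nat_lit 2, nat_lit 4, nat_lit 2]))
 (TT.l (Ty.srel [nat_lit 7, nat_lit 3, nat_lit 2, nat_lit 4, nat_lit 5, nat_lit 3, nat_lit 4, nat_lit 7, nat_lit 3, nat_lit 2, nat_lit 4, nat_lit 5, nat_lit 3, nat_lit 4, nat_lit 7, nat_lit 3, nat_lit 2, nat_lit 4, nat_lit 5, nat_lit 3, nat_lit 4, nat_lit 7, nat_lit 3, nat_lit 2, nat_lit 4, nat_lit 5, nat_lit 3, nat_lit 4, nat_lit 7, nat_lit 3, nat_lit 2, nat_lit 4, nat_lit 5, nat_lit 3])))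
 (TT.l (Ty.srel [nat_lit 3, nat_lit 2, nat_lit 8, nat_lit 2, nat_lit 3, nat_lit 2, nat_lit 4, nat_lit 3, nat_lit 2, nat_lit 8, nat_lit 2, nat_lit 3, nat_lit 8])))))))
noncomputable def ty5 : TT := (TT.n (TT.n (TT.n (TT.n (TT.n (TT.n (TT.n (TT.l (Ty.ssub [] []))
 (TT.l (Ty.relL (nat_lit 2) [nat_lit 6, nat_lit 2, nat_lit 5, nat_lit 6, nat_lit 5, nat_lit 2, nat_lit 6])))
 (TT.n (TT.l (Ty.srel [nat_lit 1, nat_lit 5, nat_lit 1, nat_lit 2, nat_lit 1, nat_lit 5, nat_lit 1, nat_lit 2]))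
 (TT.l (Ty.relL (nat_lit 4) [nat_lit 2, nat_lit 3, nat_lit 7, nat_lit 4, nat_lit 3, nat_lit 5, nat_lit 4, nat_lit 2, nat_lit 3, nat_lit 7, nat_lit 4, nat_lit 3, nat_lit 5, nat_lit 4, nat_lit 2, nat_lit 3, nat_lit 7, nat_lit 4, nat_lit 3, nat_lit 5, nat_lit 4, nat_lit 2, nat_lit 3, nat_lit 7, nat_lit 4, nat_lit 3, nat_lit 5, nat_lit 4, nat_lit 2, nat_lit 3, nat_lit 7, nat_lit 4, nat_lit 3]))))
 (TT.n (TT.n (TT.l (Ty.srel [nat_lit 1, nat_lit 2, nat_lit 5, nat_lit 1, nat_lit 5, nat_lit 1, nat_lit 2, nat_lit 1]))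
 (TT.l (Ty.relL (nat_lit 3) [nat_lit 7, nat_lit 6, nat_lit 5, nat_lit 0, nat_lit 3, nat_lit 5, nat_lit 6, nat_lit 7, nat_lit 3, nat_lit 5, nat_lit 0, nat_lit 7, nat_lit 3, nat_lit 7])))
 (TT.l (Ty.relL (nat_lit 6) [nat_lit 5, nat_lit 2, nat_lit 6, nat_lit 2, nat_lit 5, nat_lit 6, nat_lit 2]))))
 (TT.n (TT.n (TT.n (TT.l (Ty.rel3 (nat_lit 7) (nat_lit 5) (nat_lit 7)))
 (TT.l (Ty.srel [nat_lit 0, nat_lit 7, nat_lit 8, nat_lit 5, nat_lit 6, nat_lit 2, nat_lit 0, nat_lit 8, nat_lit 2, nat_lit 6, nat_lit 5, nat_lit 8, nat_lit 0, nat_lit 5, nat_lit 6, nat_lit 2, nat_lit 8, nat_lit 0, nat_lit 2, nat_lit 6])))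
 (TT.l (Ty.srel [nat_lit 2, nat_lit 6, nat_lit 5, nat_lit 2, nat_lit 6, nat_lit 2, nat_lit 5, nat_lit 6])))
 (TT.n (TT.n (TT.l (Ty.srel [nat_lit 2, nat_lit 3, nat_lit 1, nat_lit 3, nat_lit 0, nat_lit 2, nat_lit 1, nat_lit 0, nat_lit 3, nat_lit 1, nat_lit 3, nat_lit 2, nat_lit 5, nat_lit 0, nat_lit 3, nat_lit 1, nat_lit 2, nat_lit 3, nat_lit 2, nat_lit 1, nat_lit 3, nat_lit 1, nat_lit 0]))
 (TT.l (Ty.relL (nat_lit 6) [nat_lit 1, nat_lit 2, nat_lit 3, nat_lit 1, nat_lit 3, nat_lit 1, nat_lit 2, nat_lit 1, nat_lit 6, nat_lit 5, nat_lit 3, nat_lit 2, nat_lit 6, nat_lit 2, nat_lit 3])))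
 (TT.l (Ty.srel [nat_lit 2, nat_lit 3, nat_lit 1, nat_lit 3, nat_lit 0, nat_lit 1, nat_lit 2, nat_lit 0, nat_lit 3, nat_lit 1, nat_lit 3, nat_lit 2, nat_lit 5, nat_lit 0, nat_lit 1, nat_lit 3, nat_lit 1, nat_lit 2, nat_lit 3, nat_lit 2, nat_lit 1, nat_lit 3, nat_lit 0])))))
 (TT.n (TT.n (TT.n (TT.n (TT.l (Ty.rel5 (nat_lit 0) (nat_lit 5) (nat_lit 0) (nat_lit 5) (nat_lit 0)))
 (TT.l (Ty.relL (nat_lit 7) [nat_lit 3, nat_lit 7, nat_lit 0, nat_lit 5, nat_lit 3, nat_lit 7, nat_lit 6, nat_lit 5, nat_lit 3, nat_lit 0, nat_lit 5, nat_lit 6, nat_lit 7, nat_lit 3])))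
 (TT.l (Ty.srel [nat_lit 2, nat_lit 6, nat_lit 2, nat_lit 5, nat_lit 6, nat_lit 2, nat_lit 5, nat_lit 6])))
 (TT.n (TT.n (TT.l (Ty.srel [nat_lit 4, nat_lit 5, nat_lit 4]))
 (TT.l (Ty.relL (nat_lit 2) [nat_lit 3, nat_lit 1, nat_lit 3, nat_lit 0, nat_lit 2, nat_lit 1, nat_lit 0, nat_lit 3, nat_lit 1, nat_lit 3, nat_lit 2, nat_lit 5, nat_lit 0, nat_lit 3, nat_lit 1, nat_lit 2, nat_lit 3, nat_lit 2, nat_lit 1, nat_lit 3, nat_lit 1, nat_lit 0])))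
 (TT.l (Ty.srel [nat_lit 8, nat_lit 0, nat_lit 5, nat_lit 6, nat_lit 2, nat_lit 8, nat_lit 0, nat_lit 2, nat_lit 6, nat_lit 5, nat_lit 0, nat_lit 7, nat_lit 8, nat_lit 5, nat_lit 6, nat_lit 2, nat_lit 0, nat_lit 8, nat_lit 2, nat_lit 6]))))
 (TT.n (TT.n (TT.n (TT.l (Ty.srel [nat_lit 8, nat_lit 5, nat_lit 8, nat_lit 5, nat_lit 8]))
 (TT.l (Ty.relL (nat_lit 2) [nat_lit 3, nat_lit 1, nat_lit 3, nat_lit 0, nat_lit 1, nat_lit 2, nat_lit 0, nat_lit 3, nat_lit 1, nat_lit 3, nat_lit 2, nat_lit 5, nat_lit 0, nat_lit 1, nat_lit 3, nat_lit 1, nat_lit 2, nat_lit 3, nat_lit 2, nat_lit 1, nat_lit 3, nat_lit 0])))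
 (TT.l (Ty.relL (nat_lit 2) [nat_lit 6, nat_lit 5, nat_lit 2, nat_lit 6, nat_lit 2, nat_lit 5, nat_lit 6])))
 (TT.n (TT.n (TT.l (Ty.srel [nat_lit 1, nat_lit 5, nat_lit 1, nat_lit 5, nat_lit 1, nat_lit 5, nat_lit 1]))
 (TT.l (Ty.srel [nat_lit 6, nat_lit 2, nat_lit 8, nat_lit 0, nat_lit 2, nat_lit 6, nat_lit 5, nat_lit 8, nat_lit 7, nat_lit 0, nat_lit 5, nat_lit 6, nat_lit 2, nat_lit 0, nat_lit 8, nat_lit 2, nat_lit 6, nat_lit 5, nat_lit 0, nat_lit 8])))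
 (TT.l (Ty.srel [nat_lit 0, nat_lit 7, nat_lit 3, nat_lit 7, nat_lit 5, nat_lit 3, nat_lit 7, nat_lit 6, nat_lit 5, nat_lit 0, nat_lit 3, nat_lit 5, nat_lit 6, nat_lit 7, nat_lit 3]))))))
 (TT.n (TT.n (TT.n (TT.n (TT.n (TT.l (Ty.dfn))
 (TT.l (Ty.srel [nat_lit 6, nat_lit 2, nat_lit 0, nat_lit 8, nat_lit 2, nat_lit 6, nat_lit 5, nat_lit 8, nat_lit 0, nat_lit 5, nat_lit 6, nat_lit 2, nat_lit 8, nat_lit 0, nat_lit 2, nat_lit 6, nat_lit 5, nat_lit 0, nat_lit 7, nat_lit 8])))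
 (TT.n (TT.l (Ty.srel [nat_lit 6, nat_lit 1, nat_lit 2, nat_lit 1, nat_lit 3, nat_lit 1, nat_lit 3, nat_lit 2, nat_lit 1, nat_lit 6, nat_lit 5, nat_lit 3, nat_lit 2, nat_lit 6, nat_lit 2, nat_lit 3]))
 (TT.l (Ty.relL (nat_lit 6) [nat_lit 5, nat_lit 2, nat_lit 6, nat_lit 5, nat_lit 2, nat_lit 6, nat_lit 2]))))
 (TT.n (TT.n (TT.l (Ty.relL (nat_lit 3) [nat_lit 1, nat_lit 5, nat_lit 3, nat_lit 1, nat_lit 5, nat_lit 3, nat_lit 1]))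
 (TT.l (Ty.relL (nat_lit 6) [nat_lit 2, nat_lit 0, nat_lit 8, nat_lit 2, nat_lit 6, nat_lit 5, nat_lit 8, nat_lit 0, nat_lit 5, nat_lit 6, nat_lit 2, nat_lit 8, nat_lit 0, nat_lit 2, nat_lit 6, nat_lit 5, nat_lit 0, nat_lit 7, nat_lit 8])))
 (TT.l (Ty.relL (nat_lit 2) [nat_lit 6, nat_lit 2, nat_lit 5, nat_lit 6, nat_lit 2, nat_lit 5, nat_lit 6]))))
 (TT.n (TT.n (TT.n (TT.l (Ty.relL (nat_lit 1) [nat_lit 3, nat_lit 5, nat_lit 1, nat_lit 3, nat_lit 5, nat_lit 1, nat_lit 3]))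
 (TT.l (Ty.srel [nat_lit 6, nat_lit 2, nat_lit 8, nat_lit 0, nat_lit 2, nat_lit 6, nat_lit 5, nat_lit 0, nat_lit 7, nat_lit 8, nat_lit 5, nat_lit 6, nat_lit 2, nat_lit 0, nat_lit 8, nat_lit 2, nat_lit 6, nat_lit 5, nat_lit 8, nat_lit 0])))
 (TT.l (Ty.srel [nat_lit 6, nat_lit 5, nat_lit 2, nat_lit 6, nat_lit 2, nat_lit 5, nat_lit 6, nat_lit 2])))
 (TT.n (TT.n (TT.l (Ty.relL (nat_lit 1) [nat_lit 5, nat_lit 1, nat_lit 5, nat_lit 1, nat_lit 5, nat_lit 1]))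
 (TT.l (Ty.srel [nat_lit 3, nat_lit 4, nat_lit 7, nat_lit 3, nat_lit 2, nat_lit 4, nat_lit 5, nat_lit 3, nat_lit 4, nat_lit 7, nat_lit 3, nat_lit 2, nat_lit 4, nat_lit 5, nat_lit 3, nat_lit 4, nat_lit 7, nat_lit 3, nat_lit 2, nat_lit 4, nat_lit 5, nat_lit 3, nat_lit 4, nat_lit 7, nat_lit 3, nat_lit 2, nat_lit 4, nat_lit 5, nat_lit 3, nat_lit 4, nat_lit 7, nat_lit 3, nat_lit 2, nat_lit 4])))
 (TT.l (Ty.relL (nat_lit 3) [nat_lit 2, nat_lit 6, nat_lit 2, nat_lit 3, nat_lit 5, nat_lit 6, nat_lit 1, nat_lit 2, nat_lit 1, nat_lit 3, nat_lit 1, nat_lit 3, nat_lit 2, nat_lit 1, nat_lit 6])))))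
 (TT.n (TT.n (TT.n (TT.n (TT.l (Ty.rel5 (nat_lit 8) (nat_lit 5) (nat_lit 8) (nat_lit 5) (nat_lit 8)))
 (TT.l (Ty.relL (nat_lit 3) [nat_lit 7, nat_lit 6, nat_lit 5, nat_lit 3, nat_lit 0, nat_lit 5, nat_lit 6, nat_lit 7, nat_lit 3, nat_lit 5, nat_lit 7, nat_lit 3, nat_lit 7, nat_lit 0])))
 (TT.l (Ty.srel [nat_lit 3, nat_lit 0, nat_lit 5, nat_lit 6, nat_lit 7, nat_lit 3, nat_lit 5, nat_lit 7, nat_lit 3, nat_lit 7, nat_lit 0, nat_lit 5, nat_lit 3, nat_lit 7, nat_lit 6])))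
 (TT.n (TT.n (TT.l (Ty.srel [nat_lit 6, nat_lit 2, nat_lit 5, nat_lit 6, nat_lit 5, nat_lit 2, nat_lit 6, nat_lit 2]))
 (TT.l (Ty.relL (nat_lit 8) [nat_lit 0, nat_lit 5, nat_lit 6, nat_lit 2, nat_lit 8, nat_lit 0, nat_lit 2, nat_lit 6, nat_lit 5, nat_lit 0, nat_lit 7, nat_lit 8, nat_lit 5, nat_lit 6, nat_lit 2, nat_lit 0, nat_lit 8, nat_lit 2, nat_lit 6])))
 (TT.l (Ty.srel [nat_lit 3, nat_lit 7, nat_lit 6, nat_lit 5, nat_lit 3, nat_lit 0, nat_lit 5, nat_lit 6, nat_lit 7, nat_lit 3, nat_lit 5, nat_lit 7, nat_lit 3, nat_lit 7, nat_lit 0]))))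
 (TT.n (TT.n (TT.n (TT.l (Ty.relL (nat_lit 1) [nat_lit 5, nat_lit 1, nat_lit 2, nat_lit 1, nat_lit 5, nat_lit 1, nat_lit 2]))
 (TT.l (Ty.srel [nat_lit 6, nat_lit 1, nat_lit 2, nat_lit 3, nat_lit 1, nat_lit 3, nat_lit 1, nat_lit 2, nat_lit 1, nat_lit 6, nat_lit 5, nat_lit 3, nat_lit 2, nat_lit 6, nat_lit 2, nat_lit 3])))
 (TT.l (Ty.srel [nat_lit 0, nat_lit 3, nat_lit 5, nat_lit 6, nat_lit 7, nat_lit 3, nat_lit 5, nat_lit 0, nat_lit 7, nat_lit 3, nat_lit 7, nat_lit 5, nat_lit 3, nat_lit 7, nat_lit 6])))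
 (TT.n (TT.n (TT.l (Ty.srel [nat_lit 2, nat_lit 6, nat_lit 2, nat_lit 5, nat_lit 6, nat_lit 5, nat_lit 2, nat_lit 6]))
 (TT.l (Ty.relL (nat_lit 8) [nat_lit 7, nat_lit 0, nat_lit 5, nat_lit 6, nat_lit 2, nat_lit 0, nat_lit 8, nat_lit 2, nat_lit 6, nat_lit 5, nat_lit 0, nat_lit 8, nat_lit 5, nat_lit 6, nat_lit 2, nat_lit 8, nat_lit 0, nat_lit 2, nat_lit 6])))
 (TT.l (Ty.relL (nat_lit 1) [nat_lit 5, nat_lit 2, nat_lit 1, nat_lit 5, nat_lit 1, nat_lit 2, nat_lit 1])))))))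
 (TT.n (TT.n (TT.n (TT.n (TT.n (TT.n (TT.l (Ty.rel1 (nat_lit 5)))
 (TT.l (Ty.relL (nat_lit 6) [nat_lit 2, nat_lit 8, nat_lit 0, nat_lit 2, nat_lit 6, nat_lit 5, nat_lit 8, nat_lit 7, nat_lit 0, nat_lit 5, nat_lit 6, nat_lit 2, nat_lit 0, nat_lit 8, nat_lit 2, nat_lit 6, nat_lit 5, nat_lit 0, nat_lit 8])))
 (TT.n (TT.l (Ty.srel [nat_lit 1, nat_lit 2, nat_lit 1, nat_lit 5, nat_lit 1, nat_lit 2, nat_lit 5, nat_lit 1]))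
 (TT.l (Ty.skip))))
 (TT.n (TT.n (TT.l (Ty.srel [nat_lit 0, nat_lit 5, nat_lit 0, nat_lit 5, nat_lit 0]))
 (TT.l (Ty.relL (nat_lit 3) [nat_lit 0, nat_lit 5, nat_lit 6, nat_lit 7, nat_lit 3, nat_lit 5, nat_lit 7, nat_lit 3, nat_lit 7, nat_lit 0, nat_lit 5, nat_lit 3, nat_lit 7, nat_lit 6])))
 (TT.l (Ty.relL (nat_lit 0) [nat_lit 7, nat_lit 3, nat_lit 7, nat_lit 5, nat_lit 3, nat_lit 7, nat_lit 6, nat_lit 5, nat_lit 0, nat_lit 3, nat_lit 5, nat_lit 6, nat_lit 7, nat_lit 3]))))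
 (TT.n (TT.n (TT.n (TT.l (Ty.rel3 (nat_lit 2) (nat_lit 5) (nat_lit 2)))
 (TT.l (Ty.srel [nat_lit 0, nat_lit 3, nat_lit 1, nat_lit 2, nat_lit 3, nat_lit 2, nat_lit 1, nat_lit 3, nat_lit 1, nat_lit 0, nat_lit 5, nat_lit 2, nat_lit 3, nat_lit 1, nat_lit 3, nat_lit 0, nat_lit 2, nat_lit 1, nat_lit 0, nat_lit 3, nat_lit 1, nat_lit 3, nat_lit 2])))
 (TT.l (Ty.srel [nat_lit 1, nat_lit 3, nat_lit 5, nat_lit 1, nat_lit 3, nat_lit 5, nat_lit 1, nat_lit 3])))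
 (TT.n (TT.n (TT.l (Ty.srel [nat_lit 2, nat_lit 5, nat_lit 2]))
 (TT.l (Ty.srel [nat_lit 4, nat_lit 2, nat_lit 3, nat_lit 7, nat_lit 4, nat_lit 3, nat_lit 5, nat_lit 4, nat_lit 2, nat_lit 3, nat_lit 7, nat_lit 4, nat_lit 3, nat_lit 5, nat_lit 4, nat_lit 2, nat_lit 3, nat_lit 7, nat_lit 4, nat_lit 3, nat_lit 5, nat_lit 4, nat_lit 2, nat_lit 3, nat_lit 7, nat_lit 4, nat_lit 3, nat_lit 5, nat_lit 4, nat_lit 2, nat_lit 3, nat_lit 7, nat_lit 4, nat_lit 3])))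
 (TT.l (Ty.relL (nat_lit 3) [nat_lit 2, nat_lit 6, nat_lit 2, nat_lit 3, nat_lit 5, nat_lit 6, nat_lit 1, nat_lit 2, nat_lit 3, nat_lit 1, nat_lit 3, nat_lit 1, nat_lit 2, nat_lit 1, nat_lit 6])))))
 (TT.n (TT.n (TT.n (TT.n (TT.l (Ty.rel5 (nat_lit 3) (nat_lit 5) (nat_lit 3) (nat_lit 5) (nat_lit 3)))
 (TT.l (Ty.srel [nat_lit 6, nat_lit 2, nat_lit 0, nat_lit 8, nat_lit 2, nat_lit 6, nat_lit 5, nat_lit 0, nat_lit 8, nat_lit 5, nat_lit 6, nat_lit 2, nat_lit 8, nat_lit 0, nat_lit 2, nat_lit 6, nat_lit 5, nat_lit 8, nat_lit 7, nat_lit 0])))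
 (TT.l (Ty.relL (nat_lit 1) [nat_lit 2, nat_lit 5, nat_lit 1, nat_lit 5, nat_lit 1, nat_lit 2, nat_lit 1])))
 (TT.n (TT.n (TT.l (Ty.srel [nat_lit 7, nat_lit 5, nat_lit 7]))
 (TT.l (Ty.relL (nat_lit 6) [nat_lit 7, nat_lit 3, nat_lit 5, nat_lit 7, nat_lit 3, nat_lit 7, nat_lit 0, nat_lit 5, nat_lit 3, nat_lit 7, nat_lit 6, nat_lit 5, nat_lit 3, nat_lit 0])))
 (TT.l (Ty.srel [nat_lit 8, nat_lit 7, nat_lit 0, nat_lit 5, nat_lit 6, nat_lit 2, nat_lit 0, nat_lit 8, nat_lit 2, nat_lit 6, nat_lit 5, nat_lit 0, nat_lit 8, nat_lit 5, nat_lit 6, nat_lit 2, nat_lit 8, nat_lit 0, nat_lit 2, nat_lit 6]))))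
 (TT.n (TT.n (TT.n (TT.l (Ty.relL (nat_lit 2) [nat_lit 1, nat_lit 5, nat_lit 1, nat_lit 2, nat_lit 1, nat_lit 5, nat_lit 1]))
 (TT.l (Ty.relL (nat_lit 0) [nat_lit 3, nat_lit 1, nat_lit 2, nat_lit 3, nat_lit 2, nat_lit 1, nat_lit 3, nat_lit 1, nat_lit 0, nat_lit 5, nat_lit 2, nat_lit 3, nat_lit 1, nat_lit 3, nat_lit 0, nat_lit 2, nat_lit 1, nat_lit 0, nat_lit 3, nat_lit 1, nat_lit 3, nat_lit 2])))
 (TT.l (Ty.srel [nat_lit 3, nat_lit 7, nat_lit 6, nat_lit 5, nat_lit 0, nat_lit 3, nat_lit 5, nat_lit 6, nat_lit 7, nat_lit 3, nat_lit 5, nat_lit 0, nat_lit 7, nat_lit 3, nat_lit 7])))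
 (TT.n (TT.n (TT.l (Ty.relL (nat_lit 6) [nat_lit 1, nat_lit 2, nat_lit 1, nat_lit 3, nat_lit 1, nat_lit 3, nat_lit 2, nat_lit 1, nat_lit 6, nat_lit 5, nat_lit 3, nat_lit 2, nat_lit 6, nat_lit 2, nat_lit 3]))
 (TT.l (Ty.relL (nat_lit 3) [nat_lit 4, nat_lit 7, nat_lit 3, nat_lit 2, nat_lit 4, nat_lit 5, nat_lit 3, nat_lit 4, nat_lit 7, nat_lit 3, nat_lit 2, nat_lit 4, nat_lit 5, nat_lit 3, nat_lit 4, nat_lit 7, nat_lit 3, nat_lit 2, nat_lit 4, nat_lit 5, nat_lit 3, nat_lit 4, nat_lit 7, nat_lit 3, nat_lit 2, nat_lit 4, nat_lit 5, nat_lit 3, nat_lit 4, nat_lit 7, nat_lit 3, nat_lit 2, nat_lit 4])))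
 (TT.l (Ty.relL (nat_lit 1) [nat_lit 2, nat_lit 1, nat_lit 5, nat_lit 1, nat_lit 5, nat_lit 2, nat_lit 1]))))))
 (TT.n (TT.n (TT.n (TT.n (TT.n (TT.l (Ty.srel [nat_lit 5]))
 (TT.l (Ty.relL (nat_lit 6) [nat_lit 7, nat_lit 3, nat_lit 5, nat_lit 0, nat_lit 7, nat_lit 3, nat_lit 7, nat_lit 5, nat_lit 3, nat_lit 7, nat_lit 6, nat_lit 5, nat_lit 0, nat_lit 3])))
 (TT.l (Ty.srel [nat_lit 3, nat_lit 1, nat_lit 5, nat_lit 3, nat_lit 1, nat_lit 5, nat_lit 3, nat_lit 1])))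
 (TT.n (TT.n (TT.l (Ty.relL (nat_lit 1) [nat_lit 2, nat_lit 1, nat_lit 5, nat_lit 1, nat_lit 2, nat_lit 5, nat_lit 1]))
 (TT.l (Ty.relL (nat_lit 6) [nat_lit 2, nat_lit 8, nat_lit 0, nat_lit 2, nat_lit 6, nat_lit 5, nat_lit 0, nat_lit 7, nat_lit 8, nat_lit 5, nat_lit 6, nat_lit 2, nat_lit 0, nat_lit 8, nat_lit 2, nat_lit 6, nat_lit 5, nat_lit 8, nat_lit 0])))
 (TT.l (Ty.srel [nat_lit 7, nat_lit 3, nat_lit 7, nat_lit 0, nat_lit 5, nat_lit 3, nat_lit 7, nat_lit 6, nat_lit 5, nat_lit 3, nat_lit 0, nat_lit 5, nat_lit 6, nat_lit 7, nat_lit 3]))))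
 (TT.n (TT.n (TT.n (TT.l (Ty.rel3 (nat_lit 4) (nat_lit 5) (nat_lit 4)))
 (TT.l (Ty.relL (nat_lit 0) [nat_lit 8, nat_lit 5, nat_lit 6, nat_lit 2, nat_lit 8, nat_lit 0, nat_lit 2, nat_lit 6, nat_lit 5, nat_lit 8, nat_lit 7, nat_lit 0, nat_lit 5, nat_lit 6, nat_lit 2, nat_lit 0, nat_lit 8, nat_lit 2, nat_lit 6])))
 (TT.l (Ty.srel [nat_lit 3, nat_lit 2, nat_lit 6, nat_lit 2, nat_lit 3, nat_lit 5, nat_lit 6, nat_lit 1, nat_lit 2, nat_lit 1, nat_lit 3, nat_lit 1, nat_lit 3, nat_lit 2, nat_lit 1, nat_lit 6])))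
 (TT.n (TT.n (TT.l (Ty.srel [nat_lit 2, nat_lit 1, nat_lit 5, nat_lit 1, nat_lit 2, nat_lit 1, nat_lit 5, nat_lit 1]))
 (TT.l (Ty.srel [nat_lit 3, nat_lit 2, nat_lit 6, nat_lit 2, nat_lit 3, nat_lit 5, nat_lit 6, nat_lit 1, nat_lit 2, nat_lit 3, nat_lit 1, nat_lit 3, nat_lit 1, nat_lit 2, nat_lit 1, nat_lit 6])))
 (TT.l (Ty.srel [nat_lit 1, nat_lit 5, nat_lit 2, nat_lit 1, nat_lit 5, nat_lit 1, nat_lit 2, nat_lit 1])))))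
 (TT.n (TT.n (TT.n (TT.n (TT.l (Ty.rel5 (nat_lit 6) (nat_lit 5) (nat_lit 6) (nat_lit 5) (nat_lit 6)))
 (TT.l (Ty.srel [nat_lit 1, nat_lit 2, nat_lit 1, nat_lit 5, nat_lit 1, nat_lit 5, nat_lit 2, nat_lit 1])))
 (TT.l (Ty.srel [nat_lit 0, nat_lit 1, nat_lit 3, nat_lit 1, nat_lit 2, nat_lit 3, nat_lit 2, nat_lit 1, nat_lit 3, nat_lit 0, nat_lit 5, nat_lit 2, nat_lit 3, nat_lit 1, nat_lit 3, nat_lit 0, nat_lit 1, nat_lit 2, nat_lit 0, nat_lit 3, nat_lit 1, nat_lit 3, nat_lit 2])))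
 (TT.n (TT.n (TT.l (Ty.srel [nat_lit 3, nat_lit 5, nat_lit 3, nat_lit 5, nat_lit 3]))
 (TT.l (Ty.relL (nat_lit 0) [nat_lit 7, nat_lit 8, nat_lit 5, nat_lit 6, nat_lit 2, nat_lit 0, nat_lit 8, nat_lit 2, nat_lit 6, nat_lit 5, nat_lit 8, nat_lit 0, nat_lit 5, nat_lit 6, nat_lit 2, nat_lit 8, nat_lit 0, nat_lit 2, nat_lit 6])))
 (TT.l (Ty.relL (nat_lit 0) [nat_lit 3, nat_lit 5, nat_lit 6, nat_lit 7, nat_lit 3, nat_lit 5, nat_lit 0, nat_lit 7, nat_lit 3, nat_lit 7, nat_lit 5, nat_lit 3, nat_lit 7, nat_lit 6]))))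
 (TT.n (TT.n (TT.n (TT.l (Ty.relL (nat_lit 6) [nat_lit 2, nat_lit 5, nat_lit 6, nat_lit 5, nat_lit 2, nat_lit 6, nat_lit 2]))
 (TT.l (Ty.srel [nat_lit 6, nat_lit 7, nat_lit 3, nat_lit 5, nat_lit 7, nat_lit 3, nat_lit 7, nat_lit 0, nat_lit 5, nat_lit 3, nat_lit 7, nat_lit 6, nat_lit 5, nat_lit 3, nat_lit 0])))
 (TT.l (Ty.srel [nat_lit 6, nat_lit 7, nat_lit 3, nat_lit 5, nat_lit 0, nat_lit 7, nat_lit 3, nat_lit 7, nat_lit 5, nat_lit 3, nat_lit 7, nat_lit 6, nat_lit 5, nat_lit 0, nat_lit 3])))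
 (TT.n (TT.n (TT.l (Ty.srel [nat_lit 6, nat_lit 5, nat_lit 6, nat_lit 5, nat_lit 6]))
 (TT.l (Ty.relL (nat_lit 6) [nat_lit 2, nat_lit 0, nat_lit 8, nat_lit 2, nat_lit 6, nat_lit 5, nat_lit 0, nat_lit 8, nat_lit 5, nat_lit 6, nat_lit 2, nat_lit 8, nat_lit 0, nat_lit 2, nat_lit 6, nat_lit 5, nat_lit 8, nat_lit 7, nat_lit 0])))
 (TT.l (Ty.relL (nat_lit 0) [nat_lit 1, nat_lit 3, nat_lit 1, nat_lit 2, nat_lit 3, nat_lit 2, nat_lit 1, nat_lit 3, nat_lit 0, nat_lit 5, nat_lit 2, nat_lit 3, nat_lit 1, nat_lit 3, nat_lit 0, nat_lit 1, nat_lit 2, nat_lit 0, nat_lit 3, nat_lit 1, nat_lit 3, nat_lit 2]))))))))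
noncomputable def ty6 : TT := (TT.n (TT.n (TT.n (TT.n (TT.n (TT.n (TT.n (TT.l (Ty.ssub [] []))
 (TT.l (Ty.relL (nat_lit 5) [nat_lit 3, nat_lit 2, nat_lit 6, nat_lit 2, nat_lit 3, nat_lit 5, nat_lit 6, nat_lit 1, nat_lit 2, nat_lit 1, nat_lit 3, nat_lit 1, nat_lit 3, nat_lit 2, nat_lit 1])))
 (TT.n (TT.l (Ty.srel [nat_lit 2, nat_lit 8, nat_lit 2, nat_lit 6, nat_lit 2, nat_lit 8, nat_lit 6, nat_lit 2]))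
 (TT.l (Ty.srel [nat_lit 5, nat_lit 3, nat_lit 2, nat_lit 6, nat_lit 2, nat_lit 3, nat_lit 5, nat_lit 6, nat_lit 1, nat_lit 2, nat_lit 3, nat_lit 1, nat_lit 3, nat_lit 1, nat_lit 2, nat_lit 1]))))
 (TT.n (TT.n (TT.l (Ty.srel [nat_lit 2, nat_lit 6, nat_lit 8, nat_lit 2, nat_lit 6, nat_lit 2, nat_lit 8, nat_lit 2]))
 (TT.l (Ty.srel [nat_lit 5, nat_lit 0, nat_lit 3, nat_lit 5, nat_lit 6, nat_lit 7, nat_lit 3, nat_lit 5, nat_lit 0, nat_lit 7, nat_lit 3, nat_lit 7, nat_lit 5, nat_lit 3, nat_lit 7])))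
 (TT.l (Ty.relL (nat_lit 5) [nat_lit 2, nat_lit 6, nat_lit 2, nat_lit 5, nat_lit 6, nat_lit 5, nat_lit 2]))))
 (TT.n (TT.n (TT.n (TT.l (Ty.rel3 (nat_lit 1) (nat_lit 6) (nat_lit 1)))
 (TT.l (Ty.relL (nat_lit 0) [nat_lit 2, nat_lit 3, nat_lit 6, nat_lit 2, nat_lit 0, nat_lit 6, nat_lit 2, nat_lit 3, nat_lit 6, nat_lit 2, nat_lit 6, nat_lit 0, nat_lit 2, nat_lit 6, nat_lit 3, nat_lit 2])))
 (TT.l (Ty.srel [nat_lit 2, nat_lit 5, nat_lit 6, nat_lit 2, nat_lit 5, nat_lit 6, nat_lit 5, nat_lit 2])))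
 (TT.n (TT.n (TT.l (Ty.srel [nat_lit 2, nat_lit 0, nat_lit 6, nat_lit 2, nat_lit 3, nat_lit 6, nat_lit 2, nat_lit 6, nat_lit 0, nat_lit 2, nat_lit 6, nat_lit 3, nat_lit 2, nat_lit 6, nat_lit 0, nat_lit 2, nat_lit 3]))
 (TT.l (Ty.srel [nat_lit 5, nat_lit 2, nat_lit 6, nat_lit 5, nat_lit 2, nat_lit 6, nat_lit 2, nat_lit 5])))
 (TT.l (Ty.relL (nat_lit 3) [nat_lit 2, nat_lit 6, nat_lit 0, nat_lit 2, nat_lit 3, nat_lit 6, nat_lit 2, nat_lit 0, nat_lit 6, nat_lit 2, nat_lit 3, nat_lit 6, nat_lit 2, nat_lit 6, nat_lit 0, nat_lit 2])))))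
 (TT.n (TT.n (TT.n (TT.n (TT.l (Ty.srel [nat_lit 6]))
 (TT.l (Ty.relL (nat_lit 5) [nat_lit 8, nat_lit 0, nat_lit 5, nat_lit 6, nat_lit 2, nat_lit 8, nat_lit 0, nat_lit 2, nat_lit 6, nat_lit 5, nat_lit 0, nat_lit 7, nat_lit 8, nat_lit 5, nat_lit 6, nat_lit 2, nat_lit 0, nat_lit 8, nat_lit 2])))
 (TT.l (Ty.srel [nat_lit 2, nat_lit 3, nat_lit 5, nat_lit 6, nat_lit 1, nat_lit 2, nat_lit 1, nat_lit 3, nat_lit 1, nat_lit 3, nat_lit 2, nat_lit 1, nat_lit 6, nat_lit 5, nat_lit 3, nat_lit 2])))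
 (TT.n (TT.n (TT.l (Ty.srel [nat_lit 3, nat_lit 1, nat_lit 0, nat_lit 3, nat_lit 7, nat_lit 3, nat_lit 1, nat_lit 3, nat_lit 7]))
 (TT.l (Ty.relL (nat_lit 5) [nat_lit 0, nat_lit 7, nat_lit 8, nat_lit 5, nat_lit 6, nat_lit 2, nat_lit 0, nat_lit 8, nat_lit 2, nat_lit 6, nat_lit 5, nat_lit 8, nat_lit 0, nat_lit 5, nat_lit 6, nat_lit 2, nat_lit 8, nat_lit 0, nat_lit 2])))
 (TT.l (Ty.srel [nat_lit 3, nat_lit 2, nat_lit 6, nat_lit 0, nat_lit 2, nat_lit 3, nat_lit 6, nat_lit 2, nat_lit 0, nat_lit 6, nat_lit 2, nat_lit 3, nat_lit 6, nat_lit 2, nat_lit 6, nat_lit 0, nat_lit 2]))))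
 (TT.n (TT.n (TT.n (TT.l (Ty.rel5 (nat_lit 5) (nat_lit 6) (nat_lit 5) (nat_lit 6) (nat_lit 5)))
 (TT.l (Ty.srel [nat_lit 2, nat_lit 8, nat_lit 6, nat_lit 2, nat_lit 6, nat_lit 2, nat_lit 8, nat_lit 2])))
 (TT.l (Ty.srel [nat_lit 7, nat_lit 3, nat_lit 1, nat_lit 3, nat_lit 7, nat_lit 3, nat_lit 0, nat_lit 1, nat_lit 3])))
 (TT.n (TT.n (TT.l (Ty.srel [nat_lit 4, nat_lit 6, nat_lit 4]))
 (TT.l (Ty.relL (nat_lit 5) [nat_lit 3, nat_lit 2, nat_lit 6, nat_lit 2, nat_lit 3, nat_lit 5, nat_lit 6, nat_lit 1, nat_lit 2, nat_lit 3, nat_lit 1, nat_lit 3, nat_lit 1, nat_lit 2, nat_lit 1])))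
 (TT.l (Ty.srel [nat_lit 5, nat_lit 3, nat_lit 0, nat_lit 5, nat_lit 6, nat_lit 7, nat_lit 3, nat_lit 5, nat_lit 7, nat_lit 3, nat_lit 7, nat_lit 0, nat_lit 5, nat_lit 3, nat_lit 7]))))))
 (TT.n (TT.n (TT.n (TT.n (TT.n (TT.l (Ty.relL (nat_lit 2) [nat_lit 6, nat_lit 8, nat_lit 2, nat_lit 6, nat_lit 2, nat_lit 8, nat_lit 2]))
 (TT.l (Ty.relL (nat_lit 2) [nat_lit 0, nat_lit 6, nat_lit 2, nat_lit 3, nat_lit 6, nat_lit 2, nat_lit 6, nat_lit 0, nat_lit 2, nat_lit 6, nat_lit 3, nat_lit 2, nat_lit 6, nat_lit 0, nat_lit 2, nat_lit 3])))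
 (TT.n (TT.l (Ty.srel [nat_lit 8, nat_lit 2, nat_lit 6, nat_lit 2, nat_lit 8, nat_lit 2, nat_lit 6, nat_lit 2]))
 (TT.l (Ty.skip))))
 (TT.n (TT.n (TT.l (Ty.srel [nat_lit 8, nat_lit 6, nat_lit 8]))
 (TT.l (Ty.relL (nat_lit 1) [nat_lit 2, nat_lit 3, nat_lit 1, nat_lit 3, nat_lit 1, nat_lit 2, nat_lit 1, nat_lit 6, nat_lit 5, nat_lit 3, nat_lit 2, nat_lit 6, nat_lit 2, nat_lit 3, nat_lit 5])))
 (TT.l (Ty.srel [nat_lit 2, nat_lit 3, nat_lit 6, nat_lit 2, nat_lit 6, nat_lit 0, nat_lit 2, nat_lit 6, nat_lit 3, nat_lit 2, nat_lit 6, nat_lit 0, nat_lit 2, nat_lit 3, nat_lit 6, nat_lit 2, nat_lit 0]))))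
 (TT.n (TT.n (TT.n (TT.l (Ty.dfn))
 (TT.l (Ty.srel [nat_lit 2, nat_lit 6, nat_lit 0, nat_lit 2, nat_lit 6, nat_lit 3, nat_lit 2, nat_lit 6, nat_lit 0, nat_lit 2, nat_lit 3, nat_lit 6, nat_lit 2, nat_lit 0, nat_lit 6, nat_lit 2, nat_lit 3])))
 (TT.l (Ty.relL (nat_lit 2) [nat_lit 3, nat_lit 5, nat_lit 6, nat_lit 1, nat_lit 2, nat_lit 1, nat_lit 3, nat_lit 1, nat_lit 3, nat_lit 2, nat_lit 1, nat_lit 6, nat_lit 5, nat_lit 3, nat_lit 2])))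
 (TT.n (TT.n (TT.l (Ty.relL (nat_lit 2) [nat_lit 6, nat_lit 2, nat_lit 8, nat_lit 2, nat_lit 6, nat_lit 2, nat_lit 8]))
 (TT.l (Ty.relL (nat_lit 0) [nat_lit 2, nat_lit 6, nat_lit 3, nat_lit 2, nat_lit 0, nat_lit 6, nat_lit 2, nat_lit 3, nat_lit 6, nat_lit 2, nat_lit 0, nat_lit 6, nat_lit 2, nat_lit 6, nat_lit 3, nat_lit 2])))
 (TT.l (Ty.srel [nat_lit 0, nat_lit 2, nat_lit 6, nat_lit 3, nat_lit 2, nat_lit 6, nat_lit 0, nat_lit 2, nat_lit 3, nat_lit 6, nat_lit 2, nat_lit 0, nat_lit 6, nat_lit 2, nat_lit 3, nat_lit 6, nat_lit 2])))))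
 (TT.n (TT.n (TT.n (TT.n (TT.l (Ty.rel1 (nat_lit 6)))
 (TT.l (Ty.srel [nat_lit 7, nat_lit 3, nat_lit 5, nat_lit 0, nat_lit 7, nat_lit 3, nat_lit 7, nat_lit 5, nat_lit 3, nat_lit 7, nat_lit 6, nat_lit 5, nat_lit 0, nat_lit 3, nat_lit 5])))
 (TT.l (Ty.srel [nat_lit 1, nat_lit 2, nat_lit 3, nat_lit 1, nat_lit 3, nat_lit 1, nat_lit 2, nat_lit 1, nat_lit 6, nat_lit 5, nat_lit 3, nat_lit 2, nat_lit 6, nat_lit 2, nat_lit 3, nat_lit 5])))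
 (TT.n (TT.n (TT.l (Ty.relL (nat_lit 2) [nat_lit 8, nat_lit 2, nat_lit 6, nat_lit 2, nat_lit 8, nat_lit 6, nat_lit 2]))
 (TT.l (Ty.relL (nat_lit 2) [nat_lit 8, nat_lit 0, nat_lit 2, nat_lit 6, nat_lit 5, nat_lit 0, nat_lit 7, nat_lit 8, nat_lit 5, nat_lit 6, nat_lit 2, nat_lit 0, nat_lit 8, nat_lit 2, nat_lit 6, nat_lit 5, nat_lit 8, nat_lit 0, nat_lit 5])))
 (TT.l (Ty.srel [nat_lit 5, nat_lit 8, nat_lit 0, nat_lit 5, nat_lit 6, nat_lit 2, nat_lit 8, nat_lit 0, nat_lit 2, nat_lit 6, nat_lit 5, nat_lit 0, nat_lit 7, nat_lit 8, nat_lit 5, nat_lit 6, nat_lit 2, nat_lit 0, nat_lit 8, nat_lit 2]))))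
 (TT.n (TT.n (TT.n (TT.l (Ty.relL (nat_lit 2) [nat_lit 5, nat_lit 6, nat_lit 5, nat_lit 2, nat_lit 6, nat_lit 2, nat_lit 5]))
 (TT.l (Ty.relL (nat_lit 3) [nat_lit 2, nat_lit 6, nat_lit 0, nat_lit 2, nat_lit 6, nat_lit 3, nat_lit 2, nat_lit 0, nat_lit 6, nat_lit 2, nat_lit 3, nat_lit 6, nat_lit 2, nat_lit 0, nat_lit 6, nat_lit 2])))
 (TT.l (Ty.relL (nat_lit 2) [nat_lit 8, nat_lit 6, nat_lit 2, nat_lit 6, nat_lit 2, nat_lit 8, nat_lit 2])))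
 (TT.n (TT.n (TT.l (Ty.srel [nat_lit 1, nat_lit 6, nat_lit 1]))
 (TT.l (Ty.relL (nat_lit 2) [nat_lit 8, nat_lit 0, nat_lit 2, nat_lit 6, nat_lit 5, nat_lit 8, nat_lit 7, nat_lit 0, nat_lit 5, nat_lit 6, nat_lit 2, nat_lit 0, nat_lit 8, nat_lit 2, nat_lit 6, nat_lit 5, nat_lit 0, nat_lit 8, nat_lit 5])))
 (TT.l (Ty.srel [nat_lit 1, nat_lit 2, nat_lit 1, nat_lit 3, nat_lit 1, nat_lit 3, nat_lit 2, nat_lit 1, nat_lit 6, nat_lit 5, nat_lit 3, nat_lit 2, nat_lit 6, nat_lit 2, nat_lit 3, nat_lit 5])))))))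
 (TT.n (TT.n (TT.n (TT.n (TT.n (TT.n (TT.l (Ty.rel3 (nat_lit 8) (nat_lit 6) (nat_lit 8)))
 (TT.l (Ty.relL (nat_lit 5) [nat_lit 3, nat_lit 0, nat_lit 5, nat_lit 6, nat_lit 7, nat_lit 3, nat_lit 5, nat_lit 7, nat_lit 3, nat_lit 7, nat_lit 0, nat_lit 5, nat_lit 3, nat_lit 7])))
 (TT.n (TT.l (Ty.srel [nat_lit 2, nat_lit 6, nat_lit 2, nat_lit 8, nat_lit 2, nat_lit 6, nat_lit 2, nat_lit 8]))
 (TT.l (Ty.relL (nat_lit 2) [nat_lit 6, nat_lit 3, nat_lit 2, nat_lit 6, nat_lit 0, nat_lit 2, nat_lit 6, nat_lit 3, nat_lit 2, nat_lit 0, nat_lit 6, nat_lit 2, nat_lit 3, nat_lit 6, nat_lit 2, nat_lit 0]))))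
 (TT.n (TT.n (TT.l (Ty.srel [nat_lit 3, nat_lit 6, nat_lit 3]))
 (TT.l (Ty.relL (nat_lit 2) [nat_lit 0, nat_lit 8, nat_lit 2, nat_lit 6, nat_lit 5, nat_lit 8, nat_lit 0, nat_lit 5, nat_lit 6, nat_lit 2, nat_lit 8, nat_lit 0, nat_lit 2, nat_lit 6, nat_lit 5, nat_lit 0, nat_lit 7, nat_lit 8, nat_lit 5])))
 (TT.l (Ty.relL (nat_lit 2) [nat_lit 5, nat_lit 6, nat_lit 5, nat_lit 2, nat_lit 6, nat_lit 5, nat_lit 2]))))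
 (TT.n (TT.n (TT.n (TT.l (Ty.rel3 (nat_lit 7) (nat_lit 6) (nat_lit 7)))
 (TT.l (Ty.relL (nat_lit 0) [nat_lit 2, nat_lit 6, nat_lit 3, nat_lit 2, nat_lit 6, nat_lit 0, nat_lit 2, nat_lit 3, nat_lit 6, nat_lit 2, nat_lit 0, nat_lit 6, nat_lit 2, nat_lit 3, nat_lit 6, nat_lit 2])))
 (TT.l (Ty.relL (nat_lit 1) [nat_lit 2, nat_lit 1, nat_lit 3, nat_lit 1, nat_lit 3, nat_lit 2, nat_lit 1, nat_lit 6, nat_lit 5, nat_lit 3, nat_lit 2, nat_lit 6, nat_lit 2, nat_lit 3, nat_lit 5])))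
 (TT.n (TT.n (TT.l (Ty.relL (nat_lit 2) [nat_lit 8, nat_lit 2, nat_lit 6, nat_lit 2, nat_lit 6, nat_lit 8, nat_lit 2]))
 (TT.l (Ty.relL (nat_lit 2) [nat_lit 3, nat_lit 5, nat_lit 6, nat_lit 1, nat_lit 2, nat_lit 3, nat_lit 1, nat_lit 3, nat_lit 1, nat_lit 2, nat_lit 1, nat_lit 6, nat_lit 5, nat_lit 3, nat_lit 2])))
 (TT.l (Ty.relL (nat_lit 5) [nat_lit 2, nat_lit 6, nat_lit 5, nat_lit 2, nat_lit 6, nat_lit 2, nat_lit 5])))))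
 (TT.n (TT.n (TT.n (TT.n (TT.l (Ty.rel3 (nat_lit 0) (nat_lit 6) (nat_lit 0)))
 (TT.l (Ty.srel [nat_lit 2, nat_lit 3, nat_lit 5, nat_lit 6, nat_lit 1, nat_lit 2, nat_lit 3, nat_lit 1, nat_lit 3, nat_lit 1, nat_lit 2, nat_lit 1, nat_lit 6, nat_lit 5, nat_lit 3, nat_lit 2])))
 (TT.l (Ty.relL (nat_lit 2) [nat_lit 5, nat_lit 6, nat_lit 2, nat_lit 5, nat_lit 6, nat_lit 5, nat_lit 2])))
 (TT.n (TT.n (TT.l (Ty.srel [nat_lit 7, nat_lit 6, nat_lit 7]))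
 (TT.l (Ty.srel [nat_lit 7, nat_lit 3, nat_lit 5, nat_lit 7, nat_lit 3, nat_lit 7, nat_lit 0, nat_lit 5, nat_lit 3, nat_lit 7, nat_lit 6, nat_lit 5, nat_lit 3, nat_lit 0, nat_lit 5])))
 (TT.l (Ty.srel [nat_lit 2, nat_lit 0, nat_lit 8, nat_lit 2, nat_lit 6, nat_lit 5, nat_lit 8, nat_lit 0, nat_lit 5, nat_lit 6, nat_lit 2, nat_lit 8, nat_lit 0, nat_lit 2, nat_lit 6, nat_lit 5, nat_lit 0, nat_lit 7, nat_lit 8, nat_lit 5]))))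
 (TT.n (TT.n (TT.n (TT.l (Ty.srel [nat_lit 2, nat_lit 5, nat_lit 6, nat_lit 5, nat_lit 2, nat_lit 6, nat_lit 2, nat_lit 5]))
 (TT.l (Ty.srel [nat_lit 5, nat_lit 0, nat_lit 8, nat_lit 5, nat_lit 6, nat_lit 2, nat_lit 8, nat_lit 0, nat_lit 2, nat_lit 6, nat_lit 5, nat_lit 8, nat_lit 7, nat_lit 0, nat_lit 5, nat_lit 6, nat_lit 2, nat_lit 0, nat_lit 8, nat_lit 2])))
 (TT.l (Ty.relL (nat_lit 3) [nat_lit 1, nat_lit 0, nat_lit 3, nat_lit 7, nat_lit 3, nat_lit 1, nat_lit 3, nat_lit 7])))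
 (TT.n (TT.n (TT.l (Ty.relL (nat_lit 7) [nat_lit 3, nat_lit 1, nat_lit 3, nat_lit 7, nat_lit 3, nat_lit 0, nat_lit 1, nat_lit 3]))
 (TT.l (Ty.relL (nat_lit 5) [nat_lit 8, nat_lit 7, nat_lit 0, nat_lit 5, nat_lit 6, nat_lit 2, nat_lit 0, nat_lit 8, nat_lit 2, nat_lit 6, nat_lit 5, nat_lit 0, nat_lit 8, nat_lit 5, nat_lit 6, nat_lit 2, nat_lit 8, nat_lit 0, nat_lit 2])))
 (TT.l (Ty.srel [nat_lit 0, nat_lit 2, nat_lit 3, nat_lit 6, nat_lit 2, nat_lit 0, nat_lit 6, nat_lit 2, nat_lit 3, nat_lit 6, nat_lit 2, nat_lit 6, nat_lit 0, nat_lit 2, nat_lit 6, nat_lit 3, nat_lit 2]))))))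
 (TT.n (TT.n (TT.n (TT.n (TT.n (TT.l (Ty.rel3 (nat_lit 3) (nat_lit 6) (nat_lit 3)))
 (TT.l (Ty.relL (nat_lit 7) [nat_lit 3, nat_lit 5, nat_lit 7, nat_lit 3, nat_lit 7, nat_lit 0, nat_lit 5, nat_lit 3, nat_lit 7, nat_lit 6, nat_lit 5, nat_lit 3, nat_lit 0, nat_lit 5])))
 (TT.l (Ty.srel [nat_lit 5, nat_lit 2, nat_lit 6, nat_lit 2, nat_lit 5, nat_lit 6, nat_lit 5, nat_lit 2])))
 (TT.n (TT.n (TT.l (Ty.srel [nat_lit 0, nat_lit 6, nat_lit 0]))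
 (TT.l (Ty.relL (nat_lit 2) [nat_lit 6, nat_lit 0, nat_lit 2, nat_lit 6, nat_lit 3, nat_lit 2, nat_lit 6, nat_lit 0, nat_lit 2, nat_lit 3, nat_lit 6, nat_lit 2, nat_lit 0, nat_lit 6, nat_lit 2, nat_lit 3])))
 (TT.l (Ty.srel [nat_lit 5, nat_lit 3, nat_lit 2, nat_lit 6, nat_lit 2, nat_lit 3, nat_lit 5, nat_lit 6, nat_lit 1, nat_lit 2, nat_lit 1, nat_lit 3, nat_lit 1, nat_lit 3, nat_lit 2, nat_lit 1]))))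
 (TT.n (TT.n (TT.n (TT.l (Ty.relL (nat_lit 2) [nat_lit 6, nat_lit 2, nat_lit 6, nat_lit 2, nat_lit 6, nat_lit 2]))
 (TT.l (Ty.srel [nat_lit 5, nat_lit 0, nat_lit 7, nat_lit 8, nat_lit 5, nat_lit 6, nat_lit 2, nat_lit 0, nat_lit 8, nat_lit 2, nat_lit 6, nat_lit 5, nat_lit 8, nat_lit 0, nat_lit 5, nat_lit 6, nat_lit 2, nat_lit 8, nat_lit 0, nat_lit 2])))
 (TT.l (Ty.srel [nat_lit 5, nat_lit 2, nat_lit 6, nat_lit 2, nat_lit 5, nat_lit 6, nat_lit 2, nat_lit 5])))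
 (TT.n (TT.n (TT.l (Ty.srel [nat_lit 2, nat_lit 8, nat_lit 2, nat_lit 6, nat_lit 2, nat_lit 6, nat_lit 8, nat_lit 2]))
 (TT.l (Ty.relL (nat_lit 2) [nat_lit 0, nat_lit 8, nat_lit 2, nat_lit 6, nat_lit 5, nat_lit 0, nat_lit 8, nat_lit 5, nat_lit 6, nat_lit 2, nat_lit 8, nat_lit 0, nat_lit 2, nat_lit 6, nat_lit 5, nat_lit 8, nat_lit 7, nat_lit 0, nat_lit 5])))
 (TT.l (Ty.relL (nat_lit 5) [nat_lit 0, nat_lit 3, nat_lit 5, nat_lit 6, nat_lit 7, nat_lit 3, nat_lit 5, nat_lit 0, nat_lit 7, nat_lit 3, nat_lit 7, nat_lit 5, nat_lit 3, nat_lit 7])))))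
 (TT.n (TT.n (TT.n (TT.n (TT.l (Ty.rel3 (nat_lit 4) (nat_lit 6) (nat_lit 4)))
 (TT.l (Ty.srel [nat_lit 2, nat_lit 8, nat_lit 0, nat_lit 2, nat_lit 6, nat_lit 5, nat_lit 0, nat_lit 7, nat_lit 8, nat_lit 5, nat_lit 6, nat_lit 2, nat_lit 0, nat_lit 8, nat_lit 2, nat_lit 6, nat_lit 5, nat_lit 8, nat_lit 0, nat_lit 5])))
 (TT.l (Ty.srel [nat_lit 3, nat_lit 2, nat_lit 0, nat_lit 6, nat_lit 2, nat_lit 3, nat_lit 6, nat_lit 2, nat_lit 0, nat_lit 6, nat_lit 2, nat_lit 6, nat_lit 3, nat_lit 2, nat_lit 6, nat_lit 0, nat_lit 2])))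
 (TT.n (TT.n (TT.l (Ty.srel [nat_lit 2, nat_lit 6, nat_lit 2, nat_lit 6, nat_lit 2, nat_lit 6, nat_lit 2]))
 (TT.l (Ty.relL (nat_lit 3) [nat_lit 2, nat_lit 0, nat_lit 6, nat_lit 2, nat_lit 3, nat_lit 6, nat_lit 2, nat_lit 0, nat_lit 6, nat_lit 2, nat_lit 6, nat_lit 3, nat_lit 2, nat_lit 6, nat_lit 0, nat_lit 2])))
 (TT.l (Ty.relL (nat_lit 5) [nat_lit 2, nat_lit 6, nat_lit 2, nat_lit 5, nat_lit 6, nat_lit 2, nat_lit 5]))))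
 (TT.n (TT.n (TT.n (TT.l (Ty.srel [nat_lit 5, nat_lit 6, nat_lit 5, nat_lit 6, nat_lit 5]))
 (TT.l (Ty.relL (nat_lit 2) [nat_lit 3, nat_lit 6, nat_lit 2, nat_lit 0, nat_lit 6, nat_lit 2, nat_lit 6, nat_lit 3, nat_lit 2, nat_lit 6, nat_lit 0, nat_lit 2, nat_lit 6, nat_lit 3, nat_lit 2, nat_lit 0])))
 (TT.l (Ty.relL (nat_lit 2) [nat_lit 3, nat_lit 6, nat_lit 2, nat_lit 6, nat_lit 0, nat_lit 2, nat_lit 6, nat_lit 3, nat_lit 2, nat_lit 6, nat_lit 0, nat_lit 2, nat_lit 3, nat_lit 6, nat_lit 2, nat_lit 0])))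
 (TT.n (TT.n (TT.l (Ty.relL (nat_lit 8) [nat_lit 2, nat_lit 6, nat_lit 2, nat_lit 8, nat_lit 2, nat_lit 6, nat_lit 2]))
 (TT.l (Ty.srel [nat_lit 2, nat_lit 5, nat_lit 6, nat_lit 5, nat_lit 2, nat_lit 6, nat_lit 5, nat_lit 2])))
 (TT.l (Ty.relL (nat_lit 7) [nat_lit 3, nat_lit 5, nat_lit 0, nat_lit 7, nat_lit 3, nat_lit 7, nat_lit 5, nat_lit 3, nat_lit 7, nat_lit 6, nat_lit 5, nat_lit 0, nat_lit 3, nat_lit 5]))))))))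
noncomputable def ty7 : TT := (TT.n (TT.n (TT.n (TT.n (TT.n (TT.n (TT.n (TT.l (Ty.ssub [] []))
 (TT.l (Ty.relL (nat_lit 2) [nat_lit 3, nat_lit 2, nat_lit 4, nat_lit 7, nat_lit 3, nat_lit 2, nat_lit 4, nat_lit 7, nat_lit 3, nat_lit 2, nat_lit 7, nat_lit 3, nat_lit 7, nat_lit 8, nat_lit 2, nat_lit 3, nat_lit 7, nat_lit 4, nat_lit 3, nat_lit 7, nat_lit 4, nat_lit 3, nat_lit 2, nat_lit 8, nat_lit 3])))
 (TT.l (Ty.srel [nat_lit 3, nat_lit 5, nat_lit 0, nat_lit 7, nat_lit 3, nat_lit 7, nat_lit 5, nat_lit 3, nat_lit 7, nat_lit 6, nat_lit 5, nat_lit 0, nat_lit 3, nat_lit 5, nat_lit 6])))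
 (TT.n (TT.l (Ty.srel [nat_lit 5, nat_lit 7, nat_lit 5]))
 (TT.l (Ty.relL (nat_lit 3) [nat_lit 5, nat_lit 0, nat_lit 7, nat_lit 3, nat_lit 7, nat_lit 5, nat_lit 3, nat_lit 7, nat_lit 6, nat_lit 5, nat_lit 0, nat_lit 3, nat_lit 5, nat_lit 6]))))
 (TT.n (TT.n (TT.n (TT.l (Ty.rel3 (nat_lit 1) (nat_lit 7) (nat_lit 1)))
 (TT.l (Ty.relL (nat_lit 3) [nat_lit 7, nat_lit 8, nat_lit 2, nat_lit 3, nat_lit 7, nat_lit 4, nat_lit 3, nat_lit 7, nat_lit 4, nat_lit 3, nat_lit 2, nat_lit 8, nat_lit 3, nat_lit 7, nat_lit 2, nat_lit 3, nat_lit 2, nat_lit 4, nat_lit 7, nat_lit 3, nat_lit 2, nat_lit 4, nat_lit 7, nat_lit 3, nat_lit 2])))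
 (TT.l (Ty.relL (nat_lit 6) [nat_lit 3, nat_lit 1, nat_lit 0, nat_lit 3, nat_lit 7, nat_lit 3, nat_lit 1, nat_lit 3])))
 (TT.n (TT.l (Ty.srel [nat_lit 6, nat_lit 5, nat_lit 3, nat_lit 0, nat_lit 5, nat_lit 6, nat_lit 7, nat_lit 3, nat_lit 5, nat_lit 7, nat_lit 3, nat_lit 7, nat_lit 0, nat_lit 5, nat_lit 3]))
 (TT.l (Ty.srel [nat_lit 3, nat_lit 2, nat_lit 4, nat_lit 7, nat_lit 3, nat_lit 2, nat_lit 7, nat_lit 3, nat_lit 7, nat_lit 8, nat_lit 2, nat_lit 3, nat_lit 7, nat_lit 4, nat_lit 3, nat_lit 7, nat_lit 4, nat_lit 3, nat_lit 2, nat_lit 8, nat_lit 3, nat_lit 7, nat_lit 2, nat_lit 3, nat_lit 2, nat_lit 4])))))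
 (TT.n (TT.n (TT.n (TT.n (TT.l (Ty.rel3 (nat_lit 5) (nat_lit 7) (nat_lit 5)))
 (TT.l (Ty.srel [nat_lit 3, nat_lit 4, nat_lit 7, nat_lit 3, nat_lit 2, nat_lit 8, nat_lit 7, nat_lit 3, nat_lit 7, nat_lit 2, nat_lit 3, nat_lit 7, nat_lit 4, nat_lit 2, nat_lit 3, nat_lit 7, nat_lit 4, nat_lit 2, nat_lit 3, nat_lit 2, nat_lit 7, nat_lit 3, nat_lit 8, nat_lit 2, nat_lit 3, nat_lit 4])))
 (TT.l (Ty.relL (nat_lit 4) [nat_lit 3, nat_lit 2, nat_lit 8, nat_lit 3, nat_lit 7, nat_lit 2, nat_lit 3, nat_lit 2, nat_lit 4, nat_lit 7, nat_lit 3, nat_lit 2, nat_lit 4, nat_lit 7, nat_lit 3, nat_lit 2, nat_lit 7, nat_lit 3, nat_lit 7, nat_lit 8, nat_lit 2, nat_lit 3, nat_lit 7, nat_lit 4, nat_lit 3])))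
 (TT.n (TT.l (Ty.relL (nat_lit 4) [nat_lit 3, nat_lit 7, nat_lit 4, nat_lit 3, nat_lit 2, nat_lit 8, nat_lit 3, nat_lit 7, nat_lit 2, nat_lit 3, nat_lit 2, nat_lit 4, nat_lit 7, nat_lit 3, nat_lit 2, nat_lit 4, nat_lit 7, nat_lit 3, nat_lit 2, nat_lit 7, nat_lit 3, nat_lit 7, nat_lit 8, nat_lit 2, nat_lit 3]))
 (TT.l (Ty.relL (nat_lit 8) [nat_lit 5, nat_lit 6, nat_lit 2, nat_lit 0, nat_lit 8, nat_lit 2, nat_lit 6, nat_lit 5, nat_lit 8, nat_lit 0, nat_lit 5, nat_lit 6, nat_lit 2, nat_lit 8, nat_lit 0, nat_lit 2, nat_lit 6, nat_lit 5, nat_lit 0]))))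
 (TT.n (TT.n (TT.n (TT.l (Ty.rel3 (nat_lit 4) (nat_lit 7) (nat_lit 4)))
 (TT.l (Ty.relL (nat_lit 3) [nat_lit 4, nat_lit 7, nat_lit 3, nat_lit 2, nat_lit 8, nat_lit 7, nat_lit 3, nat_lit 7, nat_lit 2, nat_lit 3, nat_lit 7, nat_lit 4, nat_lit 2, nat_lit 3, nat_lit 7, nat_lit 4, nat_lit 2, nat_lit 3, nat_lit 2, nat_lit 7, nat_lit 3, nat_lit 8, nat_lit 2, nat_lit 3, nat_lit 4])))
 (TT.l (Ty.srel [nat_lit 3, nat_lit 1, nat_lit 3, nat_lit 7, nat_lit 6, nat_lit 3, nat_lit 1, nat_lit 0, nat_lit 3])))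
 (TT.n (TT.l (Ty.srel [nat_lit 8, nat_lit 5, nat_lit 6, nat_lit 2, nat_lit 0, nat_lit 8, nat_lit 2, nat_lit 6, nat_lit 5, nat_lit 8, nat_lit 0, nat_lit 5, nat_lit 6, nat_lit 2, nat_lit 8, nat_lit 0, nat_lit 2, nat_lit 6, nat_lit 5, nat_lit 0]))
 (TT.l (Ty.relL (nat_lit 3) [nat_lit 7, nat_lit 2, nat_lit 3, nat_lit 7, nat_lit 4, nat_lit 2, nat_lit 3, nat_lit 7, nat_lit 4, nat_lit 2, nat_lit 3, nat_lit 2, nat_lit 7, nat_lit 3, nat_lit 8, nat_lit 2, nat_lit 3, nat_lit 4, nat_lit 7, nat_lit 3, nat_lit 4, nat_lit 7, nat_lit 3, nat_lit 2, nat_lit 8]))))))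
 (TT.n (TT.n (TT.n (TT.n (TT.n (TT.l (Ty.rel3 (nat_lit 2) (nat_lit 7) (nat_lit 2)))
 (TT.l (Ty.srel [nat_lit 4, nat_lit 2, nat_lit 3, nat_lit 2, nat_lit 7, nat_lit 3, nat_lit 8, nat_lit 2, nat_lit 3, nat_lit 4, nat_lit 7, nat_lit 3, nat_lit 4, nat_lit 7, nat_lit 3, nat_lit 2, nat_lit 8, nat_lit 7, nat_lit 3, nat_lit 7, nat_lit 2, nat_lit 3, nat_lit 7, nat_lit 4, nat_lit 2, nat_lit 3])))
 (TT.l (Ty.srel [nat_lit 3, nat_lit 7, nat_lit 5, nat_lit 3, nat_lit 7, nat_lit 6, nat_lit 5, nat_lit 0, nat_lit 3, nat_lit 5, nat_lit 6, nat_lit 7, nat_lit 3, nat_lit 5, nat_lit 0])))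
 (TT.n (TT.l (Ty.srel [nat_lit 8, nat_lit 7, nat_lit 8]))
 (TT.l (Ty.relL (nat_lit 0) [nat_lit 5, nat_lit 3, nat_lit 7, nat_lit 6, nat_lit 5, nat_lit 3, nat_lit 0, nat_lit 5, nat_lit 6, nat_lit 7, nat_lit 3, nat_lit 5, nat_lit 7, nat_lit 3]))))
 (TT.n (TT.n (TT.n (TT.l (Ty.relL (nat_lit 3) [nat_lit 1, nat_lit 3, nat_lit 7, nat_lit 3, nat_lit 0, nat_lit 1, nat_lit 3, nat_lit 6]))
 (TT.l (Ty.relL (nat_lit 0) [nat_lit 5, nat_lit 6, nat_lit 2, nat_lit 0, nat_lit 8, nat_lit 2, nat_lit 6, nat_lit 5, nat_lit 0, nat_lit 8, nat_lit 5, nat_lit 6, nat_lit 2, nat_lit 8, nat_lit 0, nat_lit 2, nat_lit 6, nat_lit 5, nat_lit 8])))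
 (TT.l (Ty.relL (nat_lit 3) [nat_lit 7, nat_lit 0, nat_lit 5, nat_lit 3, nat_lit 7, nat_lit 6, nat_lit 5, nat_lit 3, nat_lit 0, nat_lit 5, nat_lit 6, nat_lit 7, nat_lit 3, nat_lit 5])))
 (TT.n (TT.l (Ty.srel [nat_lit 6, nat_lit 7, nat_lit 6]))
 (TT.l (Ty.relL (nat_lit 4) [nat_lit 2, nat_lit 3, nat_lit 2, nat_lit 7, nat_lit 3, nat_lit 8, nat_lit 2, nat_lit 3, nat_lit 4, nat_lit 7, nat_lit 3, nat_lit 4, nat_lit 7, nat_lit 3, nat_lit 2, nat_lit 8, nat_lit 7, nat_lit 3, nat_lit 7, nat_lit 2, nat_lit 3, nat_lit 7, nat_lit 4, nat_lit 2, nat_lit 3])))))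
 (TT.n (TT.n (TT.n (TT.n (TT.l (Ty.rel1 (nat_lit 7)))
 (TT.l (Ty.relL (nat_lit 3) [nat_lit 2, nat_lit 8, nat_lit 7, nat_lit 3, nat_lit 7, nat_lit 2, nat_lit 3, nat_lit 7, nat_lit 4, nat_lit 2, nat_lit 3, nat_lit 7, nat_lit 4, nat_lit 2, nat_lit 3, nat_lit 2, nat_lit 7, nat_lit 3, nat_lit 8, nat_lit 2, nat_lit 3, nat_lit 4, nat_lit 7, nat_lit 3, nat_lit 4])))
 (TT.l (Ty.relL (nat_lit 6) [nat_lit 5, nat_lit 0, nat_lit 3, nat_lit 5, nat_lit 6, nat_lit 7, nat_lit 3, nat_lit 5, nat_lit 0, nat_lit 7, nat_lit 3, nat_lit 7, nat_lit 5, nat_lit 3])))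
 (TT.n (TT.l (Ty.srel [nat_lit 4, nat_lit 7, nat_lit 4]))
 (TT.l (Ty.relL (nat_lit 3) [nat_lit 5, nat_lit 7, nat_lit 3, nat_lit 7, nat_lit 0, nat_lit 5, nat_lit 3, nat_lit 7, nat_lit 6, nat_lit 5, nat_lit 3, nat_lit 0, nat_lit 5, nat_lit 6]))))
 (TT.n (TT.n (TT.n (TT.l (Ty.relL (nat_lit 3) [nat_lit 1, nat_lit 3, nat_lit 7, nat_lit 6, nat_lit 3, nat_lit 1, nat_lit 0, nat_lit 3]))
 (TT.l (Ty.skip)))
 (TT.l (Ty.relL (nat_lit 8) [nat_lit 2, nat_lit 3, nat_lit 7, nat_lit 4, nat_lit 3, nat_lit 7, nat_lit 4, nat_lit 3, nat_lit 2, nat_lit 8, nat_lit 3, nat_lit 7, nat_lit 2, nat_lit 3, nat_lit 2, nat_lit 4, nat_lit 7, nat_lit 3, nat_lit 2, nat_lit 4, nat_lit 7, nat_lit 3, nat_lit 2, nat_lit 7, nat_lit 3])))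
 (TT.n (TT.l (Ty.srel [nat_lit 3, nat_lit 7, nat_lit 3, nat_lit 7, nat_lit 3, nat_lit 7, nat_lit 3]))
 (TT.l (Ty.srel [nat_lit 3, nat_lit 5, nat_lit 7, nat_lit 3, nat_lit 7, nat_lit 0, nat_lit 5, nat_lit 3, nat_lit 7, nat_lit 6, nat_lit 5, nat_lit 3, nat_lit 0, nat_lit 5, nat_lit 6])))))))
 (TT.n (TT.n (TT.n (TT.n (TT.n (TT.n (TT.l (Ty.rel3 (nat_lit 8) (nat_lit 7) (nat_lit 8)))
 (TT.l (Ty.srel [nat_lit 3, nat_lit 7, nat_lit 8, nat_lit 2, nat_lit 3, nat_lit 7, nat_lit 4, nat_lit 3, nat_lit 7, nat_lit 4, nat_lit 3, nat_lit 2, nat_lit 8, nat_lit 3, nat_lit 7, nat_lit 2, nat_lit 3, nat_lit 2, nat_lit 4, nat_lit 7, nat_lit 3, nat_lit 2, nat_lit 4, nat_lit 7, nat_lit 3, nat_lit 2])))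
 (TT.l (Ty.srel [nat_lit 0, nat_lit 7, nat_lit 0])))
 (TT.n (TT.l (Ty.srel [nat_lit 8, nat_lit 2, nat_lit 3, nat_lit 7, nat_lit 4, nat_lit 3, nat_lit 7, nat_lit 4, nat_lit 3, nat_lit 2, nat_lit 8, nat_lit 3, nat_lit 7, nat_lit 2, nat_lit 3, nat_lit 2, nat_lit 4, nat_lit 7, nat_lit 3, nat_lit 2, nat_lit 4, nat_lit 7, nat_lit 3, nat_lit 2, nat_lit 7, nat_lit 3]))
 (TT.l (Ty.relL (nat_lit 3) [nat_lit 7, nat_lit 5, nat_lit 3, nat_lit 7, nat_lit 6, nat_lit 5, nat_lit 0, nat_lit 3, nat_lit 5, nat_lit 6, nat_lit 7, nat_lit 3, nat_lit 5, nat_lit 0]))))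
 (TT.n (TT.n (TT.n (TT.l (Ty.relL (nat_lit 3) [nat_lit 7, nat_lit 3, nat_lit 7, nat_lit 3, nat_lit 7, nat_lit 3]))
 (TT.l (Ty.srel [nat_lit 3, nat_lit 2, nat_lit 8, nat_lit 7, nat_lit 3, nat_lit 7, nat_lit 2, nat_lit 3, nat_lit 7, nat_lit 4, nat_lit 2, nat_lit 3, nat_lit 7, nat_lit 4, nat_lit 2, nat_lit 3, nat_lit 2, nat_lit 7, nat_lit 3, nat_lit 8, nat_lit 2, nat_lit 3, nat_lit 4, nat_lit 7, nat_lit 3, nat_lit 4])))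
 (TT.l (Ty.relL (nat_lit 5) [nat_lit 3, nat_lit 7, nat_lit 6, nat_lit 5, nat_lit 0, nat_lit 3, nat_lit 5, nat_lit 6, nat_lit 7, nat_lit 3, nat_lit 5, nat_lit 0, nat_lit 7, nat_lit 3])))
 (TT.n (TT.l (Ty.srel [nat_lit 5, nat_lit 3, nat_lit 7, nat_lit 6, nat_lit 5, nat_lit 0, nat_lit 3, nat_lit 5, nat_lit 6, nat_lit 7, nat_lit 3, nat_lit 5, nat_lit 0, nat_lit 7, nat_lit 3]))
 (TT.l (Ty.srel [nat_lit 4, nat_lit 3, nat_lit 7, nat_lit 4, nat_lit 3, nat_lit 2, nat_lit 8, nat_lit 3, nat_lit 7, nat_lit 2, nat_lit 3, nat_lit 2, nat_lit 4, nat_lit 7, nat_lit 3, nat_lit 2, nat_lit 4, nat_lit 7, nat_lit 3, nat_lit 2, nat_lit 7, nat_lit 3, nat_lit 7, nat_lit 8, nat_lit 2, nat_lit 3])))))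
 (TT.n (TT.n (TT.n (TT.n (TT.l (Ty.rel3 (nat_lit 0) (nat_lit 7) (nat_lit 0)))
 (TT.l (Ty.srel [nat_lit 4, nat_lit 2, nat_lit 3, nat_lit 7, nat_lit 4, nat_lit 2, nat_lit 3, nat_lit 2, nat_lit 7, nat_lit 3, nat_lit 8, nat_lit 2, nat_lit 3, nat_lit 4, nat_lit 7, nat_lit 3, nat_lit 4, nat_lit 7, nat_lit 3, nat_lit 2, nat_lit 8, nat_lit 7, nat_lit 3, nat_lit 7, nat_lit 2, nat_lit 3])))
 (TT.l (Ty.relL (nat_lit 3) [nat_lit 2, nat_lit 4, nat_lit 7, nat_lit 3, nat_lit 2, nat_lit 7, nat_lit 3, nat_lit 7, nat_lit 8, nat_lit 2, nat_lit 3, nat_lit 7, nat_lit 4, nat_lit 3, nat_lit 7, nat_lit 4, nat_lit 3, nat_lit 2, nat_lit 8, nat_lit 3, nat_lit 7, nat_lit 2, nat_lit 3, nat_lit 2, nat_lit 4])))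
 (TT.n (TT.l (Ty.srel [nat_lit 4, nat_lit 3, nat_lit 2, nat_lit 8, nat_lit 3, nat_lit 7, nat_lit 2, nat_lit 3, nat_lit 2, nat_lit 4, nat_lit 7, nat_lit 3, nat_lit 2, nat_lit 4, nat_lit 7, nat_lit 3, nat_lit 2, nat_lit 7, nat_lit 3, nat_lit 7, nat_lit 8, nat_lit 2, nat_lit 3, nat_lit 7, nat_lit 4, nat_lit 3]))
 (TT.l (Ty.relL (nat_lit 2) [nat_lit 3, nat_lit 7, nat_lit 4, nat_lit 2, nat_lit 3, nat_lit 7, nat_lit 4, nat_lit 2, nat_lit 3, nat_lit 2, nat_lit 7, nat_lit 3, nat_lit 8, nat_lit 2, nat_lit 3, nat_lit 4, nat_lit 7, nat_lit 3, nat_lit 4, nat_lit 7, nat_lit 3, nat_lit 2, nat_lit 8, nat_lit 7, nat_lit 3]))))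
 (TT.n (TT.n (TT.n (TT.l (Ty.srel [nat_lit 2, nat_lit 7, nat_lit 2]))
 (TT.l (Ty.srel [nat_lit 3, nat_lit 2, nat_lit 4, nat_lit 5, nat_lit 3, nat_lit 4, nat_lit 7, nat_lit 3, nat_lit 2, nat_lit 4, nat_lit 5, nat_lit 3, nat_lit 4, nat_lit 7, nat_lit 3, nat_lit 2, nat_lit 4, nat_lit 5, nat_lit 3, nat_lit 4, nat_lit 7, nat_lit 3, nat_lit 2, nat_lit 4, nat_lit 5, nat_lit 3, nat_lit 4, nat_lit 7, nat_lit 3, nat_lit 2, nat_lit 4, nat_lit 5, nat_lit 3, nat_lit 4])))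
 (TT.l (Ty.relL (nat_lit 6) [nat_lit 5, nat_lit 3, nat_lit 0, nat_lit 5, nat_lit 6, nat_lit 7, nat_lit 3, nat_lit 5, nat_lit 7, nat_lit 3, nat_lit 7, nat_lit 0, nat_lit 5, nat_lit 3])))
 (TT.n (TT.l (Ty.srel [nat_lit 0, nat_lit 5, nat_lit 6, nat_lit 2, nat_lit 0, nat_lit 8, nat_lit 2, nat_lit 6, nat_lit 5, nat_lit 0, nat_lit 8, nat_lit 5, nat_lit 6, nat_lit 2, nat_lit 8, nat_lit 0, nat_lit 2, nat_lit 6, nat_lit 5, nat_lit 8]))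
 (TT.l (Ty.srel [nat_lit 3, nat_lit 2, nat_lit 7, nat_lit 3, nat_lit 7, nat_lit 8, nat_lit 2, nat_lit 3, nat_lit 7, nat_lit 4, nat_lit 3, nat_lit 7, nat_lit 4, nat_lit 3, nat_lit 2, nat_lit 8, nat_lit 3, nat_lit 7, nat_lit 2, nat_lit 3, nat_lit 2, nat_lit 4, nat_lit 7, nat_lit 3, nat_lit 2, nat_lit 4]))))))
 (TT.n (TT.n (TT.n (TT.n (TT.n (TT.l (Ty.srel [nat_lit 7]))
 (TT.l (Ty.relL (nat_lit 4) [nat_lit 2, nat_lit 3, nat_lit 7, nat_lit 4, nat_lit 2, nat_lit 3, nat_lit 2, nat_lit 7, nat_lit 3, nat_lit 8, nat_lit 2, nat_lit 3, nat_lit 4, nat_lit 7, nat_lit 3, nat_lit 4, nat_lit 7, nat_lit 3, nat_lit 2, nat_lit 8, nat_lit 7, nat_lit 3, nat_lit 7, nat_lit 2, nat_lit 3])))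
 (TT.l (Ty.srel [nat_lit 3, nat_lit 7, nat_lit 0, nat_lit 5, nat_lit 3, nat_lit 7, nat_lit 6, nat_lit 5, nat_lit 3, nat_lit 0, nat_lit 5, nat_lit 6, nat_lit 7, nat_lit 3, nat_lit 5])))
 (TT.n (TT.l (Ty.srel [nat_lit 3, nat_lit 1, nat_lit 3, nat_lit 7, nat_lit 3, nat_lit 0, nat_lit 1, nat_lit 3, nat_lit 6]))
 (TT.l (Ty.relL (nat_lit 3) [nat_lit 2, nat_lit 7, nat_lit 3, nat_lit 7, nat_lit 8, nat_lit 2, nat_lit 3, nat_lit 7, nat_lit 4, nat_lit 3, nat_lit 7, nat_lit 4, nat_lit 3, nat_lit 2, nat_lit 8, nat_lit 3, nat_lit 7, nat_lit 2, nat_lit 3, nat_lit 2, nat_lit 4, nat_lit 7, nat_lit 3, nat_lit 2, nat_lit 4]))))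
 (TT.n (TT.n (TT.n (TT.l (Ty.rel3 (nat_lit 6) (nat_lit 7) (nat_lit 6)))
 (TT.l (Ty.relL (nat_lit 3) [nat_lit 8, nat_lit 2, nat_lit 3, nat_lit 4, nat_lit 7, nat_lit 3, nat_lit 4, nat_lit 7, nat_lit 3, nat_lit 2, nat_lit 8, nat_lit 7, nat_lit 3, nat_lit 7, nat_lit 2, nat_lit 3, nat_lit 7, nat_lit 4, nat_lit 2, nat_lit 3, nat_lit 7, nat_lit 4, nat_lit 2, nat_lit 3, nat_lit 2])))
 (TT.l (Ty.srel [nat_lit 0, nat_lit 5, nat_lit 3, nat_lit 7, nat_lit 6, nat_lit 5, nat_lit 3, nat_lit 0, nat_lit 5, nat_lit 6, nat_lit 7, nat_lit 3, nat_lit 5, nat_lit 7, nat_lit 3])))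
 (TT.n (TT.l (Ty.srel [nat_lit 3, nat_lit 0, nat_lit 1, nat_lit 3, nat_lit 6, nat_lit 7, nat_lit 3, nat_lit 1, nat_lit 3]))
 (TT.l (Ty.srel [nat_lit 4, nat_lit 3, nat_lit 5, nat_lit 4, nat_lit 2, nat_lit 3, nat_lit 7, nat_lit 4, nat_lit 3, nat_lit 5, nat_lit 4, nat_lit 2, nat_lit 3, nat_lit 7, nat_lit 4, nat_lit 3, nat_lit 5, nat_lit 4, nat_lit 2, nat_lit 3, nat_lit 7, nat_lit 4, nat_lit 3, nat_lit 5, nat_lit 4, nat_lit 2, nat_lit 3, nat_lit 7, nat_lit 4, nat_lit 3, nat_lit 5, nat_lit 4, nat_lit 2, nat_lit 3])))))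
 (TT.n (TT.n (TT.n (TT.n (TT.l (Ty.dfn))
 (TT.l (Ty.relL (nat_lit 4) [nat_lit 3, nat_lit 5, nat_lit 4, nat_lit 2, nat_lit 3, nat_lit 7, nat_lit 4, nat_lit 3, nat_lit 5, nat_lit 4, nat_lit 2, nat_lit 3, nat_lit 7, nat_lit 4, nat_lit 3, nat_lit 5, nat_lit 4, nat_lit 2, nat_lit 3, nat_lit 7, nat_lit 4, nat_lit 3, nat_lit 5, nat_lit 4, nat_lit 2, nat_lit 3, nat_lit 7, nat_lit 4, nat_lit 3, nat_lit 5, nat_lit 4, nat_lit 2, nat_lit 3])))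
 (TT.l (Ty.srel [nat_lit 6, nat_lit 3, nat_lit 1, nat_lit 0, nat_lit 3, nat_lit 7, nat_lit 3, nat_lit 1, nat_lit 3])))
 (TT.n (TT.l (Ty.srel [nat_lit 2, nat_lit 3, nat_lit 2, nat_lit 4, nat_lit 7, nat_lit 3, nat_lit 2, nat_lit 4, nat_lit 7, nat_lit 3, nat_lit 2, nat_lit 7, nat_lit 3, nat_lit 7, nat_lit 8, nat_lit 2, nat_lit 3, nat_lit 7, nat_lit 4, nat_lit 3, nat_lit 7, nat_lit 4, nat_lit 3, nat_lit 2, nat_lit 8, nat_lit 3]))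
 (TT.l (Ty.relL (nat_lit 3) [nat_lit 2, nat_lit 4, nat_lit 5, nat_lit 3, nat_lit 4, nat_lit 7, nat_lit 3, nat_lit 2, nat_lit 4, nat_lit 5, nat_lit 3, nat_lit 4, nat_lit 7, nat_lit 3, nat_lit 2, nat_lit 4, nat_lit 5, nat_lit 3, nat_lit 4, nat_lit 7, nat_lit 3, nat_lit 2, nat_lit 4, nat_lit 5, nat_lit 3, nat_lit 4, nat_lit 7, nat_lit 3, nat_lit 2, nat_lit 4, nat_lit 5, nat_lit 3, nat_lit 4]))))
 (TT.n (TT.n (TT.l (Ty.relL (nat_lit 3) [nat_lit 0, nat_lit 1, nat_lit 3, nat_lit 6, nat_lit 7, nat_lit 3, nat_lit 1, nat_lit 3]))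
 (TT.l (Ty.srel [nat_lit 6, nat_lit 5, nat_lit 0, nat_lit 3, nat_lit 5, nat_lit 6, nat_lit 7, nat_lit 3, nat_lit 5, nat_lit 0, nat_lit 7, nat_lit 3, nat_lit 7, nat_lit 5, nat_lit 3])))
 (TT.n (TT.l (Ty.srel [nat_lit 1, nat_lit 7, nat_lit 1]))
 (TT.l (Ty.srel [nat_lit 3, nat_lit 8, nat_lit 2, nat_lit 3, nat_lit 4, nat_lit 7, nat_lit 3, nat_lit 4, nat_lit 7, nat_lit 3, nat_lit 2, nat_lit 8, nat_lit 7, nat_lit 3, nat_lit 7, nat_lit 2, nat_lit 3, nat_lit 7, nat_lit 4, nat_lit 2, nat_lit 3, nat_lit 7, nat_lit 4, nat_lit 2, nat_lit 3, nat_lit 2]))))))))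
noncomputable def ty8 : TT := (TT.n (TT.n (TT.n (TT.n (TT.n (TT.n (TT.n (TT.l (Ty.rel1 (nat_lit 8)))
 (TT.l (Ty.relL (nat_lit 2) [nat_lit 3, nat_lit 4, nat_lit 7, nat_lit 3, nat_lit 4, nat_lit 7, nat_lit 3, nat_lit 2, nat_lit 8, nat_lit 7, nat_lit 3, nat_lit 7, nat_lit 2, nat_lit 3, nat_lit 7, nat_lit 4, nat_lit 2, nat_lit 3, nat_lit 7, nat_lit 4, nat_lit 2, nat_lit 3, nat_lit 2, nat_lit 7, nat_lit 3])))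
 (TT.l (Ty.srel [nat_lit 3, nat_lit 1, nat_lit 3, nat_lit 8, nat_lit 3, nat_lit 1, nat_lit 3, nat_lit 1])))
 (TT.n (TT.l (Ty.srel [nat_lit 7, nat_lit 8, nat_lit 7]))
 (TT.l (Ty.srel [nat_lit 5, nat_lit 6, nat_lit 2, nat_lit 8, nat_lit 0, nat_lit 2, nat_lit 6, nat_lit 5, nat_lit 8, nat_lit 7, nat_lit 0, nat_lit 5, nat_lit 6, nat_lit 2, nat_lit 0, nat_lit 8, nat_lit 2, nat_lit 6, nat_lit 5, nat_lit 0]))))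
 (TT.n (TT.n (TT.l (Ty.rel3 (nat_lit 4) (nat_lit 8) (nat_lit 4)))
 (TT.l (Ty.srel [nat_lit 2, nat_lit 3, nat_lit 8, nat_lit 4, nat_lit 3, nat_lit 2, nat_lit 8, nat_lit 2, nat_lit 3, nat_lit 2, nat_lit 4, nat_lit 3, nat_lit 2])))
 (TT.n (TT.l (Ty.srel [nat_lit 3, nat_lit 8, nat_lit 3, nat_lit 8, nat_lit 3]))
 (TT.l (Ty.relL (nat_lit 3) [nat_lit 7, nat_lit 2, nat_lit 3, nat_lit 2, nat_lit 4, nat_lit 7, nat_lit 3, nat_lit 2, nat_lit 4, nat_lit 7, nat_lit 3, nat_lit 2, nat_lit 7, nat_lit 3, nat_lit 7, nat_lit 8, nat_lit 2, nat_lit 3, nat_lit 7, nat_lit 4, nat_lit 3, nat_lit 7, nat_lit 4, nat_lit 3, nat_lit 2])))))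
 (TT.n (TT.n (TT.n (TT.n (TT.l (Ty.rel5 (nat_lit 5) (nat_lit 8) (nat_lit 5) (nat_lit 8) (nat_lit 5)))
 (TT.l (Ty.srel [nat_lit 0, nat_lit 2, nat_lit 6, nat_lit 5, nat_lit 8, nat_lit 7, nat_lit 0, nat_lit 5, nat_lit 6, nat_lit 2, nat_lit 0, nat_lit 8, nat_lit 2, nat_lit 6, nat_lit 5, nat_lit 0, nat_lit 8, nat_lit 5, nat_lit 6, nat_lit 2])))
 (TT.l (Ty.relL (nat_lit 2) [nat_lit 3, nat_lit 2, nat_lit 4, nat_lit 3, nat_lit 2, nat_lit 8, nat_lit 2, nat_lit 3, nat_lit 8, nat_lit 4, nat_lit 3, nat_lit 2])))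
 (TT.n (TT.l (Ty.relL (nat_lit 3) [nat_lit 1, nat_lit 3, nat_lit 8, nat_lit 3, nat_lit 1, nat_lit 3, nat_lit 1]))
 (TT.l (Ty.relL (nat_lit 2) [nat_lit 3, nat_lit 7, nat_lit 4, nat_lit 3, nat_lit 7, nat_lit 4, nat_lit 3, nat_lit 2, nat_lit 8, nat_lit 3, nat_lit 7, nat_lit 2, nat_lit 3, nat_lit 2, nat_lit 4, nat_lit 7, nat_lit 3, nat_lit 2, nat_lit 4, nat_lit 7, nat_lit 3, nat_lit 2, nat_lit 7, nat_lit 3, nat_lit 7]))))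
 (TT.n (TT.n (TT.l (Ty.srel [nat_lit 1, nat_lit 8, nat_lit 1]))
 (TT.l (Ty.srel [nat_lit 4, nat_lit 3, nat_lit 2, nat_lit 8, nat_lit 2, nat_lit 3, nat_lit 2, nat_lit 4, nat_lit 3, nat_lit 2, nat_lit 8, nat_lit 2, nat_lit 3])))
 (TT.n (TT.l (Ty.srel [nat_lit 2, nat_lit 6, nat_lit 2, nat_lit 6, nat_lit 8, nat_lit 2, nat_lit 6, nat_lit 2]))
 (TT.l (Ty.relL (nat_lit 2) [nat_lit 6, nat_lit 5, nat_lit 0, nat_lit 8, nat_lit 5, nat_lit 6, nat_lit 2, nat_lit 8, nat_lit 0, nat_lit 2, nat_lit 6, nat_lit 5, nat_lit 8, nat_lit 7, nat_lit 0, nat_lit 5, nat_lit 6, nat_lit 2, nat_lit 0]))))))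
 (TT.n (TT.n (TT.n (TT.n (TT.n (TT.l (Ty.rel5 (nat_lit 2) (nat_lit 8) (nat_lit 2) (nat_lit 8) (nat_lit 2)))
 (TT.l (Ty.srel [nat_lit 2, nat_lit 6, nat_lit 5, nat_lit 0, nat_lit 8, nat_lit 5, nat_lit 6, nat_lit 2, nat_lit 8, nat_lit 0, nat_lit 2, nat_lit 6, nat_lit 5, nat_lit 8, nat_lit 7, nat_lit 0, nat_lit 5, nat_lit 6, nat_lit 2, nat_lit 0])))
 (TT.l (Ty.relL (nat_lit 2) [nat_lit 6, nat_lit 2, nat_lit 8, nat_lit 6, nat_lit 2, nat_lit 6, nat_lit 2])))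
 (TT.n (TT.l (Ty.srel [nat_lit 2, nat_lit 3, nat_lit 2, nat_lit 4, nat_lit 3, nat_lit 2, nat_lit 8, nat_lit 2, nat_lit 3, nat_lit 8, nat_lit 4, nat_lit 3, nat_lit 2]))
 (TT.l (Ty.relL (nat_lit 5) [nat_lit 6, nat_lit 2, nat_lit 0, nat_lit 8, nat_lit 2, nat_lit 6, nat_lit 5, nat_lit 8, nat_lit 0, nat_lit 5, nat_lit 6, nat_lit 2, nat_lit 8, nat_lit 0, nat_lit 2, nat_lit 6, nat_lit 5, nat_lit 0, nat_lit 7]))))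
 (TT.n (TT.n (TT.l (Ty.rel3 (nat_lit 1) (nat_lit 8) (nat_lit 1)))
 (TT.l (Ty.srel [nat_lit 0, nat_lit 5, nat_lit 6, nat_lit 2, nat_lit 8, nat_lit 0, nat_lit 2, nat_lit 6, nat_lit 5, nat_lit 0, nat_lit 7, nat_lit 8, nat_lit 5, nat_lit 6, nat_lit 2, nat_lit 0, nat_lit 8, nat_lit 2, nat_lit 6, nat_lit 5])))
 (TT.n (TT.l (Ty.relL (nat_lit 2) [nat_lit 3, nat_lit 4, nat_lit 2, nat_lit 3, nat_lit 2, nat_lit 8, nat_lit 2, nat_lit 3, nat_lit 4, nat_lit 8, nat_lit 3, nat_lit 2]))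
 (TT.l (Ty.relL (nat_lit 0) [nat_lit 2, nat_lit 6, nat_lit 5, nat_lit 0, nat_lit 7, nat_lit 8, nat_lit 5, nat_lit 6, nat_lit 2, nat_lit 0, nat_lit 8, nat_lit 2, nat_lit 6, nat_lit 5, nat_lit 8, nat_lit 0, nat_lit 5, nat_lit 6, nat_lit 2])))))
 (TT.n (TT.n (TT.n (TT.l (Ty.srel [nat_lit 2, nat_lit 6, nat_lit 2, nat_lit 8, nat_lit 2, nat_lit 6, nat_lit 2, nat_lit 6]))
 (TT.l (Ty.srel [nat_lit 3, nat_lit 1, nat_lit 3, nat_lit 1, nat_lit 8, nat_lit 3, nat_lit 1, nat_lit 3])))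
 (TT.n (TT.l (Ty.relL (nat_lit 2) [nat_lit 3, nat_lit 8, nat_lit 4, nat_lit 3, nat_lit 2, nat_lit 8, nat_lit 2, nat_lit 3, nat_lit 2, nat_lit 4, nat_lit 3, nat_lit 2]))
 (TT.l (Ty.relL (nat_lit 5) [nat_lit 6, nat_lit 2, nat_lit 8, nat_lit 0, nat_lit 2, nat_lit 6, nat_lit 5, nat_lit 8, nat_lit 7, nat_lit 0, nat_lit 5, nat_lit 6, nat_lit 2, nat_lit 0, nat_lit 8, nat_lit 2, nat_lit 6, nat_lit 5, nat_lit 0]))))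
 (TT.n (TT.n (TT.l (Ty.srel [nat_lit 4, nat_lit 8, nat_lit 4]))
 (TT.l (Ty.srel [nat_lit 3, nat_lit 7, nat_lit 2, nat_lit 3, nat_lit 2, nat_lit 4, nat_lit 7, nat_lit 3, nat_lit 2, nat_lit 4, nat_lit 7, nat_lit 3, nat_lit 2, nat_lit 7, nat_lit 3, nat_lit 7, nat_lit 8, nat_lit 2, nat_lit 3, nat_lit 7, nat_lit 4, nat_lit 3, nat_lit 7, nat_lit 4, nat_lit 3, nat_lit 2])))
 (TT.n (TT.l (Ty.relL (nat_lit 6) [nat_lit 2, nat_lit 6, nat_lit 2, nat_lit 8, nat_lit 2, nat_lit 6, nat_lit 2]))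
 (TT.l (Ty.srel [nat_lit 0, nat_lit 2, nat_lit 6, nat_lit 5, nat_lit 0, nat_lit 7, nat_lit 8, nat_lit 5, nat_lit 6, nat_lit 2, nat_lit 0, nat_lit 8, nat_lit 2, nat_lit 6, nat_lit 5, nat_lit 8, nat_lit 0, nat_lit 5, nat_lit 6, nat_lit 2])))))))
 (TT.n (TT.n (TT.n (TT.n (TT.n (TT.n (TT.l (Ty.dfn))
 (TT.l (Ty.srel [nat_lit 7, nat_lit 3, nat_lit 7, nat_lit 2, nat_lit 3, nat_lit 7, nat_lit 4, nat_lit 2, nat_lit 3, nat_lit 7, nat_lit 4, nat_lit 2, nat_lit 3, nat_lit 2, nat_lit 7, nat_lit 3, nat_lit 8, nat_lit 2, nat_lit 3, nat_lit 4, nat_lit 7, nat_lit 3, nat_lit 4, nat_lit 7, nat_lit 3, nat_lit 2])))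
 (TT.l (Ty.relL (nat_lit 2) [nat_lit 6, nat_lit 2, nat_lit 6, nat_lit 8, nat_lit 2, nat_lit 6, nat_lit 2])))
 (TT.n (TT.l (Ty.rel3 (nat_lit 6) (nat_lit 8) (nat_lit 6)))
 (TT.l (Ty.relL (nat_lit 7) [nat_lit 0, nat_lit 5, nat_lit 6, nat_lit 2, nat_lit 0, nat_lit 8, nat_lit 2, nat_lit 6, nat_lit 5, nat_lit 0, nat_lit 8, nat_lit 5, nat_lit 6, nat_lit 2, nat_lit 8, nat_lit 0, nat_lit 2, nat_lit 6, nat_lit 5]))))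
 (TT.n (TT.n (TT.l (Ty.srel [nat_lit 0, nat_lit 8, nat_lit 0]))
 (TT.l (Ty.srel [nat_lit 2, nat_lit 3, nat_lit 4, nat_lit 8, nat_lit 3, nat_lit 2, nat_lit 8, nat_lit 2, nat_lit 3, nat_lit 4, nat_lit 2, nat_lit 3, nat_lit 2])))
 (TT.n (TT.l (Ty.srel [nat_lit 2, nat_lit 8, nat_lit 2, nat_lit 8, nat_lit 2]))
 (TT.l (Ty.relL (nat_lit 2) [nat_lit 6, nat_lit 5, nat_lit 8, nat_lit 0, nat_lit 5, nat_lit 6, nat_lit 2, nat_lit 8, nat_lit 0, nat_lit 2, nat_lit 6, nat_lit 5, nat_lit 0, nat_lit 7, nat_lit 8, nat_lit 5, nat_lit 6, nat_lit 2, nat_lit 0])))))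
 (TT.n (TT.n (TT.n (TT.n (TT.l (Ty.rel3 (nat_lit 0) (nat_lit 8) (nat_lit 0)))
 (TT.l (Ty.skip)))
 (TT.l (Ty.srel [nat_lit 3, nat_lit 2, nat_lit 8, nat_lit 2, nat_lit 3, nat_lit 4, nat_lit 2, nat_lit 3, nat_lit 2, nat_lit 8, nat_lit 2, nat_lit 3, nat_lit 4])))
 (TT.n (TT.l (Ty.srel [nat_lit 3, nat_lit 1, nat_lit 3, nat_lit 8, nat_lit 1, nat_lit 3, nat_lit 1, nat_lit 3]))
 (TT.l (Ty.relL (nat_lit 0) [nat_lit 5, nat_lit 6, nat_lit 2, nat_lit 8, nat_lit 0, nat_lit 2, nat_lit 6, nat_lit 5, nat_lit 0, nat_lit 7, nat_lit 8, nat_lit 5, nat_lit 6, nat_lit 2, nat_lit 0, nat_lit 8, nat_lit 2, nat_lit 6, nat_lit 5]))))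
 (TT.n (TT.n (TT.l (Ty.rel3 (nat_lit 7) (nat_lit 8) (nat_lit 7)))
 (TT.l (Ty.srel [nat_lit 1, nat_lit 3, nat_lit 1, nat_lit 3, nat_lit 8, nat_lit 3, nat_lit 1, nat_lit 3])))
 (TT.n (TT.l (Ty.srel [nat_lit 5, nat_lit 8, nat_lit 5, nat_lit 8, nat_lit 5]))
 (TT.l (Ty.relL (nat_lit 0) [nat_lit 2, nat_lit 6, nat_lit 5, nat_lit 8, nat_lit 7, nat_lit 0, nat_lit 5, nat_lit 6, nat_lit 2, nat_lit 0, nat_lit 8, nat_lit 2, nat_lit 6, nat_lit 5, nat_lit 0, nat_lit 8, nat_lit 5, nat_lit 6, nat_lit 2]))))))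
 (TT.n (TT.n (TT.n (TT.n (TT.n (TT.l (Ty.rel5 (nat_lit 3) (nat_lit 8) (nat_lit 3) (nat_lit 8) (nat_lit 3)))
 (TT.l (Ty.srel [nat_lit 2, nat_lit 3, nat_lit 7, nat_lit 4, nat_lit 3, nat_lit 7, nat_lit 4, nat_lit 3, nat_lit 2, nat_lit 8, nat_lit 3, nat_lit 7, nat_lit 2, nat_lit 3, nat_lit 2, nat_lit 4, nat_lit 7, nat_lit 3, nat_lit 2, nat_lit 4, nat_lit 7, nat_lit 3, nat_lit 2, nat_lit 7, nat_lit 3, nat_lit 7])))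
 (TT.l (Ty.relL (nat_lit 3) [nat_lit 1, nat_lit 3, nat_lit 1, nat_lit 8, nat_lit 3, nat_lit 1, nat_lit 3])))
 (TT.n (TT.l (Ty.relL (nat_lit 2) [nat_lit 6, nat_lit 2, nat_lit 8, nat_lit 2, nat_lit 6, nat_lit 2, nat_lit 6]))
 (TT.l (Ty.srel [nat_lit 7, nat_lit 0, nat_lit 5, nat_lit 6, nat_lit 2, nat_lit 0, nat_lit 8, nat_lit 2, nat_lit 6, nat_lit 5, nat_lit 0, nat_lit 8, nat_lit 5, nat_lit 6, nat_lit 2, nat_lit 8, nat_lit 0, nat_lit 2, nat_lit 6, nat_lit 5]))))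
 (TT.n (TT.n (TT.l (Ty.relL (nat_lit 3) [nat_lit 2, nat_lit 8, nat_lit 2, nat_lit 3, nat_lit 4, nat_lit 2, nat_lit 3, nat_lit 2, nat_lit 8, nat_lit 2, nat_lit 3, nat_lit 4]))
 (TT.l (Ty.srel [nat_lit 5, nat_lit 6, nat_lit 2, nat_lit 0, nat_lit 8, nat_lit 2, nat_lit 6, nat_lit 5, nat_lit 8, nat_lit 0, nat_lit 5, nat_lit 6, nat_lit 2, nat_lit 8, nat_lit 0, nat_lit 2, nat_lit 6, nat_lit 5, nat_lit 0, nat_lit 7])))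
 (TT.n (TT.l (Ty.relL (nat_lit 3) [nat_lit 1, nat_lit 3, nat_lit 8, nat_lit 1, nat_lit 3, nat_lit 1, nat_lit 3]))
 (TT.l (Ty.srel [nat_lit 2, nat_lit 6, nat_lit 5, nat_lit 8, nat_lit 0, nat_lit 5, nat_lit 6, nat_lit 2, nat_lit 8, nat_lit 0, nat_lit 2, nat_lit 6, nat_lit 5, nat_lit 0, nat_lit 7, nat_lit 8, nat_lit 5, nat_lit 6, nat_lit 2, nat_lit 0])))))
 (TT.n (TT.n (TT.n (TT.l (Ty.srel [nat_lit 8]))
 (TT.l (Ty.srel [nat_lit 6, nat_lit 2, nat_lit 6, nat_lit 2, nat_lit 8, nat_lit 2, nat_lit 6, nat_lit 2])))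
 (TT.n (TT.l (Ty.relL (nat_lit 1) [nat_lit 3, nat_lit 1, nat_lit 3, nat_lit 8, nat_lit 3, nat_lit 1, nat_lit 3]))
 (TT.l (Ty.srel [nat_lit 2, nat_lit 3, nat_lit 4, nat_lit 7, nat_lit 3, nat_lit 4, nat_lit 7, nat_lit 3, nat_lit 2, nat_lit 8, nat_lit 7, nat_lit 3, nat_lit 7, nat_lit 2, nat_lit 3, nat_lit 7, nat_lit 4, nat_lit 2, nat_lit 3, nat_lit 7, nat_lit 4, nat_lit 2, nat_lit 3, nat_lit 2, nat_lit 7, nat_lit 3]))))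
 (TT.n (TT.n (TT.l (Ty.srel [nat_lit 6, nat_lit 8, nat_lit 6]))
 (TT.l (Ty.relL (nat_lit 2) [nat_lit 3, nat_lit 4, nat_lit 8, nat_lit 3, nat_lit 2, nat_lit 8, nat_lit 2, nat_lit 3, nat_lit 4, nat_lit 2, nat_lit 3, nat_lit 2])))
 (TT.n (TT.l (Ty.relL (nat_lit 4) [nat_lit 3, nat_lit 2, nat_lit 8, nat_lit 2, nat_lit 3, nat_lit 2, nat_lit 4, nat_lit 3, nat_lit 2, nat_lit 8, nat_lit 2, nat_lit 3]))
 (TT.l (Ty.relL (nat_lit 7) [nat_lit 3, nat_lit 7, nat_lit 2, nat_lit 3, nat_lit 7, nat_lit 4, nat_lit 2, nat_lit 3, nat_lit 7, nat_lit 4, nat_lit 2, nat_lit 3, nat_lit 2, nat_lit 7, nat_lit 3, nat_lit 8, nat_lit 2, nat_lit 3, nat_lit 4, nat_lit 7, nat_lit 3, nat_lit 4, nat_lit 7, nat_lit 3, nat_lit 2]))))))))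
noncomputable def ty9 : TT := (TT.n (TT.n (TT.n (TT.n (TT.n (TT.n (TT.n (TT.n (TT.n (TT.l (Ty.skip))
 (TT.l (Ty.relL (nat_lit 5) [nat_lit 2, nat_lit 6, nat_lit 2, nat_lit 5, nat_lit 6, nat_lit 5, nat_lit 2, nat_lit 6])))
 (TT.n (TT.l (Ty.srel [nat_lit 3, nat_lit 2, nat_lit 3, nat_lit 2, nat_lit 3, nat_lit 2]))
 (TT.l (Ty.srel [nat_lit 3, nat_lit 7, nat_lit 3, nat_lit 7, nat_lit 3, nat_lit 7, nat_lit 3, nat_lit 7]))))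
 (TT.n (TT.n (TT.l (Ty.relL (nat_lit 5) [nat_lit 0, nat_lit 3, nat_lit 5, nat_lit 6, nat_lit 7, nat_lit 3, nat_lit 5, nat_lit 0, nat_lit 7, nat_lit 3, nat_lit 7, nat_lit 5, nat_lit 3, nat_lit 7, nat_lit 6]))
 (TT.l (Ty.srel [nat_lit 3, nat_lit 2, nat_lit 6, nat_lit 2, nat_lit 3, nat_lit 5, nat_lit 6, nat_lit 1, nat_lit 2, nat_lit 3, nat_lit 1, nat_lit 3, nat_lit 1, nat_lit 2, nat_lit 1, nat_lit 6, nat_lit 5])))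
 (TT.n (TT.l (Ty.srel [nat_lit 2, nat_lit 6, nat_lit 2, nat_lit 3, nat_lit 5, nat_lit 6, nat_lit 1, nat_lit 2, nat_lit 1, nat_lit 3, nat_lit 1, nat_lit 3, nat_lit 2, nat_lit 1, nat_lit 6, nat_lit 5, nat_lit 3]))
 (TT.l (Ty.relL (nat_lit 7) [nat_lit 0, nat_lit 5, nat_lit 6, nat_lit 2, nat_lit 0, nat_lit 8, nat_lit 2, nat_lit 6, nat_lit 5, nat_lit 0, nat_lit 8, nat_lit 5, nat_lit 6, nat_lit 2, nat_lit 8, nat_lit 0, nat_lit 2, nat_lit 6, nat_lit 5, nat_lit 8])))))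
 (TT.n (TT.n (TT.n (TT.l (Ty.relL (nat_lit 3) [nat_lit 1, nat_lit 3, nat_lit 8, nat_lit 3, nat_lit 1, nat_lit 3, nat_lit 8, nat_lit 1]))
 (TT.l (Ty.relL (nat_lit 8) [nat_lit 2, nat_lit 3, nat_lit 2, nat_lit 4, nat_lit 3, nat_lit 2, nat_lit 8, nat_lit 2, nat_lit 3, nat_lit 8, nat_lit 4, nat_lit 3, nat_lit 2])))
 (TT.n (TT.l (Ty.srel [nat_lit 3, nat_lit 0, nat_lit 3, nat_lit 0]))
 (TT.l (Ty.relL (nat_lit 2) [nat_lit 3, nat_lit 1, nat_lit 3, nat_lit 1, nat_lit 2, nat_lit 1, nat_lit 6, nat_lit 5, nat_lit 3, nat_lit 2, nat_lit 6, nat_lit 2, nat_lit 3, nat_lit 5, nat_lit 6, nat_lit 1]))))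
 (TT.n (TT.n (TT.l (Ty.srel [nat_lit 8, nat_lit 0, nat_lit 2, nat_lit 6, nat_lit 5, nat_lit 8, nat_lit 7, nat_lit 0, nat_lit 5, nat_lit 6, nat_lit 2, nat_lit 0, nat_lit 8, nat_lit 2, nat_lit 6, nat_lit 5, nat_lit 0, nat_lit 8, nat_lit 5, nat_lit 6, nat_lit 2]))
 (TT.l (Ty.srel [nat_lit 8, nat_lit 3, nat_lit 1, nat_lit 3, nat_lit 8, nat_lit 1, nat_lit 3, nat_lit 1, nat_lit 3])))
 (TT.l (Ty.relL (nat_lit 6) [nat_lit 8, nat_lit 2, nat_lit 6, nat_lit 2, nat_lit 8, nat_lit 2, nat_lit 6, nat_lit 2])))))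
 (TT.n (TT.n (TT.n (TT.n (TT.l (Ty.relL (nat_lit 3) [nat_lit 5, nat_lit 7, nat_lit 3, nat_lit 7, nat_lit 0, nat_lit 5, nat_lit 3, nat_lit 7, nat_lit 6, nat_lit 5, nat_lit 3, nat_lit 0, nat_lit 5, nat_lit 6, nat_lit 7]))
 (TT.l (Ty.srel [nat_lit 2, nat_lit 1, nat_lit 5, nat_lit 1, nat_lit 2, nat_lit 1, nat_lit 5, nat_lit 1, nat_lit 5])))
 (TT.n (TT.l (Ty.srel [nat_lit 6, nat_lit 2, nat_lit 6, nat_lit 2, nat_lit 6, nat_lit 2, nat_lit 6, nat_lit 2]))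
 (TT.l (Ty.srel [nat_lit 1, nat_lit 2, nat_lit 3, nat_lit 2, nat_lit 1, nat_lit 3, nat_lit 0, nat_lit 5, nat_lit 2, nat_lit 3, nat_lit 1, nat_lit 3, nat_lit 0, nat_lit 1, nat_lit 2, nat_lit 0, nat_lit 3, nat_lit 1, nat_lit 3, nat_lit 2, nat_lit 5, nat_lit 0, nat_lit 1, nat_lit 3]))))
 (TT.n (TT.n (TT.l (Ty.relL (nat_lit 2) [nat_lit 6, nat_lit 2, nat_lit 5, nat_lit 6, nat_lit 2, nat_lit 5, nat_lit 6, nat_lit 5]))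
 (TT.l (Ty.relL (nat_lit 3) [nat_lit 4, nat_lit 3, nat_lit 1, nat_lit 3, nat_lit 1, nat_lit 4, nat_lit 3, nat_lit 1])))
 (TT.l (Ty.relL (nat_lit 0) [nat_lit 2, nat_lit 0, nat_lit 2, nat_lit 0, nat_lit 2]))))
 (TT.n (TT.n (TT.n (TT.l (Ty.relL (nat_lit 2) [nat_lit 4, nat_lit 2, nat_lit 4]))
 (TT.l (Ty.relL (nat_lit 8) [nat_lit 4, nat_lit 3, nat_lit 2, nat_lit 8, nat_lit 2, nat_lit 3, nat_lit 2, nat_lit 4, nat_lit 3, nat_lit 2, nat_lit 8, nat_lit 2, nat_lit 3])))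
 (TT.n (TT.l (Ty.srel [nat_lit 2, nat_lit 3, nat_lit 8, nat_lit 4, nat_lit 3, nat_lit 2, nat_lit 8, nat_lit 2, nat_lit 3, nat_lit 2, nat_lit 4, nat_lit 3, nat_lit 2, nat_lit 8]))
 (TT.l (Ty.srel [nat_lit 0, nat_lit 8, nat_lit 5, nat_lit 6, nat_lit 2, nat_lit 8, nat_lit 0, nat_lit 2, nat_lit 6, nat_lit 5, nat_lit 8, nat_lit 7, nat_lit 0, nat_lit 5, nat_lit 6, nat_lit 2, nat_lit 0, nat_lit 8, nat_lit 2, nat_lit 6, nat_lit 5]))))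
 (TT.n (TT.n (TT.l (Ty.relL (nat_lit 5) [nat_lit 1, nat_lit 2, nat_lit 1, nat_lit 5, nat_lit 1, nat_lit 2, nat_lit 5, nat_lit 1]))
 (TT.l (Ty.srel [nat_lit 3, nat_lit 1, nat_lit 3, nat_lit 8, nat_lit 1, nat_lit 3, nat_lit 1, nat_lit 3, nat_lit 8])))
 (TT.l (Ty.relL (nat_lit 5) [nat_lit 8, nat_lit 5, nat_lit 8, nat_lit 5, nat_lit 8]))))))
 (TT.n (TT.n (TT.n (TT.n (TT.n (TT.l (Ty.relL (nat_lit 1) [nat_lit 0, nat_lit 3, nat_lit 7, nat_lit 3, nat_lit 1, nat_lit 3, nat_lit 7, nat_lit 6, nat_lit 3]))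
 (TT.l (Ty.relL (nat_lit 7) [nat_lit 3, nat_lit 7, nat_lit 3, nat_lit 7, nat_lit 3, nat_lit 7, nat_lit 3])))
 (TT.n (TT.l (Ty.relL (nat_lit 5) [nat_lit 3, nat_lit 1, nat_lit 5, nat_lit 3, nat_lit 1, nat_lit 5, nat_lit 3, nat_lit 1]))
 (TT.l (Ty.srel [nat_lit 3, nat_lit 2, nat_lit 8, nat_lit 7, nat_lit 3, nat_lit 7, nat_lit 2, nat_lit 3, nat_lit 7, nat_lit 4, nat_lit 2, nat_lit 3, nat_lit 7, nat_lit 4, nat_lit 2, nat_lit 3, nat_lit 2, nat_lit 7, nat_lit 3, nat_lit 8, nat_lit 2, nat_lit 3, nat_lit 4, nat_lit 7, nat_lit 3, nat_lit 4, nat_lit 7]))))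
 (TT.n (TT.n (TT.l (Ty.relL (nat_lit 0) [nat_lit 3, nat_lit 0, nat_lit 3]))
 (TT.l (Ty.srel [nat_lit 5, nat_lit 3, nat_lit 7, nat_lit 6, nat_lit 5, nat_lit 0, nat_lit 3, nat_lit 5, nat_lit 6, nat_lit 7, nat_lit 3, nat_lit 5, nat_lit 0, nat_lit 7, nat_lit 3, nat_lit 7])))
 (TT.n (TT.l (Ty.srel [nat_lit 1, nat_lit 2, nat_lit 3, nat_lit 1, nat_lit 3, nat_lit 1, nat_lit 2, nat_lit 1, nat_lit 6, nat_lit 5, nat_lit 3, nat_lit 2, nat_lit 6, nat_lit 2, nat_lit 3, nat_lit 5, nat_lit 6]))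
 (TT.l (Ty.srel [nat_lit 2, nat_lit 8, nat_lit 7, nat_lit 3, nat_lit 7, nat_lit 2, nat_lit 3, nat_lit 7, nat_lit 4, nat_lit 2, nat_lit 3, nat_lit 7, nat_lit 4, nat_lit 2, nat_lit 3, nat_lit 2, nat_lit 7, nat_lit 3, nat_lit 8, nat_lit 2, nat_lit 3, nat_lit 4, nat_lit 7, nat_lit 3, nat_lit 4, nat_lit 7, nat_lit 3])))))
 (TT.n (TT.n (TT.n (TT.l (Ty.relL (nat_lit 3) [nat_lit 1, nat_lit 3, nat_lit 4, nat_lit 3, nat_lit 1, nat_lit 3, nat_lit 1, nat_lit 4]))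
 (TT.l (Ty.relL (nat_lit 1) [nat_lit 2, nat_lit 1, nat_lit 5, nat_lit 1, nat_lit 2, nat_lit 5, nat_lit 1, nat_lit 5])))
 (TT.n (TT.l (Ty.relL (nat_lit 3) [nat_lit 1, nat_lit 3, nat_lit 1, nat_lit 2, nat_lit 1, nat_lit 6, nat_lit 5, nat_lit 3, nat_lit 2, nat_lit 6, nat_lit 2, nat_lit 3, nat_lit 5, nat_lit 6, nat_lit 1, nat_lit 2]))
 (TT.l (Ty.srel [nat_lit 5, nat_lit 6, nat_lit 7, nat_lit 3, nat_lit 5, nat_lit 0, nat_lit 7, nat_lit 3, nat_lit 7, nat_lit 5, nat_lit 3, nat_lit 7, nat_lit 6, nat_lit 5, nat_lit 0, nat_lit 3]))))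
 (TT.n (TT.n (TT.l (Ty.srel [nat_lit 1, nat_lit 2, nat_lit 5, nat_lit 1, nat_lit 5, nat_lit 1, nat_lit 2, nat_lit 1, nat_lit 5]))
 (TT.l (Ty.srel [nat_lit 4, nat_lit 3, nat_lit 7, nat_lit 4, nat_lit 3, nat_lit 2, nat_lit 8, nat_lit 3, nat_lit 7, nat_lit 2, nat_lit 3, nat_lit 2, nat_lit 4, nat_lit 7, nat_lit 3, nat_lit 2, nat_lit 4, nat_lit 7, nat_lit 3, nat_lit 2, nat_lit 7, nat_lit 3, nat_lit 7, nat_lit 8, nat_lit 2, nat_lit 3, nat_lit 7])))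
 (TT.l (Ty.relL (nat_lit 8) [nat_lit 6, nat_lit 8, nat_lit 6])))))
 (TT.n (TT.n (TT.n (TT.n (TT.l (Ty.relL (nat_lit 5) [nat_lit 2, nat_lit 6, nat_lit 2, nat_lit 5, nat_lit 6, nat_lit 2, nat_lit 5, nat_lit 6]))
 (TT.l (Ty.relL (nat_lit 1) [nat_lit 2, nat_lit 1, nat_lit 5, nat_lit 1, nat_lit 5, nat_lit 2, nat_lit 1, nat_lit 5])))
 (TT.n (TT.l (Ty.srel [nat_lit 6, nat_lit 7, nat_lit 3, nat_lit 5, nat_lit 0, nat_lit 7, nat_lit 3, nat_lit 7, nat_lit 5, nat_lit 3, nat_lit 7, nat_lit 6, nat_lit 5, nat_lit 0, nat_lit 3, nat_lit 5]))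
 (TT.l (Ty.relL (nat_lit 5) [nat_lit 1, nat_lit 5, nat_lit 1, nat_lit 5, nat_lit 1, nat_lit 5, nat_lit 1]))))
 (TT.n (TT.n (TT.l (Ty.srel [nat_lit 7, nat_lit 4, nat_lit 3, nat_lit 2, nat_lit 8, nat_lit 3, nat_lit 7, nat_lit 2, nat_lit 3, nat_lit 2, nat_lit 4, nat_lit 7, nat_lit 3, nat_lit 2, nat_lit 4, nat_lit 7, nat_lit 3, nat_lit 2, nat_lit 7, nat_lit 3, nat_lit 7, nat_lit 8, nat_lit 2, nat_lit 3, nat_lit 7, nat_lit 4, nat_lit 3]))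
 (TT.l (Ty.relL (nat_lit 3) [nat_lit 0, nat_lit 1, nat_lit 3, nat_lit 6, nat_lit 7, nat_lit 3, nat_lit 1, nat_lit 3, nat_lit 7])))
 (TT.l (Ty.srel [nat_lit 3, nat_lit 4, nat_lit 3, nat_lit 4, nat_lit 3, nat_lit 4]))))
 (TT.n (TT.n (TT.n (TT.l (Ty.relL (nat_lit 4) [nat_lit 1, nat_lit 4, nat_lit 1]))
 (TT.l (Ty.srel [nat_lit 3, nat_lit 2, nat_lit 1, nat_lit 3, nat_lit 0, nat_lit 5, nat_lit 2, nat_lit 3, nat_lit 1, nat_lit 3, nat_lit 0, nat_lit 1, nat_lit 2, nat_lit 0, nat_lit 3, nat_lit 1, nat_lit 3, nat_lit 2, nat_lit 5, nat_lit 0, nat_lit 1, nat_lit 3, nat_lit 1, nat_lit 2])))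
 (TT.n (TT.l (Ty.srel [nat_lit 3, nat_lit 1, nat_lit 3, nat_lit 1, nat_lit 2, nat_lit 1, nat_lit 6, nat_lit 5, nat_lit 3, nat_lit 2, nat_lit 6, nat_lit 2, nat_lit 3, nat_lit 5, nat_lit 6, nat_lit 1, nat_lit 2]))
 (TT.l (Ty.relL (nat_lit 5) [nat_lit 1, nat_lit 2, nat_lit 1, nat_lit 5, nat_lit 1, nat_lit 5, nat_lit 2, nat_lit 1]))))
 (TT.n (TT.n (TT.l (Ty.relL (nat_lit 1) [nat_lit 3, nat_lit 1, nat_lit 3, nat_lit 4, nat_lit 3, nat_lit 1, nat_lit 3, nat_lit 4]))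
 (TT.l (Ty.relL (nat_lit 2) [nat_lit 8, nat_lit 6, nat_lit 2, nat_lit 6, nat_lit 2, nat_lit 8, nat_lit 2, nat_lit 6])))
 (TT.l (Ty.relL (nat_lit 8) [nat_lit 1, nat_lit 8, nat_lit 1])))))))
 (TT.n (TT.n (TT.n (TT.n (TT.n (TT.n (TT.l (Ty.relL (nat_lit 2) [nat_lit 6, nat_lit 2, nat_lit 6, nat_lit 2, nat_lit 6, nat_lit 2, nat_lit 6]))
 (TT.l (Ty.relL (nat_lit 7) [nat_lit 6, nat_lit 5, nat_lit 0, nat_lit 3, nat_lit 5, nat_lit 6, nat_lit 7, nat_lit 3, nat_lit 5, nat_lit 0, nat_lit 7, nat_lit 3, nat_lit 7, nat_lit 5, nat_lit 3])))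
 (TT.n (TT.l (Ty.relL (nat_lit 5) [nat_lit 4, nat_lit 5, nat_lit 4]))
 (TT.l (Ty.relL (nat_lit 8) [nat_lit 7, nat_lit 8, nat_lit 7]))))
 (TT.n (TT.n (TT.l (Ty.relL (nat_lit 2) [nat_lit 3, nat_lit 5, nat_lit 6, nat_lit 1, nat_lit 2, nat_lit 1, nat_lit 3, nat_lit 1, nat_lit 3, nat_lit 2, nat_lit 1, nat_lit 6, nat_lit 5, nat_lit 3, nat_lit 2, nat_lit 6]))
 (TT.l (Ty.srel [nat_lit 2, nat_lit 6, nat_lit 2, nat_lit 8, nat_lit 2, nat_lit 6, nat_lit 2, nat_lit 8, nat_lit 6])))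
 (TT.n (TT.l (Ty.srel [nat_lit 8, nat_lit 2, nat_lit 3, nat_lit 2, nat_lit 4, nat_lit 3, nat_lit 2, nat_lit 8, nat_lit 2, nat_lit 3, nat_lit 8, nat_lit 4, nat_lit 3, nat_lit 2]))
 (TT.l (Ty.srel [nat_lit 0, nat_lit 1, nat_lit 3, nat_lit 6, nat_lit 7, nat_lit 3, nat_lit 1, nat_lit 3, nat_lit 7, nat_lit 3])))))
 (TT.n (TT.n (TT.n (TT.l (Ty.relL (nat_lit 6) [nat_lit 2, nat_lit 5, nat_lit 6, nat_lit 5, nat_lit 2, nat_lit 6, nat_lit 5, nat_lit 2]))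
 (TT.l (Ty.srel [nat_lit 1, nat_lit 2, nat_lit 3, nat_lit 1, nat_lit 2, nat_lit 3, nat_lit 1, nat_lit 2, nat_lit 3, nat_lit 1, nat_lit 2, nat_lit 3, nat_lit 1, nat_lit 2, nat_lit 3])))
 (TT.n (TT.l (Ty.relL (nat_lit 5) [nat_lit 1, nat_lit 5, nat_lit 2, nat_lit 1, nat_lit 5, nat_lit 1, nat_lit 2, nat_lit 1]))
 (TT.l (Ty.srel [nat_lit 3, nat_lit 4, nat_lit 3, nat_lit 1, nat_lit 3, nat_lit 4, nat_lit 1, nat_lit 3, nat_lit 1]))))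
 (TT.n (TT.n (TT.l (Ty.srel [nat_lit 2, nat_lit 4, nat_lit 2, nat_lit 4]))
 (TT.l (Ty.srel [nat_lit 2, nat_lit 6, nat_lit 5, nat_lit 0, nat_lit 7, nat_lit 8, nat_lit 5, nat_lit 6, nat_lit 2, nat_lit 0, nat_lit 8, nat_lit 2, nat_lit 6, nat_lit 5, nat_lit 8, nat_lit 0, nat_lit 5, nat_lit 6, nat_lit 2, nat_lit 8, nat_lit 0])))
 (TT.l (Ty.relL (nat_lit 6) [nat_lit 0, nat_lit 6, nat_lit 0])))))
 (TT.n (TT.n (TT.n (TT.n (TT.l (Ty.srel [nat_lit 2, nat_lit 8, nat_lit 2, nat_lit 3, nat_lit 2, nat_lit 4, nat_lit 3, nat_lit 2, nat_lit 8, nat_lit 2, nat_lit 3, nat_lit 8, nat_lit 4, nat_lit 3]))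
 (TT.l (Ty.srel [nat_lit 6, nat_lit 2, nat_lit 6, nat_lit 8, nat_lit 2, nat_lit 6, nat_lit 2, nat_lit 8, nat_lit 2])))
 (TT.n (TT.l (Ty.relL (nat_lit 3) [nat_lit 5, nat_lit 3, nat_lit 5, nat_lit 3, nat_lit 5]))
 (TT.l (Ty.relL (nat_lit 6) [nat_lit 2, nat_lit 6, nat_lit 2, nat_lit 8, nat_lit 2, nat_lit 6, nat_lit 2, nat_lit 8]))))
 (TT.n (TT.n (TT.l (Ty.relL (nat_lit 6) [nat_lit 7, nat_lit 6, nat_lit 7]))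
 (TT.l (Ty.srel [nat_lit 5, nat_lit 0, nat_lit 3, nat_lit 1, nat_lit 2, nat_lit 3, nat_lit 2, nat_lit 1, nat_lit 3, nat_lit 1, nat_lit 0, nat_lit 5, nat_lit 2, nat_lit 3, nat_lit 1, nat_lit 3, nat_lit 0, nat_lit 2, nat_lit 1, nat_lit 0, nat_lit 3, nat_lit 1, nat_lit 3, nat_lit 2])))
 (TT.l (Ty.relL (nat_lit 6) [nat_lit 1, nat_lit 6, nat_lit 1]))))
 (TT.n (TT.n (TT.n (TT.l (Ty.srel [nat_lit 1, nat_lit 3, nat_lit 8, nat_lit 1, nat_lit 3, nat_lit 1, nat_lit 3, nat_lit 8, nat_lit 3]))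
 (TT.l (Ty.relL (nat_lit 2) [nat_lit 6, nat_lit 5, nat_lit 2, nat_lit 6, nat_lit 2, nat_lit 5, nat_lit 6, nat_lit 5])))
 (TT.n (TT.l (Ty.relL (nat_lit 1) [nat_lit 0, nat_lit 1, nat_lit 0]))
 (TT.l (Ty.srel [nat_lit 2, nat_lit 8, nat_lit 2, nat_lit 6, nat_lit 2, nat_lit 8, nat_lit 6, nat_lit 2, nat_lit 6]))))
 (TT.n (TT.n (TT.l (Ty.srel [nat_lit 6, nat_lit 5, nat_lit 3, nat_lit 2, nat_lit 6, nat_lit 2, nat_lit 3, nat_lit 5, nat_lit 6, nat_lit 1, nat_lit 2, nat_lit 1, nat_lit 3, nat_lit 1, nat_lit 3, nat_lit 2, nat_lit 1]))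
 (TT.l (Ty.srel [nat_lit 0, nat_lit 5, nat_lit 3, nat_lit 7, nat_lit 6, nat_lit 5, nat_lit 3, nat_lit 0, nat_lit 5, nat_lit 6, nat_lit 7, nat_lit 3, nat_lit 5, nat_lit 7, nat_lit 3, nat_lit 7])))
 (TT.l (Ty.srel [nat_lit 1, nat_lit 3, nat_lit 8, nat_lit 3, nat_lit 1, nat_lit 3, nat_lit 8, nat_lit 1, nat_lit 3]))))))
 (TT.n (TT.n (TT.n (TT.n (TT.n (TT.l (Ty.relL (nat_lit 4) [nat_lit 2, nat_lit 4, nat_lit 2]))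
 (TT.l (Ty.srel [nat_lit 7, nat_lit 5, nat_lit 7, nat_lit 5])))
 (TT.n (TT.l (Ty.relL (nat_lit 2) [nat_lit 7, nat_lit 2, nat_lit 7]))
 (TT.l (Ty.relL (nat_lit 5) [nat_lit 1, nat_lit 5, nat_lit 1, nat_lit 2, nat_lit 1, nat_lit 5, nat_lit 1, nat_lit 2]))))
 (TT.n (TT.n (TT.l (Ty.relL (nat_lit 0) [nat_lit 1, nat_lit 3, nat_lit 6, nat_lit 7, nat_lit 3, nat_lit 1, nat_lit 3, nat_lit 7, nat_lit 3]))
 (TT.l (Ty.srel [nat_lit 2, nat_lit 3, nat_lit 5, nat_lit 6, nat_lit 1, nat_lit 2, nat_lit 3, nat_lit 1, nat_lit 3, nat_lit 1, nat_lit 2, nat_lit 1, nat_lit 6, nat_lit 5, nat_lit 3, nat_lit 2, nat_lit 6])))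
 (TT.n (TT.l (Ty.srel [nat_lit 5, nat_lit 3, nat_lit 2, nat_lit 6, nat_lit 2, nat_lit 3, nat_lit 5, nat_lit 6, nat_lit 1, nat_lit 2, nat_lit 3, nat_lit 1, nat_lit 3, nat_lit 1, nat_lit 2, nat_lit 1, nat_lit 6]))
 (TT.l (Ty.srel [nat_lit 5, nat_lit 6, nat_lit 2, nat_lit 8, nat_lit 0, nat_lit 2, nat_lit 6, nat_lit 5, nat_lit 8, nat_lit 7, nat_lit 0, nat_lit 5, nat_lit 6, nat_lit 2, nat_lit 0, nat_lit 8, nat_lit 2, nat_lit 6, nat_lit 5, nat_lit 0, nat_lit 8])))))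
 (TT.n (TT.n (TT.n (TT.l (Ty.relL (nat_lit 5) [nat_lit 1, nat_lit 3, nat_lit 5, nat_lit 1, nat_lit 3, nat_lit 5, nat_lit 1, nat_lit 3]))
 (TT.l (Ty.srel [nat_lit 7, nat_lit 4, nat_lit 7, nat_lit 4])))
 (TT.n (TT.l (Ty.srel [nat_lit 2, nat_lit 1, nat_lit 3, nat_lit 2, nat_lit 1, nat_lit 3, nat_lit 2, nat_lit 1, nat_lit 3, nat_lit 2, nat_lit 1, nat_lit 3, nat_lit 2, nat_lit 1, nat_lit 3]))
 (TT.l (Ty.srel [nat_lit 7, nat_lit 3, nat_lit 5, nat_lit 7, nat_lit 3, nat_lit 7, nat_lit 0, nat_lit 5, nat_lit 3, nat_lit 7, nat_lit 6, nat_lit 5, nat_lit 3, nat_lit 0, nat_lit 5, nat_lit 6]))))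
 (TT.n (TT.n (TT.l (Ty.srel [nat_lit 0, nat_lit 3, nat_lit 7, nat_lit 3, nat_lit 1, nat_lit 3, nat_lit 7, nat_lit 6, nat_lit 3, nat_lit 1]))
 (TT.l (Ty.relL (nat_lit 0) [nat_lit 3, nat_lit 5, nat_lit 6, nat_lit 7, nat_lit 3, nat_lit 5, nat_lit 0, nat_lit 7, nat_lit 3, nat_lit 7, nat_lit 5, nat_lit 3, nat_lit 7, nat_lit 6, nat_lit 5])))
 (TT.l (Ty.relL (nat_lit 6) [nat_lit 8, nat_lit 6, nat_lit 8])))))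
 (TT.n (TT.n (TT.n (TT.n (TT.l (Ty.relL (nat_lit 7) [nat_lit 1, nat_lit 7, nat_lit 1]))
 (TT.l (Ty.srel [nat_lit 0, nat_lit 2, nat_lit 1, nat_lit 0, nat_lit 3, nat_lit 1, nat_lit 3, nat_lit 2, nat_lit 5, nat_lit 0, nat_lit 3, nat_lit 1, nat_lit 2, nat_lit 3, nat_lit 2, nat_lit 1, nat_lit 3, nat_lit 1, nat_lit 0, nat_lit 5, nat_lit 2, nat_lit 3, nat_lit 1, nat_lit 3])))
 (TT.n (TT.l (Ty.srel [nat_lit 8, nat_lit 2, nat_lit 6, nat_lit 2, nat_lit 6, nat_lit 8, nat_lit 2, nat_lit 6, nat_lit 2]))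
 (TT.l (Ty.relL (nat_lit 2) [nat_lit 3, nat_lit 4, nat_lit 8, nat_lit 3, nat_lit 2, nat_lit 8, nat_lit 2, nat_lit 3, nat_lit 4, nat_lit 2, nat_lit 3, nat_lit 2, nat_lit 8]))))
 (TT.n (TT.n (TT.l (Ty.srel [nat_lit 3, nat_lit 1, nat_lit 3, nat_lit 7, nat_lit 3, nat_lit 0, nat_lit 1, nat_lit 3, nat_lit 6, nat_lit 7]))
 (TT.l (Ty.srel [nat_lit 8, nat_lit 2, nat_lit 6, nat_lit 5, nat_lit 8, nat_lit 0, nat_lit 5, nat_lit 6, nat_lit 2, nat_lit 8, nat_lit 0, nat_lit 2, nat_lit 6, nat_lit 5, nat_lit 0, nat_lit 7, nat_lit 8, nat_lit 5, nat_lit 6, nat_lit 2, nat_lit 0])))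
 (TT.l (Ty.srel [nat_lit 1, nat_lit 5, nat_lit 1, nat_lit 5, nat_lit 2, nat_lit 1, nat_lit 5, nat_lit 1, nat_lit 2]))))
 (TT.n (TT.n (TT.n (TT.l (Ty.srel [nat_lit 3, nat_lit 6, nat_lit 7, nat_lit 3, nat_lit 1, nat_lit 3, nat_lit 7, nat_lit 3, nat_lit 0, nat_lit 1]))
 (TT.l (Ty.srel [nat_lit 3, nat_lit 8, nat_lit 4, nat_lit 3, nat_lit 2, nat_lit 8, nat_lit 2, nat_lit 3, nat_lit 2, nat_lit 4, nat_lit 3, nat_lit 2, nat_lit 8, nat_lit 2])))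
 (TT.n (TT.l (Ty.srel [nat_lit 2, nat_lit 4, nat_lit 3, nat_lit 2, nat_lit 8, nat_lit 2, nat_lit 3, nat_lit 8, nat_lit 4, nat_lit 3, nat_lit 2, nat_lit 8, nat_lit 2, nat_lit 3]))
 (TT.l (Ty.relL (nat_lit 8) [nat_lit 2, nat_lit 3, nat_lit 4, nat_lit 8, nat_lit 3, nat_lit 2, nat_lit 8, nat_lit 2, nat_lit 3, nat_lit 4, nat_lit 2, nat_lit 3, nat_lit 2]))))
 (TT.n (TT.n (TT.l (Ty.srel [nat_lit 8, nat_lit 2, nat_lit 8, nat_lit 2, nat_lit 8, nat_lit 2]))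
 (TT.l (Ty.relL (nat_lit 2) [nat_lit 5, nat_lit 6, nat_lit 5, nat_lit 2, nat_lit 6, nat_lit 2, nat_lit 5, nat_lit 6])))
 (TT.l (Ty.srel [nat_lit 1, nat_lit 5, nat_lit 1, nat_lit 5, nat_lit 1, nat_lit 5, nat_lit 1, nat_lit 5]))))))))
 (TT.n (TT.n (TT.n (TT.n (TT.n (TT.n (TT.n (TT.l (Ty.relL (nat_lit 2) [nat_lit 3, nat_lit 2, nat_lit 8, nat_lit 2, nat_lit 3, nat_lit 4, nat_lit 8, nat_lit 3, nat_lit 2, nat_lit 8, nat_lit 2, nat_lit 3, nat_lit 4]))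
 (TT.l (Ty.srel [nat_lit 7, nat_lit 6, nat_lit 7, nat_lit 6])))
 (TT.n (TT.l (Ty.relL (nat_lit 7) [nat_lit 6, nat_lit 7, nat_lit 6]))
 (TT.l (Ty.srel [nat_lit 3, nat_lit 2, nat_lit 4, nat_lit 5, nat_lit 3, nat_lit 4, nat_lit 7, nat_lit 3, nat_lit 2, nat_lit 4, nat_lit 5, nat_lit 3, nat_lit 4, nat_lit 7, nat_lit 3, nat_lit 2, nat_lit 4, nat_lit 5, nat_lit 3, nat_lit 4, nat_lit 7, nat_lit 3, nat_lit 2, nat_lit 4, nat_lit 5, nat_lit 3, nat_lit 4, nat_lit 7, nat_lit 3, nat_lit 2, nat_lit 4, nat_lit 5, nat_lit 3, nat_lit 4, nat_lit 7]))))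
 (TT.n (TT.n (TT.l (Ty.srel [nat_lit 3, nat_lit 1, nat_lit 2, nat_lit 3, nat_lit 2, nat_lit 1, nat_lit 3, nat_lit 1, nat_lit 0, nat_lit 5, nat_lit 2, nat_lit 3, nat_lit 1, nat_lit 3, nat_lit 0, nat_lit 2, nat_lit 1, nat_lit 0, nat_lit 3, nat_lit 1, nat_lit 3, nat_lit 2, nat_lit 5, nat_lit 0]))
 (TT.l (Ty.relL (nat_lit 8) [nat_lit 3, nat_lit 1, nat_lit 3, nat_lit 8, nat_lit 3, nat_lit 1, nat_lit 3, nat_lit 1])))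
 (TT.n (TT.l (Ty.srel [nat_lit 0, nat_lit 6, nat_lit 2, nat_lit 6, nat_lit 3, nat_lit 2, nat_lit 6, nat_lit 0, nat_lit 2, nat_lit 6, nat_lit 3, nat_lit 2, nat_lit 0, nat_lit 6, nat_lit 2, nat_lit 3, nat_lit 6, nat_lit 2]))
 (TT.l (Ty.srel [nat_lit 0, nat_lit 5, nat_lit 2, nat_lit 3, nat_lit 1, nat_lit 3, nat_lit 0, nat_lit 1, nat_lit 2, nat_lit 0, nat_lit 3, nat_lit 1, nat_lit 3, nat_lit 2, nat_lit 5, nat_lit 0, nat_lit 1, nat_lit 3, nat_lit 1, nat_lit 2, nat_lit 3, nat_lit 2, nat_lit 1, nat_lit 3])))))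
 (TT.n (TT.n (TT.n (TT.l (Ty.relL (nat_lit 6) [nat_lit 2, nat_lit 8, nat_lit 2, nat_lit 6, nat_lit 2, nat_lit 6, nat_lit 8, nat_lit 2]))
 (TT.l (Ty.srel [nat_lit 1, nat_lit 4, nat_lit 3, nat_lit 1, nat_lit 3, nat_lit 4, nat_lit 3, nat_lit 1, nat_lit 3])))
 (TT.n (TT.l (Ty.srel [nat_lit 5, nat_lit 6, nat_lit 2, nat_lit 5, nat_lit 6, nat_lit 5, nat_lit 2, nat_lit 6, nat_lit 2]))
 (TT.l (Ty.relL (nat_lit 3) [nat_lit 6, nat_lit 7, nat_lit 3, nat_lit 1, nat_lit 3, nat_lit 7, nat_lit 3, nat_lit 0, nat_lit 1]))))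
 (TT.n (TT.n (TT.l (Ty.srel [nat_lit 6, nat_lit 2, nat_lit 5, nat_lit 6, nat_lit 5, nat_lit 2, nat_lit 6, nat_lit 2, nat_lit 5]))
 (TT.l (Ty.srel [nat_lit 3, nat_lit 7, nat_lit 4, nat_lit 3, nat_lit 7, nat_lit 4, nat_lit 3, nat_lit 2, nat_lit 8, nat_lit 3, nat_lit 7, nat_lit 2, nat_lit 3, nat_lit 2, nat_lit 4, nat_lit 7, nat_lit 3, nat_lit 2, nat_lit 4, nat_lit 7, nat_lit 3, nat_lit 2, nat_lit 7, nat_lit 3, nat_lit 7, nat_lit 8, nat_lit 2])))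
 (TT.l (Ty.srel [nat_lit 0, nat_lit 5, nat_lit 0, nat_lit 5, nat_lit 0, nat_lit 5])))))
 (TT.n (TT.n (TT.n (TT.n (TT.l (Ty.relL (nat_lit 4) [nat_lit 5, nat_lit 4, nat_lit 5]))
 (TT.l (Ty.srel [nat_lit 0, nat_lit 2, nat_lit 0, nat_lit 2, nat_lit 0, nat_lit 2])))
 (TT.n (TT.l (Ty.srel [nat_lit 6, nat_lit 1, nat_lit 6, nat_lit 1]))
 (TT.l (Ty.relL (nat_lit 4) [nat_lit 3, nat_lit 1, nat_lit 3, nat_lit 4, nat_lit 1, nat_lit 3, nat_lit 1, nat_lit 3]))))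
 (TT.n (TT.n (TT.l (Ty.relL (nat_lit 1) [nat_lit 5, nat_lit 3, nat_lit 1, nat_lit 5, nat_lit 3, nat_lit 1, nat_lit 5, nat_lit 3]))
 (TT.l (Ty.srel [nat_lit 3, nat_lit 1, nat_lit 3, nat_lit 8, nat_lit 3, nat_lit 1, nat_lit 3, nat_lit 8, nat_lit 1])))
 (TT.l (Ty.relL (nat_lit 6) [nat_lit 2, nat_lit 6, nat_lit 8, nat_lit 2, nat_lit 6, nat_lit 2, nat_lit 8, nat_lit 2]))))
 (TT.n (TT.n (TT.n (TT.l (Ty.srel [nat_lit 6, nat_lit 5, nat_lit 6, nat_lit 5, nat_lit 6, nat_lit 5]))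
 (TT.l (Ty.srel [nat_lit 1, nat_lit 2, nat_lit 1, nat_lit 6, nat_lit 5, nat_lit 3, nat_lit 2, nat_lit 6, nat_lit 2, nat_lit 3, nat_lit 5, nat_lit 6, nat_lit 1, nat_lit 2, nat_lit 3, nat_lit 1, nat_lit 3])))
 (TT.n (TT.l (Ty.relL (nat_lit 1) [nat_lit 4, nat_lit 1, nat_lit 4]))
 (TT.l (Ty.srel [nat_lit 3, nat_lit 8, nat_lit 1, nat_lit 3, nat_lit 1, nat_lit 3, nat_lit 8, nat_lit 3, nat_lit 1]))))
 (TT.n (TT.n (TT.l (Ty.srel [nat_lit 6, nat_lit 7, nat_lit 3, nat_lit 1, nat_lit 3, nat_lit 7, nat_lit 3, nat_lit 0, nat_lit 1, nat_lit 3]))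
 (TT.l (Ty.srel [nat_lit 3, nat_lit 1, nat_lit 3, nat_lit 7, nat_lit 6, nat_lit 3, nat_lit 1, nat_lit 0, nat_lit 3, nat_lit 7])))
 (TT.l (Ty.srel [nat_lit 1, nat_lit 4, nat_lit 1, nat_lit 4]))))))
 (TT.n (TT.n (TT.n (TT.n (TT.n (TT.l (Ty.relL (nat_lit 5) [nat_lit 6, nat_lit 2, nat_lit 5, nat_lit 6, nat_lit 5, nat_lit 2, nat_lit 6, nat_lit 2]))
 (TT.l (Ty.relL (nat_lit 8) [nat_lit 0, nat_lit 8, nat_lit 0])))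
 (TT.n (TT.l (Ty.relL (nat_lit 3) [nat_lit 8, nat_lit 3, nat_lit 1, nat_lit 3, nat_lit 1, nat_lit 8, nat_lit 3, nat_lit 1]))
 (TT.l (Ty.srel [nat_lit 0, nat_lit 7, nat_lit 3, nat_lit 7, nat_lit 5, nat_lit 3, nat_lit 7, nat_lit 6, nat_lit 5, nat_lit 0, nat_lit 3, nat_lit 5, nat_lit 6, nat_lit 7, nat_lit 3, nat_lit 5]))))
 (TT.n (TT.n (TT.l (Ty.srel [nat_lit 4, nat_lit 3, nat_lit 1, nat_lit 3, nat_lit 4, nat_lit 1, nat_lit 3, nat_lit 1, nat_lit 3]))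
 (TT.l (Ty.srel [nat_lit 4, nat_lit 7, nat_lit 4, nat_lit 7])))
 (TT.n (TT.l (Ty.srel [nat_lit 3, nat_lit 1, nat_lit 3, nat_lit 1, nat_lit 8, nat_lit 3, nat_lit 1, nat_lit 3, nat_lit 8]))
 (TT.l (Ty.relL (nat_lit 1) [nat_lit 3, nat_lit 2, nat_lit 1, nat_lit 6, nat_lit 5, nat_lit 3, nat_lit 2, nat_lit 6, nat_lit 2, nat_lit 3, nat_lit 5, nat_lit 6, nat_lit 1, nat_lit 2, nat_lit 1, nat_lit 3])))))
 (TT.n (TT.n (TT.n (TT.l (Ty.relL (nat_lit 7) [nat_lit 8, nat_lit 7, nat_lit 8]))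
 (TT.l (Ty.srel [nat_lit 1, nat_lit 3, nat_lit 8, nat_lit 3, nat_lit 1, nat_lit 3, nat_lit 1, nat_lit 8, nat_lit 3])))
 (TT.n (TT.l (Ty.relL (nat_lit 5) [nat_lit 7, nat_lit 5, nat_lit 7]))
 (TT.l (Ty.srel [nat_lit 7, nat_lit 3, nat_lit 4, nat_lit 7, nat_lit 3, nat_lit 2, nat_lit 8, nat_lit 7, nat_lit 3, nat_lit 7, nat_lit 2, nat_lit 3, nat_lit 7, nat_lit 4, nat_lit 2, nat_lit 3, nat_lit 7, nat_lit 4, nat_lit 2, nat_lit 3, nat_lit 2, nat_lit 7, nat_lit 3, nat_lit 8, nat_lit 2, nat_lit 3, nat_lit 4]))))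
 (TT.n (TT.n (TT.l (Ty.srel [nat_lit 5, nat_lit 1, nat_lit 2, nat_lit 1, nat_lit 5, nat_lit 1, nat_lit 2, nat_lit 5, nat_lit 1]))
 (TT.l (Ty.srel [nat_lit 5, nat_lit 2, nat_lit 5, nat_lit 2])))
 (TT.l (Ty.srel [nat_lit 2, nat_lit 6, nat_lit 3, nat_lit 2, nat_lit 6, nat_lit 0, nat_lit 2, nat_lit 3, nat_lit 6, nat_lit 2, nat_lit 0, nat_lit 6, nat_lit 2, nat_lit 3, nat_lit 6, nat_lit 2, nat_lit 6, nat_lit 0])))))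
 (TT.n (TT.n (TT.n (TT.n (TT.l (Ty.srel [nat_lit 5, nat_lit 6, nat_lit 2, nat_lit 0, nat_lit 8, nat_lit 2, nat_lit 6, nat_lit 5, nat_lit 0, nat_lit 8, nat_lit 5, nat_lit 6, nat_lit 2, nat_lit 8, nat_lit 0, nat_lit 2, nat_lit 6, nat_lit 5, nat_lit 8, nat_lit 7, nat_lit 0]))
 (TT.l (Ty.relL (nat_lit 2) [nat_lit 3, nat_lit 2, nat_lit 4, nat_lit 3, nat_lit 2, nat_lit 8, nat_lit 2, nat_lit 3, nat_lit 8, nat_lit 4, nat_lit 3, nat_lit 2, nat_lit 8])))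
 (TT.n (TT.l (Ty.srel [nat_lit 2, nat_lit 6, nat_lit 2, nat_lit 6, nat_lit 8, nat_lit 2, nat_lit 6, nat_lit 2, nat_lit 8]))
 (TT.l (Ty.srel [nat_lit 4, nat_lit 3, nat_lit 5, nat_lit 4, nat_lit 2, nat_lit 3, nat_lit 7, nat_lit 4, nat_lit 3, nat_lit 5, nat_lit 4, nat_lit 2, nat_lit 3, nat_lit 7, nat_lit 4, nat_lit 3, nat_lit 5, nat_lit 4, nat_lit 2, nat_lit 3, nat_lit 7, nat_lit 4, nat_lit 3, nat_lit 5, nat_lit 4, nat_lit 2, nat_lit 3, nat_lit 7, nat_lit 4, nat_lit 3, nat_lit 5, nat_lit 4, nat_lit 2, nat_lit 3, nat_lit 7]))))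
 (TT.n (TT.n (TT.l (Ty.srel [nat_lit 2, nat_lit 5, nat_lit 6, nat_lit 2, nat_lit 5, nat_lit 6, nat_lit 5, nat_lit 2, nat_lit 6]))
 (TT.l (Ty.srel [nat_lit 0, nat_lit 2, nat_lit 1, nat_lit 0, nat_lit 3, nat_lit 1, nat_lit 2, nat_lit 0, nat_lit 1, nat_lit 3, nat_lit 1, nat_lit 2, nat_lit 0, nat_lit 1, nat_lit 3, nat_lit 1, nat_lit 2, nat_lit 1, nat_lit 3, nat_lit 1, nat_lit 0, nat_lit 2, nat_lit 1, nat_lit 3, nat_lit 1])))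
 (TT.l (Ty.relL (nat_lit 1) [nat_lit 3, nat_lit 4, nat_lit 1, nat_lit 3, nat_lit 1, nat_lit 3, nat_lit 4, nat_lit 3]))))
 (TT.n (TT.n (TT.n (TT.l (Ty.srel [nat_lit 5, nat_lit 1, nat_lit 5, nat_lit 1, nat_lit 5, nat_lit 1, nat_lit 5, nat_lit 1]))
 (TT.l (Ty.srel [nat_lit 2, nat_lit 6, nat_lit 2, nat_lit 6, nat_lit 2, nat_lit 6, nat_lit 2, nat_lit 6])))
 (TT.n (TT.l (Ty.srel [nat_lit 5, nat_lit 8, nat_lit 5, nat_lit 8, nat_lit 5, nat_lit 8]))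
 (TT.l (Ty.relL (nat_lit 3) [nat_lit 1, nat_lit 2, nat_lit 3, nat_lit 2, nat_lit 1, nat_lit 3, nat_lit 0, nat_lit 5, nat_lit 2, nat_lit 3, nat_lit 1, nat_lit 3, nat_lit 0, nat_lit 1, nat_lit 2, nat_lit 0, nat_lit 3, nat_lit 1, nat_lit 3, nat_lit 2, nat_lit 5, nat_lit 0, nat_lit 1]))))
 (TT.n (TT.n (TT.l (Ty.relL (nat_lit 2) [nat_lit 1, nat_lit 5, nat_lit 1, nat_lit 5, nat_lit 2, nat_lit 1, nat_lit 5, nat_lit 1]))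
 (TT.l (Ty.srel [nat_lit 7, nat_lit 5, nat_lit 3, nat_lit 7, nat_lit 6, nat_lit 5, nat_lit 0, nat_lit 3, nat_lit 5, nat_lit 6, nat_lit 7, nat_lit 3, nat_lit 5, nat_lit 0, nat_lit 7, nat_lit 3])))
 (TT.l (Ty.srel [nat_lit 3, nat_lit 2, nat_lit 8, nat_lit 2, nat_lit 3, nat_lit 8, nat_lit 4, nat_lit 3, nat_lit 2, nat_lit 8, nat_lit 2, nat_lit 3, nat_lit 2, nat_lit 4])))))))
 (TT.n (TT.n (TT.n (TT.n (TT.n (TT.n (TT.l (Ty.relL (nat_lit 2) [nat_lit 5, nat_lit 6, nat_lit 2, nat_lit 5, nat_lit 6, nat_lit 5, nat_lit 2, nat_lit 6]))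
 (TT.l (Ty.srel [nat_lit 2, nat_lit 5, nat_lit 1, nat_lit 5, nat_lit 1, nat_lit 2, nat_lit 1, nat_lit 5, nat_lit 1])))
 (TT.n (TT.l (Ty.relL (nat_lit 0) [nat_lit 7, nat_lit 0, nat_lit 7]))
 (TT.l (Ty.relL (nat_lit 8) [nat_lit 2, nat_lit 6, nat_lit 2, nat_lit 8, nat_lit 6, nat_lit 2, nat_lit 6, nat_lit 2]))))
 (TT.n (TT.n (TT.l (Ty.srel [nat_lit 8, nat_lit 3, nat_lit 2, nat_lit 8, nat_lit 2, nat_lit 3, nat_lit 4, nat_lit 2, nat_lit 3, nat_lit 2, nat_lit 8, nat_lit 2, nat_lit 3, nat_lit 4]))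
 (TT.l (Ty.relL (nat_lit 6) [nat_lit 2, nat_lit 5, nat_lit 6, nat_lit 5, nat_lit 2, nat_lit 6, nat_lit 2, nat_lit 5])))
 (TT.n (TT.l (Ty.srel [nat_lit 2, nat_lit 1, nat_lit 5, nat_lit 1, nat_lit 2, nat_lit 5, nat_lit 1, nat_lit 5, nat_lit 1]))
 (TT.l (Ty.relL (nat_lit 2) [nat_lit 1, nat_lit 3, nat_lit 1, nat_lit 0, nat_lit 5, nat_lit 2, nat_lit 3, nat_lit 1, nat_lit 3, nat_lit 0, nat_lit 2, nat_lit 1, nat_lit 0, nat_lit 3, nat_lit 1, nat_lit 3, nat_lit 2, nat_lit 5, nat_lit 0, nat_lit 3, nat_lit 1, nat_lit 2, nat_lit 3])))))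
 (TT.n (TT.n (TT.n (TT.l (Ty.srel [nat_lit 3, nat_lit 1, nat_lit 3, nat_lit 1, nat_lit 3, nat_lit 1, nat_lit 3, nat_lit 1]))
 (TT.l (Ty.relL (nat_lit 7) [nat_lit 2, nat_lit 7, nat_lit 2])))
 (TT.n (TT.l (Ty.srel [nat_lit 1, nat_lit 5, nat_lit 1, nat_lit 2, nat_lit 1, nat_lit 5, nat_lit 1, nat_lit 2, nat_lit 5]))
 (TT.l (Ty.relL (nat_lit 0) [nat_lit 5, nat_lit 6, nat_lit 2, nat_lit 8, nat_lit 0, nat_lit 2, nat_lit 6, nat_lit 5, nat_lit 0, nat_lit 7, nat_lit 8, nat_lit 5, nat_lit 6, nat_lit 2, nat_lit 0, nat_lit 8, nat_lit 2, nat_lit 6, nat_lit 5, nat_lit 8]))))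
 (TT.n (TT.n (TT.l (Ty.srel [nat_lit 8, nat_lit 4, nat_lit 8, nat_lit 4]))
 (TT.l (Ty.srel [nat_lit 2, nat_lit 8, nat_lit 3, nat_lit 7, nat_lit 2, nat_lit 3, nat_lit 2, nat_lit 4, nat_lit 7, nat_lit 3, nat_lit 2, nat_lit 4, nat_lit 7, nat_lit 3, nat_lit 2, nat_lit 7, nat_lit 3, nat_lit 7, nat_lit 8, nat_lit 2, nat_lit 3, nat_lit 7, nat_lit 4, nat_lit 3, nat_lit 7, nat_lit 4, nat_lit 3])))
 (TT.l (Ty.srel [nat_lit 8, nat_lit 3, nat_lit 8, nat_lit 3, nat_lit 8, nat_lit 3])))))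
 (TT.n (TT.n (TT.n (TT.n (TT.l (Ty.relL (nat_lit 6) [nat_lit 5, nat_lit 6, nat_lit 5, nat_lit 6, nat_lit 5]))
 (TT.l (Ty.srel [nat_lit 7, nat_lit 3, nat_lit 2, nat_lit 8, nat_lit 7, nat_lit 3, nat_lit 7, nat_lit 2, nat_lit 3, nat_lit 7, nat_lit 4, nat_lit 2, nat_lit 3, nat_lit 7, nat_lit 4, nat_lit 2, nat_lit 3, nat_lit 2, nat_lit 7, nat_lit 3, nat_lit 8, nat_lit 2, nat_lit 3, nat_lit 4, nat_lit 7, nat_lit 3, nat_lit 4])))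
 (TT.n (TT.l (Ty.srel [nat_lit 3, nat_lit 2, nat_lit 8, nat_lit 2, nat_lit 3, nat_lit 2, nat_lit 4, nat_lit 3, nat_lit 2, nat_lit 8, nat_lit 2, nat_lit 3, nat_lit 8, nat_lit 4]))
 (TT.l (Ty.srel [nat_lit 7, nat_lit 2, nat_lit 3, nat_lit 2, nat_lit 4, nat_lit 7, nat_lit 3, nat_lit 2, nat_lit 4, nat_lit 7, nat_lit 3, nat_lit 2, nat_lit 7, nat_lit 3, nat_lit 7, nat_lit 8, nat_lit 2, nat_lit 3, nat_lit 7, nat_lit 4, nat_lit 3, nat_lit 7, nat_lit 4, nat_lit 3, nat_lit 2, nat_lit 8, nat_lit 3]))))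
 (TT.n (TT.n (TT.l (Ty.relL (nat_lit 8) [nat_lit 4, nat_lit 8, nat_lit 4]))
 (TT.l (Ty.srel [nat_lit 8, nat_lit 3, nat_lit 7, nat_lit 2, nat_lit 3, nat_lit 2, nat_lit 4, nat_lit 7, nat_lit 3, nat_lit 2, nat_lit 4, nat_lit 7, nat_lit 3, nat_lit 2, nat_lit 7, nat_lit 3, nat_lit 7, nat_lit 8, nat_lit 2, nat_lit 3, nat_lit 7, nat_lit 4, nat_lit 3, nat_lit 7, nat_lit 4, nat_lit 3, nat_lit 2])))
 (TT.l (Ty.srel [nat_lit 2, nat_lit 1, nat_lit 2, nat_lit 1, nat_lit 2, nat_lit 1]))))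
 (TT.n (TT.n (TT.n (TT.l (Ty.relL (nat_lit 0) [nat_lit 5, nat_lit 0, nat_lit 5, nat_lit 0, nat_lit 5]))
 (TT.l (Ty.srel [nat_lit 0, nat_lit 1, nat_lit 3, nat_lit 1, nat_lit 2, nat_lit 3, nat_lit 2, nat_lit 1, nat_lit 3, nat_lit 0, nat_lit 5, nat_lit 2, nat_lit 3, nat_lit 1, nat_lit 3, nat_lit 0, nat_lit 1, nat_lit 2, nat_lit 0, nat_lit 3, nat_lit 1, nat_lit 3, nat_lit 2, nat_lit 5])))
 (TT.n (TT.l (Ty.relL (nat_lit 2) [nat_lit 3, nat_lit 8, nat_lit 4, nat_lit 3, nat_lit 2, nat_lit 8, nat_lit 2, nat_lit 3, nat_lit 2, nat_lit 4, nat_lit 3, nat_lit 2, nat_lit 8]))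
 (TT.l (Ty.relL (nat_lit 3) [nat_lit 4, nat_lit 8, nat_lit 3, nat_lit 2, nat_lit 8, nat_lit 2, nat_lit 3, nat_lit 4, nat_lit 2, nat_lit 3, nat_lit 2, nat_lit 8, nat_lit 2]))))
 (TT.n (TT.n (TT.l (Ty.relL (nat_lit 2) [nat_lit 5, nat_lit 2, nat_lit 5]))
 (TT.l (Ty.relL (nat_lit 3) [nat_lit 7, nat_lit 3, nat_lit 1, nat_lit 3, nat_lit 7, nat_lit 6, nat_lit 3, nat_lit 1, nat_lit 0])))
 (TT.l (Ty.srel [nat_lit 6, nat_lit 8, nat_lit 6, nat_lit 8]))))))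
 (TT.n (TT.n (TT.n (TT.n (TT.n (TT.l (Ty.relL (nat_lit 3) [nat_lit 5, nat_lit 1, nat_lit 3, nat_lit 5, nat_lit 1, nat_lit 3, nat_lit 5, nat_lit 1]))
 (TT.l (Ty.srel [nat_lit 0, nat_lit 8, nat_lit 0, nat_lit 8])))
 (TT.n (TT.l (Ty.relL (nat_lit 4) [nat_lit 3, nat_lit 2, nat_lit 8, nat_lit 2, nat_lit 3, nat_lit 2, nat_lit 4, nat_lit 3, nat_lit 2, nat_lit 8, nat_lit 2, nat_lit 3, nat_lit 8]))
 (TT.l (Ty.srel [nat_lit 3, nat_lit 2, nat_lit 6, nat_lit 2, nat_lit 3, nat_lit 5, nat_lit 6, nat_lit 1, nat_lit 2, nat_lit 1, nat_lit 3, nat_lit 1, nat_lit 3, nat_lit 2, nat_lit 1, nat_lit 6, nat_lit 5]))))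
 (TT.n (TT.n (TT.l (Ty.srel [nat_lit 2, nat_lit 6, nat_lit 2, nat_lit 5, nat_lit 6, nat_lit 2, nat_lit 5, nat_lit 6, nat_lit 5]))
 (TT.l (Ty.srel [nat_lit 8, nat_lit 2, nat_lit 3, nat_lit 4, nat_lit 8, nat_lit 3, nat_lit 2, nat_lit 8, nat_lit 2, nat_lit 3, nat_lit 4, nat_lit 2, nat_lit 3, nat_lit 2])))
 (TT.n (TT.l (Ty.relL (nat_lit 1) [nat_lit 3, nat_lit 4, nat_lit 3, nat_lit 1, nat_lit 3, nat_lit 4, nat_lit 1, nat_lit 3]))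
 (TT.l (Ty.relL (nat_lit 4) [nat_lit 3, nat_lit 2, nat_lit 8, nat_lit 3, nat_lit 7, nat_lit 2, nat_lit 3, nat_lit 2, nat_lit 4, nat_lit 7, nat_lit 3, nat_lit 2, nat_lit 4, nat_lit 7, nat_lit 3, nat_lit 2, nat_lit 7, nat_lit 3, nat_lit 7, nat_lit 8, nat_lit 2, nat_lit 3, nat_lit 7, nat_lit 4, nat_lit 3, nat_lit 7])))))
 (TT.n (TT.n (TT.n (TT.l (Ty.relL (nat_lit 1) [nat_lit 5, nat_lit 1, nat_lit 5, nat_lit 1, nat_lit 5, nat_lit 1, nat_lit 5]))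
 (TT.l (Ty.srel [nat_lit 0, nat_lit 6, nat_lit 0, nat_lit 6])))
 (TT.n (TT.l (Ty.relL (nat_lit 1) [nat_lit 8, nat_lit 1, nat_lit 8]))
 (TT.l (Ty.relL (nat_lit 3) [nat_lit 1, nat_lit 3, nat_lit 8, nat_lit 1, nat_lit 3, nat_lit 1, nat_lit 3, nat_lit 8]))))
 (TT.n (TT.n (TT.l (Ty.relL (nat_lit 1) [nat_lit 2, nat_lit 5, nat_lit 1, nat_lit 5, nat_lit 1, nat_lit 2, nat_lit 1, nat_lit 5]))
 (TT.l (Ty.relL (nat_lit 6) [nat_lit 5, nat_lit 2, nat_lit 6, nat_lit 2, nat_lit 5, nat_lit 6, nat_lit 5, nat_lit 2])))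
 (TT.l (Ty.srel [nat_lit 3, nat_lit 1, nat_lit 3, nat_lit 4, nat_lit 3, nat_lit 1, nat_lit 3, nat_lit 4, nat_lit 1])))))
 (TT.n (TT.n (TT.n (TT.n (TT.l (Ty.srel [nat_lit 3, nat_lit 7, nat_lit 6, nat_lit 3, nat_lit 1, nat_lit 0, nat_lit 3, nat_lit 7, nat_lit 3, nat_lit 1]))
 (TT.l (Ty.srel [nat_lit 8, nat_lit 4, nat_lit 3, nat_lit 2, nat_lit 8, nat_lit 2, nat_lit 3, nat_lit 2, nat_lit 4, nat_lit 3, nat_lit 2, nat_lit 8, nat_lit 2, nat_lit 3])))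
 (TT.n (TT.l (Ty.relL (nat_lit 0) [nat_lit 8, nat_lit 0, nat_lit 8]))
 (TT.l (Ty.relL (nat_lit 1) [nat_lit 6, nat_lit 5, nat_lit 3, nat_lit 2, nat_lit 6, nat_lit 2, nat_lit 3, nat_lit 5, nat_lit 6, nat_lit 1, nat_lit 2, nat_lit 3, nat_lit 1, nat_lit 3, nat_lit 1, nat_lit 2]))))
 (TT.n (TT.n (TT.l (Ty.srel [nat_lit 5, nat_lit 1, nat_lit 3, nat_lit 5, nat_lit 1, nat_lit 3, nat_lit 5, nat_lit 1, nat_lit 3]))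
 (TT.l (Ty.relL (nat_lit 3) [nat_lit 7, nat_lit 3, nat_lit 7, nat_lit 3, nat_lit 7, nat_lit 3, nat_lit 7])))
 (TT.l (Ty.relL (nat_lit 7) [nat_lit 3, nat_lit 5, nat_lit 0, nat_lit 7, nat_lit 3, nat_lit 7, nat_lit 5, nat_lit 3, nat_lit 7, nat_lit 6, nat_lit 5, nat_lit 0, nat_lit 3, nat_lit 5, nat_lit 6]))))
 (TT.n (TT.n (TT.n (TT.l (Ty.srel [nat_lit 0, nat_lit 4, nat_lit 0, nat_lit 4]))
 (TT.l (Ty.srel [nat_lit 4, nat_lit 8, nat_lit 4, nat_lit 8])))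
 (TT.n (TT.l (Ty.relL (nat_lit 0) [nat_lit 4, nat_lit 0, nat_lit 4]))
 (TT.l (Ty.relL (nat_lit 1) [nat_lit 2, nat_lit 1, nat_lit 3, nat_lit 1, nat_lit 0, nat_lit 2, nat_lit 1, nat_lit 3, nat_lit 1, nat_lit 0, nat_lit 2, nat_lit 1, nat_lit 0, nat_lit 3, nat_lit 1, nat_lit 2, nat_lit 0, nat_lit 1, nat_lit 3, nat_lit 1, nat_lit 2, nat_lit 0, nat_lit 1, nat_lit 3]))))
 (TT.n (TT.n (TT.l (Ty.srel [nat_lit 3, nat_lit 5, nat_lit 6, nat_lit 7, nat_lit 3, nat_lit 5, nat_lit 0, nat_lit 7, nat_lit 3, nat_lit 7, nat_lit 5, nat_lit 3, nat_lit 7, nat_lit 6, nat_lit 5, nat_lit 0]))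
 (TT.l (Ty.srel [nat_lit 1, nat_lit 2, nat_lit 1, nat_lit 3, nat_lit 1, nat_lit 3, nat_lit 2, nat_lit 1, nat_lit 6, nat_lit 5, nat_lit 3, nat_lit 2, nat_lit 6, nat_lit 2, nat_lit 3, nat_lit 5, nat_lit 6])))
 (TT.l (Ty.relL (nat_lit 3) [nat_lit 1, nat_lit 3, nat_lit 4, nat_lit 1, nat_lit 3, nat_lit 1, nat_lit 3, nat_lit 4])))))))))
 (TT.n (TT.n (TT.n (TT.n (TT.n (TT.n (TT.n (TT.n (TT.l (Ty.relL (nat_lit 3) [nat_lit 2, nat_lit 4, nat_lit 3, nat_lit 2, nat_lit 8, nat_lit 2, nat_lit 3, nat_lit 8, nat_lit 4, nat_lit 3, nat_lit 2, nat_lit 8, nat_lit 2]))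
 (TT.l (Ty.srel [nat_lit 7, nat_lit 4, nat_lit 2, nat_lit 3, nat_lit 7, nat_lit 4, nat_lit 2, nat_lit 3, nat_lit 2, nat_lit 7, nat_lit 3, nat_lit 8, nat_lit 2, nat_lit 3, nat_lit 4, nat_lit 7, nat_lit 3, nat_lit 4, nat_lit 7, nat_lit 3, nat_lit 2, nat_lit 8, nat_lit 7, nat_lit 3, nat_lit 7, nat_lit 2, nat_lit 3])))
 (TT.n (TT.l (Ty.srel [nat_lit 3, nat_lit 5, nat_lit 3, nat_lit 5, nat_lit 3, nat_lit 5]))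
 (TT.l (Ty.relL (nat_lit 1) [nat_lit 3, nat_lit 6, nat_lit 7, nat_lit 3, nat_lit 1, nat_lit 3, nat_lit 7, nat_lit 3, nat_lit 0]))))
 (TT.n (TT.n (TT.l (Ty.relL (nat_lit 2) [nat_lit 3, nat_lit 1, nat_lit 2, nat_lit 3, nat_lit 1, nat_lit 2, nat_lit 3, nat_lit 1, nat_lit 2, nat_lit 3, nat_lit 1, nat_lit 2, nat_lit 3, nat_lit 1]))
 (TT.l (Ty.srel [nat_lit 2, nat_lit 0, nat_lit 2, nat_lit 0, nat_lit 2, nat_lit 0])))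
 (TT.n (TT.l (Ty.srel [nat_lit 0, nat_lit 1, nat_lit 0, nat_lit 1]))
 (TT.l (Ty.srel [nat_lit 1, nat_lit 3, nat_lit 1, nat_lit 2, nat_lit 1, nat_lit 6, nat_lit 5, nat_lit 3, nat_lit 2, nat_lit 6, nat_lit 2, nat_lit 3, nat_lit 5, nat_lit 6, nat_lit 1, nat_lit 2, nat_lit 3])))))
 (TT.n (TT.n (TT.n (TT.l (Ty.srel [nat_lit 7, nat_lit 3, nat_lit 1, nat_lit 3, nat_lit 7, nat_lit 6, nat_lit 3, nat_lit 1, nat_lit 0, nat_lit 3]))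
 (TT.l (Ty.srel [nat_lit 6, nat_lit 2, nat_lit 3, nat_lit 5, nat_lit 6, nat_lit 1, nat_lit 2, nat_lit 1, nat_lit 3, nat_lit 1, nat_lit 3, nat_lit 2, nat_lit 1, nat_lit 6, nat_lit 5, nat_lit 3, nat_lit 2])))
 (TT.n (TT.l (Ty.relL (nat_lit 3) [nat_lit 6, nat_lit 3, nat_lit 6]))
 (TT.l (Ty.relL (nat_lit 0) [nat_lit 3, nat_lit 7, nat_lit 3, nat_lit 1, nat_lit 3, nat_lit 7, nat_lit 6, nat_lit 3, nat_lit 1]))))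
 (TT.n (TT.n (TT.l (Ty.srel [nat_lit 5, nat_lit 3, nat_lit 1, nat_lit 5, nat_lit 3, nat_lit 1, nat_lit 5, nat_lit 3, nat_lit 1]))
 (TT.l (Ty.srel [nat_lit 6, nat_lit 2, nat_lit 8, nat_lit 6, nat_lit 2, nat_lit 6, nat_lit 2, nat_lit 8, nat_lit 2])))
 (TT.l (Ty.relL (nat_lit 6) [nat_lit 7, nat_lit 3, nat_lit 5, nat_lit 0, nat_lit 7, nat_lit 3, nat_lit 7, nat_lit 5, nat_lit 3, nat_lit 7, nat_lit 6, nat_lit 5, nat_lit 0, nat_lit 3, nat_lit 5])))))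
 (TT.n (TT.n (TT.n (TT.n (TT.l (Ty.srel [nat_lit 8, nat_lit 5, nat_lit 8, nat_lit 5, nat_lit 8, nat_lit 5]))
 (TT.l (Ty.relL (nat_lit 1) [nat_lit 7, nat_lit 1, nat_lit 7])))
 (TT.n (TT.l (Ty.relL (nat_lit 5) [nat_lit 2, nat_lit 6, nat_lit 5, nat_lit 2, nat_lit 6, nat_lit 2, nat_lit 5, nat_lit 6]))
 (TT.l (Ty.relL (nat_lit 6) [nat_lit 1, nat_lit 2, nat_lit 1, nat_lit 3, nat_lit 1, nat_lit 3, nat_lit 2, nat_lit 1, nat_lit 6, nat_lit 5, nat_lit 3, nat_lit 2, nat_lit 6, nat_lit 2, nat_lit 3, nat_lit 5]))))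
 (TT.n (TT.n (TT.l (Ty.srel [nat_lit 8, nat_lit 2, nat_lit 6, nat_lit 2, nat_lit 8, nat_lit 2, nat_lit 6, nat_lit 2, nat_lit 6]))
 (TT.l (Ty.srel [nat_lit 5, nat_lit 2, nat_lit 6, nat_lit 2, nat_lit 5, nat_lit 6, nat_lit 5, nat_lit 2, nat_lit 6])))
 (TT.l (Ty.srel [nat_lit 2, nat_lit 3, nat_lit 2, nat_lit 3, nat_lit 2, nat_lit 3]))))
 (TT.n (TT.n (TT.n (TT.l (Ty.relL (nat_lit 6) [nat_lit 3, nat_lit 6, nat_lit 3]))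
 (TT.l (Ty.srel [nat_lit 4, nat_lit 6, nat_lit 4, nat_lit 6])))
 (TT.n (TT.l (Ty.relL (nat_lit 6) [nat_lit 2, nat_lit 6, nat_lit 2, nat_lit 6, nat_lit 2, nat_lit 6, nat_lit 2]))
 (TT.l (Ty.relL (nat_lit 5) [nat_lit 6, nat_lit 1, nat_lit 2, nat_lit 3, nat_lit 1, nat_lit 3, nat_lit 1, nat_lit 2, nat_lit 1, nat_lit 6, nat_lit 5, nat_lit 3, nat_lit 2, nat_lit 6, nat_lit 2, nat_lit 3]))))
 (TT.n (TT.n (TT.l (Ty.relL (nat_lit 8) [nat_lit 2, nat_lit 8, nat_lit 2, nat_lit 8, nat_lit 2]))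
 (TT.l (Ty.relL (nat_lit 8) [nat_lit 2, nat_lit 6, nat_lit 2, nat_lit 6, nat_lit 8, nat_lit 2, nat_lit 6, nat_lit 2])))
 (TT.l (Ty.srel [nat_lit 4, nat_lit 8, nat_lit 3, nat_lit 2, nat_lit 8, nat_lit 2, nat_lit 3, nat_lit 4, nat_lit 2, nat_lit 3, nat_lit 2, nat_lit 8, nat_lit 2, nat_lit 3]))))))
 (TT.n (TT.n (TT.n (TT.n (TT.n (TT.l (Ty.srel [nat_lit 5, nat_lit 0, nat_lit 5, nat_lit 0, nat_lit 5, nat_lit 0]))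
 (TT.l (Ty.srel [nat_lit 3, nat_lit 2, nat_lit 4, nat_lit 3, nat_lit 2, nat_lit 8, nat_lit 2, nat_lit 3, nat_lit 8, nat_lit 4, nat_lit 3, nat_lit 2, nat_lit 8, nat_lit 2])))
 (TT.n (TT.l (Ty.srel [nat_lit 3, nat_lit 8, nat_lit 3, nat_lit 1, nat_lit 3, nat_lit 1, nat_lit 8, nat_lit 3, nat_lit 1]))
 (TT.l (Ty.srel [nat_lit 5, nat_lit 3, nat_lit 0, nat_lit 5, nat_lit 6, nat_lit 7, nat_lit 3, nat_lit 5, nat_lit 7, nat_lit 3, nat_lit 7, nat_lit 0, nat_lit 5, nat_lit 3, nat_lit 7, nat_lit 6]))))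
 (TT.n (TT.n (TT.l (Ty.srel [nat_lit 4, nat_lit 0, nat_lit 4, nat_lit 0]))
 (TT.l (Ty.relL (nat_lit 1) [nat_lit 3, nat_lit 8, nat_lit 3, nat_lit 1, nat_lit 3, nat_lit 8, nat_lit 1, nat_lit 3])))
 (TT.n (TT.l (Ty.relL (nat_lit 4) [nat_lit 7, nat_lit 4, nat_lit 7]))
 (TT.l (Ty.relL (nat_lit 2) [nat_lit 1, nat_lit 3, nat_lit 1, nat_lit 3, nat_lit 2, nat_lit 1, nat_lit 6, nat_lit 5, nat_lit 3, nat_lit 2, nat_lit 6, nat_lit 2, nat_lit 3, nat_lit 5, nat_lit 6, nat_lit 1])))))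
 (TT.n (TT.n (TT.n (TT.l (Ty.srel [nat_lit 3, nat_lit 0, nat_lit 1, nat_lit 3, nat_lit 6, nat_lit 7, nat_lit 3, nat_lit 1, nat_lit 3, nat_lit 7]))
 (TT.l (Ty.srel [nat_lit 6, nat_lit 5, nat_lit 0, nat_lit 7, nat_lit 8, nat_lit 5, nat_lit 6, nat_lit 2, nat_lit 0, nat_lit 8, nat_lit 2, nat_lit 6, nat_lit 5, nat_lit 8, nat_lit 0, nat_lit 5, nat_lit 6, nat_lit 2, nat_lit 8, nat_lit 0, nat_lit 2])))
 (TT.n (TT.l (Ty.relL (nat_lit 2) [nat_lit 3, nat_lit 2, nat_lit 3, nat_lit 2, nat_lit 3]))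
 (TT.l (Ty.relL (nat_lit 6) [nat_lit 3, nat_lit 1, nat_lit 0, nat_lit 3, nat_lit 7, nat_lit 3, nat_lit 1, nat_lit 3, nat_lit 7]))))
 (TT.n (TT.n (TT.l (Ty.srel [nat_lit 2, nat_lit 3, nat_lit 4, nat_lit 8, nat_lit 3, nat_lit 2, nat_lit 8, nat_lit 2, nat_lit 3, nat_lit 4, nat_lit 2, nat_lit 3, nat_lit 2, nat_lit 8]))
 (TT.l (Ty.relL (nat_lit 2) [nat_lit 6, nat_lit 2, nat_lit 6, nat_lit 8, nat_lit 2, nat_lit 6, nat_lit 2, nat_lit 8])))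
 (TT.l (Ty.srel [nat_lit 4, nat_lit 3, nat_lit 4, nat_lit 3, nat_lit 4, nat_lit 3])))))
 (TT.n (TT.n (TT.n (TT.n (TT.l (Ty.srel [nat_lit 1, nat_lit 3, nat_lit 7, nat_lit 3, nat_lit 0, nat_lit 1, nat_lit 3, nat_lit 6, nat_lit 7, nat_lit 3]))
 (TT.l (Ty.relL (nat_lit 3) [nat_lit 1, nat_lit 5, nat_lit 3, nat_lit 1, nat_lit 5, nat_lit 3, nat_lit 1, nat_lit 5])))
 (TT.n (TT.l (Ty.relL (nat_lit 1) [nat_lit 5, nat_lit 2, nat_lit 1, nat_lit 5, nat_lit 1, nat_lit 2, nat_lit 1, nat_lit 5]))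
 (TT.l (Ty.relL (nat_lit 3) [nat_lit 7, nat_lit 0, nat_lit 5, nat_lit 3, nat_lit 7, nat_lit 6, nat_lit 5, nat_lit 3, nat_lit 0, nat_lit 5, nat_lit 6, nat_lit 7, nat_lit 3, nat_lit 5, nat_lit 7]))))
 (TT.n (TT.n (TT.l (Ty.relL (nat_lit 2) [nat_lit 8, nat_lit 2, nat_lit 3, nat_lit 8, nat_lit 4, nat_lit 3, nat_lit 2, nat_lit 8, nat_lit 2, nat_lit 3, nat_lit 2, nat_lit 4, nat_lit 3]))
 (TT.l (Ty.relL (nat_lit 2) [nat_lit 1, nat_lit 5, nat_lit 1, nat_lit 2, nat_lit 1, nat_lit 5, nat_lit 1, nat_lit 5])))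
 (TT.l (Ty.srel [nat_lit 0, nat_lit 5, nat_lit 6, nat_lit 7, nat_lit 3, nat_lit 5, nat_lit 7, nat_lit 3, nat_lit 7, nat_lit 0, nat_lit 5, nat_lit 3, nat_lit 7, nat_lit 6, nat_lit 5, nat_lit 3]))))
 (TT.n (TT.n (TT.n (TT.l (Ty.relL (nat_lit 0) [nat_lit 1, nat_lit 0, nat_lit 1]))
 (TT.l (Ty.relL (nat_lit 8) [nat_lit 2, nat_lit 6, nat_lit 2, nat_lit 8, nat_lit 2, nat_lit 6, nat_lit 2, nat_lit 6])))
 (TT.n (TT.l (Ty.srel [nat_lit 1, nat_lit 3, nat_lit 5, nat_lit 1, nat_lit 3, nat_lit 5, nat_lit 1, nat_lit 3, nat_lit 5]))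
 (TT.l (Ty.srel [nat_lit 7, nat_lit 6, nat_lit 3, nat_lit 1, nat_lit 0, nat_lit 3, nat_lit 7, nat_lit 3, nat_lit 1, nat_lit 3]))))
 (TT.n (TT.n (TT.l (Ty.srel [nat_lit 4, nat_lit 3, nat_lit 2, nat_lit 8, nat_lit 3, nat_lit 7, nat_lit 2, nat_lit 3, nat_lit 2, nat_lit 4, nat_lit 7, nat_lit 3, nat_lit 2, nat_lit 4, nat_lit 7, nat_lit 3, nat_lit 2, nat_lit 7, nat_lit 3, nat_lit 7, nat_lit 8, nat_lit 2, nat_lit 3, nat_lit 7, nat_lit 4, nat_lit 3, nat_lit 7]))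
 (TT.l (Ty.relL (nat_lit 7) [nat_lit 3, nat_lit 1, nat_lit 3, nat_lit 7, nat_lit 3, nat_lit 0, nat_lit 1, nat_lit 3, nat_lit 6])))
 (TT.l (Ty.srel [nat_lit 6, nat_lit 2, nat_lit 6, nat_lit 2, nat_lit 8, nat_lit 2, nat_lit 6, nat_lit 2, nat_lit 8])))))))
 (TT.n (TT.n (TT.n (TT.n (TT.n (TT.n (TT.l (Ty.relL (nat_lit 1) [nat_lit 2, nat_lit 1, nat_lit 2, nat_lit 1, nat_lit 2]))
 (TT.l (Ty.srel [nat_lit 4, nat_lit 5, nat_lit 4, nat_lit 5])))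
 (TT.n (TT.l (Ty.srel [nat_lit 5, nat_lit 7, nat_lit 5, nat_lit 7]))
 (TT.l (Ty.srel [nat_lit 8, nat_lit 2, nat_lit 3, nat_lit 4, nat_lit 7, nat_lit 3, nat_lit 4, nat_lit 7, nat_lit 3, nat_lit 2, nat_lit 8, nat_lit 7, nat_lit 3, nat_lit 7, nat_lit 2, nat_lit 3, nat_lit 7, nat_lit 4, nat_lit 2, nat_lit 3, nat_lit 7, nat_lit 4, nat_lit 2, nat_lit 3, nat_lit 2, nat_lit 7, nat_lit 3]))))
 (TT.n (TT.n (TT.l (Ty.relL (nat_lit 3) [nat_lit 2, nat_lit 3, nat_lit 2, nat_lit 3, nat_lit 2]))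
 (TT.l (Ty.srel [nat_lit 5, nat_lit 1, nat_lit 2, nat_lit 1, nat_lit 5, nat_lit 1, nat_lit 5, nat_lit 2, nat_lit 1])))
 (TT.n (TT.l (Ty.relL (nat_lit 2) [nat_lit 8, nat_lit 2, nat_lit 3, nat_lit 2, nat_lit 4, nat_lit 3, nat_lit 2, nat_lit 8, nat_lit 2, nat_lit 3, nat_lit 8, nat_lit 4, nat_lit 3]))
 (TT.l (Ty.relL (nat_lit 3) [nat_lit 5, nat_lit 0, nat_lit 7, nat_lit 3, nat_lit 7, nat_lit 5, nat_lit 3, nat_lit 7, nat_lit 6, nat_lit 5, nat_lit 0, nat_lit 3, nat_lit 5, nat_lit 6, nat_lit 7])))))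
 (TT.n (TT.n (TT.n (TT.l (Ty.relL (nat_lit 1) [nat_lit 6, nat_lit 1, nat_lit 6]))
 (TT.l (Ty.srel [nat_lit 1, nat_lit 3, nat_lit 2, nat_lit 1, nat_lit 3, nat_lit 2, nat_lit 1, nat_lit 3, nat_lit 2, nat_lit 1, nat_lit 3, nat_lit 2, nat_lit 1, nat_lit 3, nat_lit 2])))
 (TT.n (TT.l (Ty.relL (nat_lit 3) [nat_lit 2, nat_lit 8, nat_lit 2, nat_lit 3, nat_lit 4, nat_lit 2, nat_lit 3, nat_lit 2, nat_lit 8, nat_lit 2, nat_lit 3, nat_lit 4, nat_lit 8]))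
 (TT.l (Ty.srel [nat_lit 3, nat_lit 7, nat_lit 2, nat_lit 3, nat_lit 2, nat_lit 4, nat_lit 7, nat_lit 3, nat_lit 2, nat_lit 4, nat_lit 7, nat_lit 3, nat_lit 2, nat_lit 7, nat_lit 3, nat_lit 7, nat_lit 8, nat_lit 2, nat_lit 3, nat_lit 7, nat_lit 4, nat_lit 3, nat_lit 7, nat_lit 4, nat_lit 3, nat_lit 2, nat_lit 8]))))
 (TT.n (TT.n (TT.l (Ty.srel [nat_lit 8, nat_lit 0, nat_lit 8, nat_lit 0]))
 (TT.l (Ty.srel [nat_lit 2, nat_lit 3, nat_lit 1, nat_lit 2, nat_lit 3, nat_lit 1, nat_lit 2, nat_lit 3, nat_lit 1, nat_lit 2, nat_lit 3, nat_lit 1, nat_lit 2, nat_lit 3, nat_lit 1])))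
 (TT.l (Ty.relL (nat_lit 5) [nat_lit 0, nat_lit 5, nat_lit 0, nat_lit 5, nat_lit 0])))))
 (TT.n (TT.n (TT.n (TT.n (TT.l (Ty.relL (nat_lit 3) [nat_lit 4, nat_lit 1, nat_lit 3, nat_lit 1, nat_lit 3, nat_lit 4, nat_lit 3, nat_lit 1]))
 (TT.l (Ty.srel [nat_lit 8, nat_lit 2, nat_lit 3, nat_lit 4, nat_lit 2, nat_lit 3, nat_lit 2, nat_lit 8, nat_lit 2, nat_lit 3, nat_lit 4, nat_lit 8, nat_lit 3, nat_lit 2])))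
 (TT.n (TT.l (Ty.srel [nat_lit 7, nat_lit 2, nat_lit 7, nat_lit 2]))
 (TT.l (Ty.relL (nat_lit 2) [nat_lit 5, nat_lit 6, nat_lit 5, nat_lit 2, nat_lit 6, nat_lit 5, nat_lit 2, nat_lit 6]))))
 (TT.n (TT.n (TT.l (Ty.srel [nat_lit 2, nat_lit 3, nat_lit 5, nat_lit 6, nat_lit 1, nat_lit 2, nat_lit 1, nat_lit 3, nat_lit 1, nat_lit 3, nat_lit 2, nat_lit 1, nat_lit 6, nat_lit 5, nat_lit 3, nat_lit 2, nat_lit 6]))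
 (TT.l (Ty.srel [nat_lit 5, nat_lit 2, nat_lit 6, nat_lit 5, nat_lit 2, nat_lit 6, nat_lit 2, nat_lit 5, nat_lit 6])))
 (TT.l (Ty.srel [nat_lit 6, nat_lit 3, nat_lit 6, nat_lit 3]))))
 (TT.n (TT.n (TT.n (TT.l (Ty.relL (nat_lit 6) [nat_lit 2, nat_lit 8, nat_lit 2, nat_lit 6, nat_lit 2, nat_lit 8, nat_lit 6, nat_lit 2]))
 (TT.l (Ty.srel [nat_lit 6, nat_lit 2, nat_lit 8, nat_lit 2, nat_lit 6, nat_lit 2, nat_lit 6, nat_lit 8, nat_lit 2])))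
 (TT.n (TT.l (Ty.relL (nat_lit 3) [nat_lit 4, nat_lit 3, nat_lit 4, nat_lit 3, nat_lit 4]))
 (TT.l (Ty.relL (nat_lit 6) [nat_lit 1, nat_lit 2, nat_lit 3, nat_lit 1, nat_lit 3, nat_lit 1, nat_lit 2, nat_lit 1, nat_lit 6, nat_lit 5, nat_lit 3, nat_lit 2, nat_lit 6, nat_lit 2, nat_lit 3, nat_lit 5]))))
 (TT.n (TT.n (TT.l (Ty.srel [nat_lit 1, nat_lit 0, nat_lit 3, nat_lit 7, nat_lit 3, nat_lit 1, nat_lit 3, nat_lit 7, nat_lit 6, nat_lit 3]))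
 (TT.l (Ty.relL (nat_lit 3) [nat_lit 0, nat_lit 5, nat_lit 6, nat_lit 7, nat_lit 3, nat_lit 5, nat_lit 7, nat_lit 3, nat_lit 7, nat_lit 0, nat_lit 5, nat_lit 3, nat_lit 7, nat_lit 6, nat_lit 5])))
 (TT.l (Ty.srel [nat_lit 3, nat_lit 2, nat_lit 8, nat_lit 2, nat_lit 3, nat_lit 4, nat_lit 2, nat_lit 3, nat_lit 2, nat_lit 8, nat_lit 2, nat_lit 3, nat_lit 4, nat_lit 8]))))))
 (TT.n (TT.n (TT.n (TT.n (TT.n (TT.l (Ty.relL (nat_lit 2) [nat_lit 8, nat_lit 2, nat_lit 8, nat_lit 2, nat_lit 8]))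
 (TT.l (Ty.srel [nat_lit 3, nat_lit 8, nat_lit 3, nat_lit 1, nat_lit 3, nat_lit 8, nat_lit 1, nat_lit 3, nat_lit 1])))
 (TT.n (TT.l (Ty.srel [nat_lit 1, nat_lit 2, nat_lit 3, nat_lit 2, nat_lit 0, nat_lit 1, nat_lit 2, nat_lit 3, nat_lit 2, nat_lit 1, nat_lit 0, nat_lit 2, nat_lit 3, nat_lit 2, nat_lit 1, nat_lit 0, nat_lit 2, nat_lit 3, nat_lit 2, nat_lit 0, nat_lit 1, nat_lit 2, nat_lit 3, nat_lit 2, nat_lit 0]))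
 (TT.l (Ty.relL (nat_lit 5) [nat_lit 6, nat_lit 5, nat_lit 2, nat_lit 6, nat_lit 5, nat_lit 2, nat_lit 6, nat_lit 2]))))
 (TT.n (TT.n (TT.l (Ty.srel [nat_lit 8, nat_lit 7, nat_lit 8, nat_lit 7]))
 (TT.l (Ty.relL (nat_lit 1) [nat_lit 3, nat_lit 1, nat_lit 3, nat_lit 1, nat_lit 3, nat_lit 1, nat_lit 3])))
 (TT.n (TT.l (Ty.relL (nat_lit 3) [nat_lit 7, nat_lit 6, nat_lit 3, nat_lit 1, nat_lit 0, nat_lit 3, nat_lit 7, nat_lit 3, nat_lit 1]))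
 (TT.l (Ty.relL (nat_lit 0) [nat_lit 1, nat_lit 2, nat_lit 0, nat_lit 1, nat_lit 3, nat_lit 1, nat_lit 2, nat_lit 0, nat_lit 1, nat_lit 3, nat_lit 1, nat_lit 2, nat_lit 1, nat_lit 3, nat_lit 1, nat_lit 0, nat_lit 2, nat_lit 1, nat_lit 3, nat_lit 1, nat_lit 0, nat_lit 2, nat_lit 1, nat_lit 3])))))
 (TT.n (TT.n (TT.n (TT.l (Ty.srel [nat_lit 0, nat_lit 3, nat_lit 0, nat_lit 3]))
 (TT.l (Ty.srel [nat_lit 7, nat_lit 8, nat_lit 7, nat_lit 8])))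
 (TT.n (TT.l (Ty.srel [nat_lit 3, nat_lit 8, nat_lit 3, nat_lit 8, nat_lit 3, nat_lit 8]))
 (TT.l (Ty.relL (nat_lit 8) [nat_lit 2, nat_lit 3, nat_lit 4, nat_lit 7, nat_lit 3, nat_lit 4, nat_lit 7, nat_lit 3, nat_lit 2, nat_lit 8, nat_lit 7, nat_lit 3, nat_lit 7, nat_lit 2, nat_lit 3, nat_lit 7, nat_lit 4, nat_lit 2, nat_lit 3, nat_lit 7, nat_lit 4, nat_lit 2, nat_lit 3, nat_lit 2, nat_lit 7, nat_lit 3]))))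
 (TT.n (TT.n (TT.l (Ty.srel [nat_lit 2, nat_lit 5, nat_lit 6, nat_lit 5, nat_lit 2, nat_lit 6, nat_lit 2, nat_lit 5, nat_lit 6]))
 (TT.l (Ty.relL (nat_lit 4) [nat_lit 3, nat_lit 4, nat_lit 3, nat_lit 4, nat_lit 3])))
 (TT.l (Ty.srel [nat_lit 7, nat_lit 3, nat_lit 7, nat_lit 3, nat_lit 7, nat_lit 3, nat_lit 7, nat_lit 3])))))
 (TT.n (TT.n (TT.n (TT.n (TT.l (Ty.srel [nat_lit 3, nat_lit 1, nat_lit 2, nat_lit 3, nat_lit 1, nat_lit 2, nat_lit 3, nat_lit 1, nat_lit 2, nat_lit 3, nat_lit 1, nat_lit 2, nat_lit 3, nat_lit 1, nat_lit 2]))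
 (TT.l (Ty.srel [nat_lit 4, nat_lit 3, nat_lit 2, nat_lit 8, nat_lit 2, nat_lit 3, nat_lit 2, nat_lit 4, nat_lit 3, nat_lit 2, nat_lit 8, nat_lit 2, nat_lit 3, nat_lit 8])))
 (TT.n (TT.l (Ty.srel [nat_lit 2, nat_lit 3, nat_lit 2, nat_lit 8, nat_lit 2, nat_lit 3, nat_lit 4, nat_lit 8, nat_lit 3, nat_lit 2, nat_lit 8, nat_lit 2, nat_lit 3, nat_lit 4]))
 (TT.l (Ty.srel [nat_lit 2, nat_lit 6, nat_lit 5, nat_lit 2, nat_lit 6, nat_lit 2, nat_lit 5, nat_lit 6, nat_lit 5]))))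
 (TT.n (TT.n (TT.l (Ty.relL (nat_lit 7) [nat_lit 3, nat_lit 1, nat_lit 3, nat_lit 7, nat_lit 6, nat_lit 3, nat_lit 1, nat_lit 0, nat_lit 3]))
 (TT.l (Ty.relL (nat_lit 5) [nat_lit 2, nat_lit 1, nat_lit 5, nat_lit 1, nat_lit 2, nat_lit 1, nat_lit 5, nat_lit 1])))
 (TT.l (Ty.relL (nat_lit 3) [nat_lit 2, nat_lit 1, nat_lit 3, nat_lit 2, nat_lit 1, nat_lit 3, nat_lit 2, nat_lit 1, nat_lit 3, nat_lit 2, nat_lit 1, nat_lit 3, nat_lit 2, nat_lit 1]))))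
 (TT.n (TT.n (TT.n (TT.l (Ty.srel [nat_lit 2, nat_lit 7, nat_lit 2, nat_lit 7]))
 (TT.l (Ty.srel [nat_lit 1, nat_lit 8, nat_lit 1, nat_lit 8])))
 (TT.n (TT.l (Ty.srel [nat_lit 3, nat_lit 2, nat_lit 8, nat_lit 2, nat_lit 3, nat_lit 4, nat_lit 8, nat_lit 3, nat_lit 2, nat_lit 8, nat_lit 2, nat_lit 3, nat_lit 4, nat_lit 2]))
 (TT.l (Ty.relL (nat_lit 4) [nat_lit 3, nat_lit 5, nat_lit 4, nat_lit 2, nat_lit 3, nat_lit 7, nat_lit 4, nat_lit 3, nat_lit 5, nat_lit 4, nat_lit 2, nat_lit 3, nat_lit 7, nat_lit 4, nat_lit 3, nat_lit 5, nat_lit 4, nat_lit 2, nat_lit 3, nat_lit 7, nat_lit 4, nat_lit 3, nat_lit 5, nat_lit 4, nat_lit 2, nat_lit 3, nat_lit 7, nat_lit 4, nat_lit 3, nat_lit 5, nat_lit 4, nat_lit 2, nat_lit 3, nat_lit 7]))))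
 (TT.n (TT.n (TT.l (Ty.srel [nat_lit 6, nat_lit 5, nat_lit 3, nat_lit 0, nat_lit 5, nat_lit 6, nat_lit 7, nat_lit 3, nat_lit 5, nat_lit 7, nat_lit 3, nat_lit 7, nat_lit 0, nat_lit 5, nat_lit 3, nat_lit 7]))
 (TT.l (Ty.srel [nat_lit 6, nat_lit 1, nat_lit 2, nat_lit 1, nat_lit 3, nat_lit 1, nat_lit 3, nat_lit 2, nat_lit 1, nat_lit 6, nat_lit 5, nat_lit 3, nat_lit 2, nat_lit 6, nat_lit 2, nat_lit 3, nat_lit 5])))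
 (TT.l (Ty.relL (nat_lit 7) [nat_lit 4, nat_lit 7, nat_lit 4]))))))))
 (TT.n (TT.n (TT.n (TT.n (TT.n (TT.n (TT.n (TT.l (Ty.relL (nat_lit 1) [nat_lit 3, nat_lit 1, nat_lit 3, nat_lit 8, nat_lit 3, nat_lit 1, nat_lit 3, nat_lit 8]))
 (TT.l (Ty.relL (nat_lit 5) [nat_lit 3, nat_lit 5, nat_lit 3, nat_lit 5, nat_lit 3])))
 (TT.n (TT.l (Ty.srel [nat_lit 1, nat_lit 5, nat_lit 1, nat_lit 2, nat_lit 1, nat_lit 5, nat_lit 1, nat_lit 5, nat_lit 2]))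
 (TT.l (Ty.relL (nat_lit 8) [nat_lit 1, nat_lit 3, nat_lit 1, nat_lit 3, nat_lit 8, nat_lit 3, nat_lit 1, nat_lit 3]))))
 (TT.n (TT.n (TT.l (Ty.srel [nat_lit 4, nat_lit 2, nat_lit 4, nat_lit 2]))
 (TT.l (Ty.srel [nat_lit 8, nat_lit 1, nat_lit 3, nat_lit 1, nat_lit 3, nat_lit 8, nat_lit 3, nat_lit 1, nat_lit 3])))
 (TT.n (TT.l (Ty.relL (nat_lit 5) [nat_lit 2, nat_lit 5, nat_lit 2]))
 (TT.l (Ty.relL (nat_lit 2) [nat_lit 4, nat_lit 3, nat_lit 2, nat_lit 8, nat_lit 2, nat_lit 3, nat_lit 8, nat_lit 4, nat_lit 3, nat_lit 2, nat_lit 8, nat_lit 2, nat_lit 3])))))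
 (TT.n (TT.n (TT.n (TT.l (Ty.srel [nat_lit 6, nat_lit 0, nat_lit 2, nat_lit 6, nat_lit 3, nat_lit 2, nat_lit 6, nat_lit 0, nat_lit 2, nat_lit 3, nat_lit 6, nat_lit 2, nat_lit 0, nat_lit 6, nat_lit 2, nat_lit 3, nat_lit 6, nat_lit 2]))
 (TT.l (Ty.relL (nat_lit 7) [nat_lit 0, nat_lit 7, nat_lit 0])))
 (TT.n (TT.l (Ty.relL (nat_lit 8) [nat_lit 3, nat_lit 8, nat_lit 3, nat_lit 8, nat_lit 3]))
 (TT.l (Ty.relL (nat_lit 3) [nat_lit 1, nat_lit 3, nat_lit 7, nat_lit 3, nat_lit 0, nat_lit 1, nat_lit 3, nat_lit 6, nat_lit 7]))))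
 (TT.n (TT.n (TT.l (Ty.srel [nat_lit 2, nat_lit 8, nat_lit 2, nat_lit 8, nat_lit 2, nat_lit 8]))
 (TT.l (Ty.srel [nat_lit 1, nat_lit 3, nat_lit 4, nat_lit 1, nat_lit 3, nat_lit 1, nat_lit 3, nat_lit 4, nat_lit 3])))
 (TT.l (Ty.srel [nat_lit 2, nat_lit 3, nat_lit 4, nat_lit 7, nat_lit 3, nat_lit 4, nat_lit 7, nat_lit 3, nat_lit 2, nat_lit 8, nat_lit 7, nat_lit 3, nat_lit 7, nat_lit 2, nat_lit 3, nat_lit 7, nat_lit 4, nat_lit 2, nat_lit 3, nat_lit 7, nat_lit 4, nat_lit 2, nat_lit 3, nat_lit 2, nat_lit 7, nat_lit 3, nat_lit 8])))))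
 (TT.n (TT.n (TT.n (TT.n (TT.l (Ty.relL (nat_lit 7) [nat_lit 5, nat_lit 7, nat_lit 5]))
 (TT.l (Ty.srel [nat_lit 1, nat_lit 2, nat_lit 1, nat_lit 5, nat_lit 1, nat_lit 5, nat_lit 2, nat_lit 1, nat_lit 5])))
 (TT.n (TT.l (Ty.srel [nat_lit 8, nat_lit 1, nat_lit 8, nat_lit 1]))
 (TT.l (Ty.relL (nat_lit 8) [nat_lit 3, nat_lit 1, nat_lit 3, nat_lit 8, nat_lit 1, nat_lit 3, nat_lit 1, nat_lit 3]))))
 (TT.n (TT.n (TT.l (Ty.srel [nat_lit 8, nat_lit 5, nat_lit 6, nat_lit 2, nat_lit 8, nat_lit 0, nat_lit 2, nat_lit 6, nat_lit 5, nat_lit 8, nat_lit 7, nat_lit 0, nat_lit 5, nat_lit 6, nat_lit 2, nat_lit 0, nat_lit 8, nat_lit 2, nat_lit 6, nat_lit 5, nat_lit 0]))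
 (TT.l (Ty.srel [nat_lit 0, nat_lit 2, nat_lit 6, nat_lit 3, nat_lit 2, nat_lit 6, nat_lit 0, nat_lit 2, nat_lit 3, nat_lit 6, nat_lit 2, nat_lit 0, nat_lit 6, nat_lit 2, nat_lit 3, nat_lit 6, nat_lit 2, nat_lit 6])))
 (TT.l (Ty.srel [nat_lit 4, nat_lit 3, nat_lit 1, nat_lit 3, nat_lit 1, nat_lit 4, nat_lit 3, nat_lit 1, nat_lit 3]))))
 (TT.n (TT.n (TT.n (TT.l (Ty.relL (nat_lit 1) [nat_lit 2, nat_lit 3, nat_lit 1, nat_lit 2, nat_lit 3, nat_lit 1, nat_lit 2, nat_lit 3, nat_lit 1, nat_lit 2, nat_lit 3, nat_lit 1, nat_lit 2, nat_lit 3]))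
 (TT.l (Ty.relL (nat_lit 2) [nat_lit 6, nat_lit 2, nat_lit 8, nat_lit 2, nat_lit 6, nat_lit 2, nat_lit 6, nat_lit 8])))
 (TT.n (TT.l (Ty.srel [nat_lit 5, nat_lit 3, nat_lit 5, nat_lit 3, nat_lit 5, nat_lit 3]))
 (TT.l (Ty.srel [nat_lit 4, nat_lit 7, nat_lit 3, nat_lit 2, nat_lit 4, nat_lit 5, nat_lit 3, nat_lit 4, nat_lit 7, nat_lit 3, nat_lit 2, nat_lit 4, nat_lit 5, nat_lit 3, nat_lit 4, nat_lit 7, nat_lit 3, nat_lit 2, nat_lit 4, nat_lit 5, nat_lit 3, nat_lit 4, nat_lit 7, nat_lit 3, nat_lit 2, nat_lit 4, nat_lit 5, nat_lit 3, nat_lit 4, nat_lit 7, nat_lit 3, nat_lit 2, nat_lit 4, nat_lit 5, nat_lit 3]))))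
 (TT.n (TT.n (TT.l (Ty.relL (nat_lit 3) [nat_lit 0, nat_lit 3, nat_lit 0]))
 (TT.l (Ty.srel [nat_lit 7, nat_lit 3, nat_lit 7, nat_lit 8, nat_lit 2, nat_lit 3, nat_lit 7, nat_lit 4, nat_lit 3, nat_lit 7, nat_lit 4, nat_lit 3, nat_lit 2, nat_lit 8, nat_lit 3, nat_lit 7, nat_lit 2, nat_lit 3, nat_lit 2, nat_lit 4, nat_lit 7, nat_lit 3, nat_lit 2, nat_lit 4, nat_lit 7, nat_lit 3, nat_lit 2])))
 (TT.l (Ty.relL (nat_lit 3) [nat_lit 2, nat_lit 8, nat_lit 2, nat_lit 3, nat_lit 8, nat_lit 4, nat_lit 3, nat_lit 2, nat_lit 8, nat_lit 2, nat_lit 3, nat_lit 2, nat_lit 4]))))))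
 (TT.n (TT.n (TT.n (TT.n (TT.n (TT.l (Ty.relL (nat_lit 4) [nat_lit 8, nat_lit 4, nat_lit 8]))
 (TT.l (Ty.srel [nat_lit 1, nat_lit 3, nat_lit 1, nat_lit 3, nat_lit 8, nat_lit 3, nat_lit 1, nat_lit 3, nat_lit 8])))
 (TT.n (TT.l (Ty.relL (nat_lit 1) [nat_lit 3, nat_lit 5, nat_lit 1, nat_lit 3, nat_lit 5, nat_lit 1, nat_lit 3, nat_lit 5]))
 (TT.l (Ty.srel [nat_lit 0, nat_lit 2, nat_lit 6, nat_lit 5, nat_lit 0, nat_lit 7, nat_lit 8, nat_lit 5, nat_lit 6, nat_lit 2, nat_lit 0, nat_lit 8, nat_lit 2, nat_lit 6, nat_lit 5, nat_lit 8, nat_lit 0, nat_lit 5, nat_lit 6, nat_lit 2, nat_lit 8]))))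
 (TT.n (TT.n (TT.l (Ty.relL (nat_lit 4) [nat_lit 6, nat_lit 4, nat_lit 6]))
 (TT.l (Ty.srel [nat_lit 3, nat_lit 5, nat_lit 6, nat_lit 1, nat_lit 2, nat_lit 3, nat_lit 1, nat_lit 3, nat_lit 1, nat_lit 2, nat_lit 1, nat_lit 6, nat_lit 5, nat_lit 3, nat_lit 2, nat_lit 6, nat_lit 2])))
 (TT.n (TT.l (Ty.srel [nat_lit 7, nat_lit 0, nat_lit 5, nat_lit 3, nat_lit 7, nat_lit 6, nat_lit 5, nat_lit 3, nat_lit 0, nat_lit 5, nat_lit 6, nat_lit 7, nat_lit 3, nat_lit 5, nat_lit 7, nat_lit 3]))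
 (TT.l (Ty.relL (nat_lit 7) [nat_lit 4, nat_lit 3, nat_lit 5, nat_lit 4, nat_lit 2, nat_lit 3, nat_lit 7, nat_lit 4, nat_lit 3, nat_lit 5, nat_lit 4, nat_lit 2, nat_lit 3, nat_lit 7, nat_lit 4, nat_lit 3, nat_lit 5, nat_lit 4, nat_lit 2, nat_lit 3, nat_lit 7, nat_lit 4, nat_lit 3, nat_lit 5, nat_lit 4, nat_lit 2, nat_lit 3, nat_lit 7, nat_lit 4, nat_lit 3, nat_lit 5, nat_lit 4, nat_lit 2, nat_lit 3])))))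
 (TT.n (TT.n (TT.n (TT.l (Ty.relL (nat_lit 3) [nat_lit 8, nat_lit 3, nat_lit 8, nat_lit 3, nat_lit 8]))
 (TT.l (Ty.relL (nat_lit 3) [nat_lit 1, nat_lit 8, nat_lit 3, nat_lit 1, nat_lit 3, nat_lit 8, nat_lit 3, nat_lit 1])))
 (TT.n (TT.l (Ty.srel [nat_lit 5, nat_lit 1, nat_lit 5, nat_lit 1, nat_lit 2, nat_lit 1, nat_lit 5, nat_lit 1, nat_lit 2]))
 (TT.l (Ty.relL (nat_lit 1) [nat_lit 5, nat_lit 1, nat_lit 2, nat_lit 1, nat_lit 5, nat_lit 1, nat_lit 5, nat_lit 2]))))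
 (TT.n (TT.n (TT.l (Ty.srel [nat_lit 3, nat_lit 5, nat_lit 1, nat_lit 3, nat_lit 5, nat_lit 1, nat_lit 3, nat_lit 5, nat_lit 1]))
 (TT.l (Ty.srel [nat_lit 6, nat_lit 5, nat_lit 2, nat_lit 6, nat_lit 2, nat_lit 5, nat_lit 6, nat_lit 2, nat_lit 5])))
 (TT.l (Ty.srel [nat_lit 6, nat_lit 0, nat_lit 6, nat_lit 0])))))
 (TT.n (TT.n (TT.n (TT.n (TT.l (Ty.relL (nat_lit 5) [nat_lit 6, nat_lit 5, nat_lit 6, nat_lit 5, nat_lit 6]))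
 (TT.l (Ty.srel [nat_lit 2, nat_lit 3, nat_lit 4, nat_lit 2, nat_lit 3, nat_lit 2, nat_lit 8, nat_lit 2, nat_lit 3, nat_lit 4, nat_lit 8, nat_lit 3, nat_lit 2, nat_lit 8])))
 (TT.n (TT.l (Ty.relL (nat_lit 8) [nat_lit 5, nat_lit 8, nat_lit 5, nat_lit 8, nat_lit 5]))
 (TT.l (Ty.relL (nat_lit 3) [nat_lit 2, nat_lit 6, nat_lit 0, nat_lit 2, nat_lit 3, nat_lit 6, nat_lit 2, nat_lit 0, nat_lit 6, nat_lit 2, nat_lit 3, nat_lit 6, nat_lit 2, nat_lit 6, nat_lit 0, nat_lit 2, nat_lit 6]))))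
 (TT.n (TT.n (TT.l (Ty.relL (nat_lit 3) [nat_lit 1, nat_lit 3, nat_lit 4, nat_lit 3, nat_lit 1, nat_lit 3, nat_lit 4, nat_lit 1]))
 (TT.l (Ty.relL (nat_lit 2) [nat_lit 0, nat_lit 6, nat_lit 2, nat_lit 3, nat_lit 6, nat_lit 2, nat_lit 6, nat_lit 0, nat_lit 2, nat_lit 6, nat_lit 3, nat_lit 2, nat_lit 6, nat_lit 0, nat_lit 2, nat_lit 3, nat_lit 6])))
 (TT.l (Ty.srel [nat_lit 2, nat_lit 1, nat_lit 5, nat_lit 1, nat_lit 5, nat_lit 2, nat_lit 1, nat_lit 5, nat_lit 1]))))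
 (TT.n (TT.n (TT.n (TT.l (Ty.srel [nat_lit 6, nat_lit 4, nat_lit 6, nat_lit 4]))
 (TT.l (Ty.srel [nat_lit 1, nat_lit 8, nat_lit 3, nat_lit 1, nat_lit 3, nat_lit 8, nat_lit 3, nat_lit 1, nat_lit 3])))
 (TT.n (TT.l (Ty.relL (nat_lit 3) [nat_lit 1, nat_lit 3, nat_lit 1, nat_lit 8, nat_lit 3, nat_lit 1, nat_lit 3, nat_lit 8]))
 (TT.l (Ty.srel [nat_lit 4, nat_lit 3, nat_lit 2, nat_lit 8, nat_lit 2, nat_lit 3, nat_lit 8, nat_lit 4, nat_lit 3, nat_lit 2, nat_lit 8, nat_lit 2, nat_lit 3, nat_lit 2]))))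
 (TT.n (TT.n (TT.l (Ty.srel [nat_lit 5, nat_lit 3, nat_lit 2, nat_lit 6, nat_lit 2, nat_lit 3, nat_lit 5, nat_lit 6, nat_lit 1, nat_lit 2, nat_lit 1, nat_lit 3, nat_lit 1, nat_lit 3, nat_lit 2, nat_lit 1, nat_lit 6]))
 (TT.l (Ty.srel [nat_lit 3, nat_lit 6, nat_lit 2, nat_lit 6, nat_lit 0, nat_lit 2, nat_lit 6, nat_lit 3, nat_lit 2, nat_lit 6, nat_lit 0, nat_lit 2, nat_lit 3, nat_lit 6, nat_lit 2, nat_lit 0, nat_lit 6, nat_lit 2])))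
 (TT.l (Ty.relL (nat_lit 2) [nat_lit 3, nat_lit 4, nat_lit 2, nat_lit 3, nat_lit 2, nat_lit 8, nat_lit 2, nat_lit 3, nat_lit 4, nat_lit 8, nat_lit 3, nat_lit 2, nat_lit 8])))))))
 (TT.n (TT.n (TT.n (TT.n (TT.n (TT.n (TT.l (Ty.relL (nat_lit 3) [nat_lit 8, nat_lit 1, nat_lit 3, nat_lit 1, nat_lit 3, nat_lit 8, nat_lit 3, nat_lit 1]))
 (TT.l (Ty.srel [nat_lit 3, nat_lit 4, nat_lit 8, nat_lit 3, nat_lit 2, nat_lit 8, nat_lit 2, nat_lit 3, nat_lit 4, nat_lit 2, nat_lit 3, nat_lit 2, nat_lit 8, nat_lit 2])))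
 (TT.n (TT.l (Ty.relL (nat_lit 3) [nat_lit 1, nat_lit 3, nat_lit 7, nat_lit 6, nat_lit 3, nat_lit 1, nat_lit 0, nat_lit 3, nat_lit 7]))
 (TT.l (Ty.srel [nat_lit 2, nat_lit 8, nat_lit 2, nat_lit 3, nat_lit 4, nat_lit 2, nat_lit 3, nat_lit 2, nat_lit 8, nat_lit 2, nat_lit 3, nat_lit 4, nat_lit 8, nat_lit 3]))))
 (TT.n (TT.n (TT.l (Ty.srel [nat_lit 6, nat_lit 0, nat_lit 2, nat_lit 3, nat_lit 6, nat_lit 2, nat_lit 0, nat_lit 6, nat_lit 2, nat_lit 3, nat_lit 6, nat_lit 2, nat_lit 6, nat_lit 0, nat_lit 2, nat_lit 6, nat_lit 3, nat_lit 2]))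
 (TT.l (Ty.srel [nat_lit 2, nat_lit 6, nat_lit 5, nat_lit 0, nat_lit 8, nat_lit 5, nat_lit 6, nat_lit 2, nat_lit 8, nat_lit 0, nat_lit 2, nat_lit 6, nat_lit 5, nat_lit 8, nat_lit 7, nat_lit 0, nat_lit 5, nat_lit 6, nat_lit 2, nat_lit 0, nat_lit 8])))
 (TT.n (TT.l (Ty.relL (nat_lit 6) [nat_lit 4, nat_lit 6, nat_lit 4]))
 (TT.l (Ty.relL (nat_lit 7) [nat_lit 0, nat_lit 5, nat_lit 3, nat_lit 7, nat_lit 6, nat_lit 5, nat_lit 3, nat_lit 0, nat_lit 5, nat_lit 6, nat_lit 7, nat_lit 3, nat_lit 5, nat_lit 7, nat_lit 3])))))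
 (TT.n (TT.n (TT.n (TT.l (Ty.relL (nat_lit 2) [nat_lit 1, nat_lit 2, nat_lit 1, nat_lit 2, nat_lit 1]))
 (TT.l (Ty.srel [nat_lit 2, nat_lit 6, nat_lit 2, nat_lit 8, nat_lit 6, nat_lit 2, nat_lit 6, nat_lit 2, nat_lit 8])))
 (TT.n (TT.l (Ty.srel [nat_lit 6, nat_lit 1, nat_lit 2, nat_lit 3, nat_lit 1, nat_lit 3, nat_lit 1, nat_lit 2, nat_lit 1, nat_lit 6, nat_lit 5, nat_lit 3, nat_lit 2, nat_lit 6, nat_lit 2, nat_lit 3, nat_lit 5]))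
 (TT.l (Ty.srel [nat_lit 7, nat_lit 6, nat_lit 5, nat_lit 3, nat_lit 0, nat_lit 5, nat_lit 6, nat_lit 7, nat_lit 3, nat_lit 5, nat_lit 7, nat_lit 3, nat_lit 7, nat_lit 0, nat_lit 5, nat_lit 3]))))
 (TT.n (TT.n (TT.l (Ty.srel [nat_lit 8, nat_lit 6, nat_lit 8, nat_lit 6]))
 (TT.l (Ty.relL (nat_lit 3) [nat_lit 1, nat_lit 2, nat_lit 3, nat_lit 1, nat_lit 2, nat_lit 3, nat_lit 1, nat_lit 2, nat_lit 3, nat_lit 1, nat_lit 2, nat_lit 3, nat_lit 1, nat_lit 2])))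
 (TT.l (Ty.srel [nat_lit 6, nat_lit 5, nat_lit 0, nat_lit 3, nat_lit 5, nat_lit 6, nat_lit 7, nat_lit 3, nat_lit 5, nat_lit 0, nat_lit 7, nat_lit 3, nat_lit 7, nat_lit 5, nat_lit 3, nat_lit 7])))))
 (TT.n (TT.n (TT.n (TT.n (TT.l (Ty.srel [nat_lit 1, nat_lit 5, nat_lit 1, nat_lit 2, nat_lit 5, nat_lit 1, nat_lit 5, nat_lit 1, nat_lit 2]))
 (TT.l (Ty.srel [nat_lit 1, nat_lit 0, nat_lit 1, nat_lit 0])))
 (TT.n (TT.l (Ty.srel [nat_lit 2, nat_lit 5, nat_lit 2, nat_lit 5]))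
 (TT.l (Ty.srel [nat_lit 5, nat_lit 3, nat_lit 7, nat_lit 6, nat_lit 5, nat_lit 3, nat_lit 0, nat_lit 5, nat_lit 6, nat_lit 7, nat_lit 3, nat_lit 5, nat_lit 7, nat_lit 3, nat_lit 7, nat_lit 0]))))
 (TT.n (TT.n (TT.l (Ty.srel [nat_lit 2, nat_lit 8, nat_lit 2, nat_lit 3, nat_lit 8, nat_lit 4, nat_lit 3, nat_lit 2, nat_lit 8, nat_lit 2, nat_lit 3, nat_lit 2, nat_lit 4, nat_lit 3]))
 (TT.l (Ty.srel [nat_lit 4, nat_lit 3, nat_lit 1, nat_lit 3, nat_lit 4, nat_lit 3, nat_lit 1, nat_lit 3, nat_lit 1])))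
 (TT.l (Ty.relL (nat_lit 2) [nat_lit 5, nat_lit 1, nat_lit 5, nat_lit 1, nat_lit 2, nat_lit 1, nat_lit 5, nat_lit 1]))))
 (TT.n (TT.n (TT.n (TT.l (Ty.relL (nat_lit 2) [nat_lit 0, nat_lit 2, nat_lit 0, nat_lit 2, nat_lit 0]))
 (TT.l (Ty.srel [nat_lit 5, nat_lit 1, nat_lit 2, nat_lit 5, nat_lit 1, nat_lit 5, nat_lit 1, nat_lit 2, nat_lit 1])))
 (TT.n (TT.l (Ty.srel [nat_lit 2, nat_lit 8, nat_lit 2, nat_lit 3, nat_lit 4, nat_lit 8, nat_lit 3, nat_lit 2, nat_lit 8, nat_lit 2, nat_lit 3, nat_lit 4, nat_lit 2, nat_lit 3]))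
 (TT.l (Ty.relL (nat_lit 5) [nat_lit 0, nat_lit 3, nat_lit 1, nat_lit 2, nat_lit 3, nat_lit 2, nat_lit 1, nat_lit 3, nat_lit 1, nat_lit 0, nat_lit 5, nat_lit 2, nat_lit 3, nat_lit 1, nat_lit 3, nat_lit 0, nat_lit 2, nat_lit 1, nat_lit 0, nat_lit 3, nat_lit 1, nat_lit 3, nat_lit 2]))))
 (TT.n (TT.n (TT.l (Ty.srel [nat_lit 3, nat_lit 6, nat_lit 3, nat_lit 6]))
 (TT.l (Ty.srel [nat_lit 3, nat_lit 7, nat_lit 3, nat_lit 0, nat_lit 1, nat_lit 3, nat_lit 6, nat_lit 7, nat_lit 3, nat_lit 1])))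
 (TT.l (Ty.srel [nat_lit 1, nat_lit 6, nat_lit 1, nat_lit 6]))))))
 (TT.n (TT.n (TT.n (TT.n (TT.n (TT.l (Ty.relL (nat_lit 4) [nat_lit 1, nat_lit 3, nat_lit 1, nat_lit 3, nat_lit 4, nat_lit 3, nat_lit 1, nat_lit 3]))
 (TT.l (Ty.relL (nat_lit 7) [nat_lit 3, nat_lit 0, nat_lit 1, nat_lit 3, nat_lit 6, nat_lit 7, nat_lit 3, nat_lit 1, nat_lit 3])))
 (TT.n (TT.l (Ty.srel [nat_lit 7, nat_lit 0, nat_lit 7, nat_lit 0]))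
 (TT.l (Ty.srel [nat_lit 8, nat_lit 3, nat_lit 1, nat_lit 3, nat_lit 8, nat_lit 3, nat_lit 1, nat_lit 3, nat_lit 1]))))
 (TT.n (TT.n (TT.l (Ty.srel [nat_lit 6, nat_lit 7, nat_lit 6, nat_lit 7]))
 (TT.l (Ty.relL (nat_lit 8) [nat_lit 3, nat_lit 2, nat_lit 8, nat_lit 2, nat_lit 3, nat_lit 4, nat_lit 2, nat_lit 3, nat_lit 2, nat_lit 8, nat_lit 2, nat_lit 3, nat_lit 4])))
 (TT.n (TT.l (Ty.relL (nat_lit 1) [nat_lit 5, nat_lit 1, nat_lit 2, nat_lit 1, nat_lit 5, nat_lit 1, nat_lit 2, nat_lit 5]))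
 (TT.l (Ty.relL (nat_lit 5) [nat_lit 3, nat_lit 0, nat_lit 5, nat_lit 6, nat_lit 7, nat_lit 3, nat_lit 5, nat_lit 7, nat_lit 3, nat_lit 7, nat_lit 0, nat_lit 5, nat_lit 3, nat_lit 7, nat_lit 6])))))
 (TT.n (TT.n (TT.n (TT.l (Ty.srel [nat_lit 1, nat_lit 3, nat_lit 1, nat_lit 0, nat_lit 5, nat_lit 2, nat_lit 3, nat_lit 1, nat_lit 3, nat_lit 0, nat_lit 2, nat_lit 1, nat_lit 0, nat_lit 3, nat_lit 1, nat_lit 3, nat_lit 2, nat_lit 5, nat_lit 0, nat_lit 3, nat_lit 1, nat_lit 2, nat_lit 3, nat_lit 2]))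
 (TT.l (Ty.srel [nat_lit 0, nat_lit 7, nat_lit 0, nat_lit 7])))
 (TT.n (TT.l (Ty.srel [nat_lit 1, nat_lit 5, nat_lit 3, nat_lit 1, nat_lit 5, nat_lit 3, nat_lit 1, nat_lit 5, nat_lit 3]))
 (TT.l (Ty.srel [nat_lit 6, nat_lit 2, nat_lit 3, nat_lit 6, nat_lit 2, nat_lit 6, nat_lit 0, nat_lit 2, nat_lit 6, nat_lit 3, nat_lit 2, nat_lit 6, nat_lit 0, nat_lit 2, nat_lit 3, nat_lit 6, nat_lit 2, nat_lit 0]))))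
 (TT.n (TT.n (TT.l (Ty.relL (nat_lit 4) [nat_lit 0, nat_lit 4, nat_lit 0]))
 (TT.l (Ty.relL (nat_lit 2) [nat_lit 1, nat_lit 5, nat_lit 1, nat_lit 2, nat_lit 5, nat_lit 1, nat_lit 5, nat_lit 1])))
 (TT.l (Ty.srel [nat_lit 3, nat_lit 1, nat_lit 5, nat_lit 3, nat_lit 1, nat_lit 5, nat_lit 3, nat_lit 1, nat_lit 5])))))
 (TT.n (TT.n (TT.n (TT.n (TT.l (Ty.srel [nat_lit 5, nat_lit 4, nat_lit 5, nat_lit 4]))
 (TT.l (Ty.relL (nat_lit 2) [nat_lit 6, nat_lit 2, nat_lit 8, nat_lit 6, nat_lit 2, nat_lit 6, nat_lit 2, nat_lit 8])))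
 (TT.n (TT.l (Ty.srel [nat_lit 2, nat_lit 3, nat_lit 2, nat_lit 4, nat_lit 3, nat_lit 2, nat_lit 8, nat_lit 2, nat_lit 3, nat_lit 8, nat_lit 4, nat_lit 3, nat_lit 2, nat_lit 8]))
 (TT.l (Ty.srel [nat_lit 7, nat_lit 1, nat_lit 7, nat_lit 1]))))
 (TT.n (TT.n (TT.l (Ty.srel [nat_lit 1, nat_lit 2, nat_lit 1, nat_lit 2, nat_lit 1, nat_lit 2]))
 (TT.l (Ty.relL (nat_lit 5) [nat_lit 1, nat_lit 2, nat_lit 5, nat_lit 1, nat_lit 5, nat_lit 1, nat_lit 2, nat_lit 1])))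
 (TT.l (Ty.relL (nat_lit 3) [nat_lit 1, nat_lit 3, nat_lit 8, nat_lit 3, nat_lit 1, nat_lit 3, nat_lit 1, nat_lit 8]))))
 (TT.n (TT.n (TT.n (TT.l (Ty.relL (nat_lit 5) [nat_lit 6, nat_lit 7, nat_lit 3, nat_lit 5, nat_lit 7, nat_lit 3, nat_lit 7, nat_lit 0, nat_lit 5, nat_lit 3, nat_lit 7, nat_lit 6, nat_lit 5, nat_lit 3, nat_lit 0]))
 (TT.l (Ty.relL (nat_lit 3) [nat_lit 7, nat_lit 3, nat_lit 0, nat_lit 1, nat_lit 3, nat_lit 6, nat_lit 7, nat_lit 3, nat_lit 1])))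
 (TT.n (TT.l (Ty.srel [nat_lit 5, nat_lit 6, nat_lit 5, nat_lit 6, nat_lit 5, nat_lit 6]))
 (TT.l (Ty.relL (nat_lit 0) [nat_lit 5, nat_lit 6, nat_lit 7, nat_lit 3, nat_lit 5, nat_lit 7, nat_lit 3, nat_lit 7, nat_lit 0, nat_lit 5, nat_lit 3, nat_lit 7, nat_lit 6, nat_lit 5, nat_lit 3]))))
 (TT.n (TT.n (TT.l (Ty.srel [nat_lit 3, nat_lit 5, nat_lit 7, nat_lit 3, nat_lit 7, nat_lit 0, nat_lit 5, nat_lit 3, nat_lit 7, nat_lit 6, nat_lit 5, nat_lit 3, nat_lit 0, nat_lit 5, nat_lit 6, nat_lit 7]))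
 (TT.l (Ty.relL (nat_lit 1) [nat_lit 2, nat_lit 1, nat_lit 3, nat_lit 1, nat_lit 3, nat_lit 2, nat_lit 1, nat_lit 6, nat_lit 5, nat_lit 3, nat_lit 2, nat_lit 6, nat_lit 2, nat_lit 3, nat_lit 5, nat_lit 6])))
 (TT.l (Ty.relL (nat_lit 0) [nat_lit 6, nat_lit 0, nat_lit 6]))))))))))
noncomputable def C : Cert where
  tabs := [tab0, tab1, tab2, tab3, tab4, tab5, tab6, tab7, tab8, tab9, tab10, tab11, tab12, tab13, tab14, tab15, tab16, tab17, tab18, tab19, tab20]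
  tts := [ty0, ty1, ty2, ty3, ty4, ty5, ty6, ty7, ty8, ty9]
  k := nat_lit 8
  base := nat_lit 464
  mJ := nat_lit 130816
  mR := nat_lit 255
  W := nat_lit 37
  mA := nat_lit 134217727
  mI := nat_lit 131071
  S := nat_lit 27
  mC := nat_lit 1023
  nc := nat_lit 9
  lo := nat_lit 256
  live := nat_lit 98536
  hi1 := nat_lit 105130
  AW := nat_lit 23
  mAW := nat_lit 8388607
def il : List ℕ := [0, 1, 2, 3, 4, 5, 6, 7, 8]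
def rels : List (List ℕ) := [[0, 1, 0, 1],
  [0, 2, 0, 2, 0, 2],
  [0, 3, 0, 3],
  [0, 4, 0, 4],
  [0, 5, 0, 5, 0, 5],
  [0, 6, 0, 6],
  [0, 7, 0, 7],
  [0, 8, 0, 8],
  [1, 2, 1, 2, 1, 2],
  [1, 3, 1, 3, 1, 3, 1, 3],
  [1, 4, 1, 4],
  [1, 5, 1, 5, 1, 5, 1, 5],
  [1, 6, 1, 6],
  [1, 7, 1, 7],
  [1, 8, 1, 8],
  [2, 3, 2, 3, 2, 3],
  [2, 4, 2, 4],
  [2, 5, 2, 5],
  [2, 6, 2, 6, 2, 6, 2, 6],
  [2, 7, 2, 7],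
  [2, 8, 2, 8, 2, 8],
  [3, 4, 3, 4, 3, 4],
  [3, 5, 3, 5, 3, 5],
  [3, 6, 3, 6],
  [3, 7, 3, 7, 3, 7, 3, 7],
  [3, 8, 3, 8, 3, 8],
  [4, 5, 4, 5],
  [4, 6, 4, 6],
  [4, 7, 4, 7],
  [4, 8, 4, 8],
  [5, 6, 5, 6, 5, 6],
  [5, 7, 5, 7],
  [5, 8, 5, 8, 5, 8],
  [6, 7, 6, 7],
  [6, 8, 6, 8],
  [7, 8, 7, 8],
  [1, 2, 3, 1, 2, 3, 1, 2, 3, 1, 2, 3, 1, 2, 3],
  [0, 1, 2, 3, 2, 0, 1, 2, 3, 2, 0, 1, 2, 3, 2, 1, 0, 2, 3, 2, 1, 0, 2, 3, 2],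
  [0, 1, 2, 0, 1, 3, 1, 2, 0, 1, 3, 1, 2, 1, 3, 1, 0, 2, 1, 3, 1, 0, 2, 1, 3],
  [1, 3, 1, 3, 4, 3, 1, 3, 4],
  [0, 1, 2, 0, 3, 1, 3, 2, 5, 0, 1, 3, 1, 2, 3, 2, 1, 3, 0, 5, 2, 3, 1, 3],
  [1, 3, 5, 1, 3, 5, 1, 3, 5],
  [0, 2, 3, 6, 2, 0, 6, 2, 3, 6, 2, 6, 0, 2, 6, 3, 2, 6],
  [1, 2, 1, 5, 1, 2, 5, 1, 5],
  [1, 2, 1, 3, 1, 3, 2, 1, 6, 5, 3, 2, 6, 2, 3, 5, 6],
  [0, 1, 3, 6, 7, 3, 1, 3, 7, 3],
  [2, 5, 6, 2, 5, 6, 5, 2, 6],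
  [0, 3, 5, 6, 7, 3, 5, 0, 7, 3, 7, 5, 3, 7, 6, 5],
  [7, 4, 3, 5, 4, 2, 3, 7, 4, 3, 5, 4, 2, 3, 7, 4, 3, 5, 4, 2, 3, 7, 4, 3, 5, 4, 2, 3, 7, 4, 3, 5, 4, 2, 3],
  [1, 3, 1, 3, 8, 3, 1, 3, 8],
  [2, 6, 2, 6, 8, 2, 6, 2, 8],
  [2, 3, 2, 4, 3, 2, 8, 2, 3, 8, 4, 3, 2, 8],
  [2, 3, 2, 4, 7, 3, 2, 4, 7, 3, 2, 7, 3, 7, 8, 2, 3, 7, 4, 3, 7, 4, 3, 2, 8, 3, 7],
  [0, 2, 6, 5, 0, 7, 8, 5, 6, 2, 0, 8, 2, 6, 5, 8, 0, 5, 6, 2, 8]]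
def subs : List (List ℕ) := [[0],
  [1],
  [2],
  [3],
  [4],
  [5],
  [6],
  [7]]
theorem valid : C.valid il rels subs = true := by decide +kernel
end CfH6.LT12
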